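import Cfsg.Agent.Lib.Blocks.SymRank.Mirror
import Cfsg.Agent.Lib.Blocks.Covering
import Cfsg.Agent.Lib.Characters.Kernel

/-!
# The characters of the alternating group under a core class
-/

set_option linter.style.haveILetI false

namespace Cfsg.Agent.SymRank

open Equiv Cfsg.Agent.Characters Cfsg.Agent.Blocks Cfsg.Agent.BlockCharsA.NormalSupport
open Cfsg.Agent.CharTheory
open scoped ComplexConjugate

variable {n p : ℕ} {M : Ideal Cfsg.AlgInt}

local notation "Sₙ" => Perm (Fin n)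
local notation "Aₙ" => alternatingGroup (Fin n)

/-- Restriction to the alternating group. -/
noncomputable def resA (n : ℕ) : (Perm (Fin n) → ℂ) →ₗ[ℂ] (alternatingGroup (Fin n) → ℂ) :=
  LinearMap.funLeft ℂ ℂ Subtype.val

theorem resA_apply (f : Sₙ → ℂ) (g : Aₙ) : resA n f g = f (g : Sₙ) := rfl

theorem resA_pRegularPart (f : Sₙ → ℂ) :
    resA n (Cfsg.pRegularPart p f) = Cfsg.pRegularPart p (resA n f) := by
  funext g
  simp only [resA_apply, Cfsg.pRegularPart, Cfsg.IsPRegular, Subgroup.orderOf_coe]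
  split_ifs <;> simp_all

theorem resA_star {a : Fin n → ℤ} (ha : a ∈ incSt n n) :
    resA n (theta n (star a)) = resA n (theta n a) := by
  funext g
  rw [resA_apply, resA_apply, theta_star ha, Perm.mem_alternatingGroup.1 g.2]
  simp

theorem norm_resA [Nontrivial (Fin n)] {a : Fin n → ℤ} (ha : a ∈ incSt n n) :
    Cfsg.classInner (resA n (theta n a)) (resA n (theta n a)) = if star a = a then 2 else 1 := by
  classical
  have hd : ∀ b ∈ incSt n n, Cfsg.classInner (theta n b) (theta n a) =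
      if b = a then 1 else 0 := fun b hb => by
    rw [classInner_theta, gram_eq n b a (mem_incSt.1 hb).1 (mem_incSt.1 ha).1,
      del_strictMono (mem_incSt.1 hb).2 (mem_incSt.1 ha).2]
    split_ifs <;> simp
  have h1 := hd a ha
  have h2 := hd (star a) (star_mem ha)
  rw [if_pos rfl, classInner_def] at h1
  rw [classInner_def] at h2
  simp only [theta_star ha] at h2
  set F : Sₙ → ℂ := fun g => theta n a g * conj (theta n a g) with hF
  have hsum : ∑ g : Aₙ, F (g : Sₙ) =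
      (1 / 2) * ((∑ g, F g) + ∑ g, ((Perm.sign g : ℤ) : ℂ) * F g) := by
    rw [← Finset.sum_subtype ((Finset.univ : Finset Sₙ).filter fun g => Perm.sign g = 1)
      (fun g => by simp [Perm.mem_alternatingGroup]) F, Finset.sum_filter, ← Finset.sum_add_distrib,
      Finset.mul_sum]
    refine Finset.sum_congr rfl fun g _ => ?_
    rcases Int.units_eq_one_or (Perm.sign g) with e | e <;> simp [e] <;> ring
  have hcard : (Nat.card Sₙ : ℂ) = 2 * (Nat.card Aₙ : ℂ) := by
    rw [Nat.card_eq_fintype_card, Nat.card_eq_fintype_card, ← two_mul_card_alternatingGroup]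
    push_cast
    ring
  rw [classInner_def, show ∑ g : Aₙ, resA n (theta n a) g * conj (resA n (theta n a) g) =
    ∑ g : Aₙ, F (g : Sₙ) from rfl, hsum]
  simp only [mul_assoc] at h2
  have hA : (Nat.card Aₙ : ℂ) ≠ 0 := natCard_ne_zero
  rw [hcard] at h1 h2
  calc (Nat.card Aₙ : ℂ)⁻¹ * (1 / 2 * ((∑ g, F g) + ∑ g, ((Perm.sign g : ℤ) : ℂ) * F g))
      = (2 * (Nat.card Aₙ : ℂ))⁻¹ * (∑ g, F g) +
          (2 * (Nat.card Aₙ : ℂ))⁻¹ * ∑ g, ((Perm.sign g : ℤ) : ℂ) * F g := by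
        field_simp
    _ = _ := by
        rw [h1, h2]
        split_ifs <;> norm_num

/-- The product with the sign character. -/
noncomputable def sgnHom (n : ℕ) : Perm (Fin n) →* ℂˣ :=
  (Units.map (Int.castRingHom ℂ).toMonoidHom).comp Perm.sign

theorem sgnHom_apply (g : Sₙ) : (sgnHom n g : ℂ) = ((Perm.sign g : ℤ) : ℂ) := rfl

/-- The sign twist of an irreducible character. -/
noncomputable def sgnIrr (χ : Cfsg.IrrCharacter (Perm (Fin n))) :
    Cfsg.IrrCharacter (Perm (Fin n)) :=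
  ⟨_, isIrrCharacter_mul_linear χ.2 (sgnHom n)⟩

theorem sgnIrr_apply (χ : Cfsg.IrrCharacter Sₙ) (g : Sₙ) :
    (sgnIrr χ : Sₙ → ℂ) g = ((Perm.sign g : ℤ) : ℂ) * (χ : Sₙ → ℂ) g := rfl

theorem sgnIrr_sgnIrr (χ : Cfsg.IrrCharacter Sₙ) : sgnIrr (sgnIrr χ) = χ := by
  refine Subtype.ext (funext fun g => ?_)
  rw [sgnIrr_apply, sgnIrr_apply, ← mul_assoc, ← Int.cast_mul, ← Units.val_mul,
    Int.units_mul_self, Units.val_one, Int.cast_one, one_mul]

theorem resA_sgnIrr (χ : Cfsg.IrrCharacter Sₙ) :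
    resA n (sgnIrr χ : Sₙ → ℂ) = resA n (χ : Sₙ → ℂ) := by
  funext g
  rw [resA_apply, resA_apply, sgnIrr_apply, Perm.mem_alternatingGroup.1 g.2]
  simp

theorem cnt_star_congr {a b : Fin n → ℤ} (ha : a ∈ incSt n n) (hb : b ∈ incSt n n)
    (h : cnt p a = cnt p b) : cnt p (star a) = cnt p (star b) := by
  funext r
  rw [cnt_star ha, cnt_star hb, h]

theorem sgn_mem_coreClass {a : Fin n → ℤ} (ha : a ∈ incSt n n) {χ : Cfsg.IrrCharacter Sₙ}
    (h : χ ∈ coreClass p n (cnt p a)) : sgnIrr χ ∈ coreClass p n (cnt p (star a)) := by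
  obtain ⟨b, ε, hb, hbc, he⟩ := h
  refine ⟨star b, ε, star_mem hb, cnt_star_congr hb ha hbc, funext fun g => ?_⟩
  rw [sgnIrr_apply, he, Pi.smul_apply, Pi.smul_apply, smul_eq_mul, smul_eq_mul, theta_star hb]
  ring

/-- A character of the alternating group lies under a tuple. -/
def Under (a : Fin n → ℤ) (ψ : Cfsg.IrrCharacter (alternatingGroup (Fin n))) : Prop :=
  ∃ (χ : Cfsg.IrrCharacter (Perm (Fin n))) (ε : ℂ), (χ : Perm (Fin n) → ℂ) = ε • theta n a ∧
    Cfsg.classInner (fun g : alternatingGroup (Fin n) => (χ : Perm (Fin n) → ℂ) g)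
      (ψ : alternatingGroup (Fin n) → ℂ) ≠ 0

theorem exists_under_tuple (ψ : Cfsg.IrrCharacter Aₙ) : ∃ a ∈ incSt n n, Under a ψ := by
  obtain ⟨χ, hχ⟩ := exists_over ψ
  obtain ⟨a, ε, ha, -, he⟩ := exists_tuple (le_refl n) χ
  exact ⟨a, ha, χ, ε, he, hχ⟩

theorem exists_constituent {a : Fin n → ℤ} (ha : a ∈ incSt n n) :
    ∃ ψ : Cfsg.IrrCharacter Aₙ, Under a ψ := by
  obtain ⟨χ, ε, hε, he⟩ := theta_irr (mem_incSt.1 ha).1
  obtain ⟨ψ, hψ⟩ := exists_under (N := Aₙ) χ
  refine ⟨ψ, χ, ε, ?_, hψ⟩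
  rw [he, smul_smul]
  rcases hε with h | h <;> simp [h]

/-- Every member of a block of the alternating group lies under the core class of one of them. -/
theorem exists_tuple_over (hM : Cfsg.IsPModular p M) {B : Set (Cfsg.IrrCharacter Aₙ)}
    (hB : Cfsg.IsPBlock M B) {a0 : Fin n → ℤ} (ha0 : a0 ∈ incSt n n)
    {ψ0 : Cfsg.IrrCharacter Aₙ} (hψ0 : ψ0 ∈ B) (h0 : Under a0 ψ0) {ψ : Cfsg.IrrCharacter Aₙ}
    (hψ : ψ ∈ B) : ∃ a ∈ incSt n n, cnt p a = cnt p a0 ∧ Under a ψ := by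
  classical
  haveI := Fintype.ofFinite (Cfsg.IrrCharacter Sₙ)
  set Y : Set (Cfsg.IrrCharacter Sₙ) :=
    coreClass p n (cnt p a0) ∪ coreClass p n (cnt p (star a0)) with hY
  have hYc : IntEl M (blockIdem Y) := intEl_blockIdem_of_closed hM fun χ hχ χ' hs => by
    rcases hχ with h | h
    · exact Or.inl (block_subset_coreClass hM (isPBlock_blockOf M χ) (mem_blockOf_self hM χ) h hs)
    · exact Or.inr (block_subset_coreClass hM (isPBlock_blockOf M χ) (mem_blockOf_self hM χ) h hs)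
  have hstab : ∀ χ, χ ∈ Y → sgnIrr χ ∈ Y := fun χ hχ => by
    rcases hχ with h | h
    · exact Or.inr (sgn_mem_coreClass ha0 h)
    · have := sgn_mem_coreClass (star_mem ha0) h
      rw [star_star ha0] at this
      exact Or.inl this
  have hsupp : BlockCharsA.NormalSupport.push Aₙ (res Aₙ (blockIdem Y)) = blockIdem Y := push_res fun g hg => by
    have hsg : Perm.sign g = -1 :=
      (Int.units_eq_one_or _).resolve_left fun e => hg (Perm.mem_alternatingGroup.2 e)
    rw [coeff_blockIdem, blockCoeff_eq_sum]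
    refine mul_eq_zero_of_right _ (self_eq_neg.1 ?_)
    rw [← Finset.sum_neg_distrib]
    refine Fintype.sum_bijective sgnIrr
      (Function.Involutive.bijective fun χ => sgnIrr_sgnIrr χ) _ _ fun χ => ?_
    by_cases hm : χ ∈ Y
    · rw [if_pos hm, if_pos (hstab χ hm), sgnIrr_apply, sgnIrr_apply, hsg, map_one]
      simp
    · rw [if_neg hm, if_neg fun h => hm (sgnIrr_sgnIrr χ ▸ hstab _ h), neg_zero]
  obtain ⟨χ0, ε0, he0, hc0⟩ := h0
  obtain ⟨χ, hχ⟩ := exists_over ψ
  have hinv : IsInvEl (res Aₙ (blockIdem Y)) := isInvEl_res (central_blockIdem _)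
  have hcong : Cong M (omega (χ : Sₙ → ℂ) (blockIdem Y)) (omega (χ0 : Sₙ → ℂ) (blockIdem Y)) := by
    rw [← hsupp, omega_push_eq χ ψ hχ hinv, omega_push_eq χ0 ψ0 hc0 hinv]
    exact omega_cong_of_mem hM hB hψ hψ0 (central_of_isInvEl hinv) (intEl_res hYc)
  rw [omega_blockIdem_mem (show χ0 ∈ Y from Or.inl ⟨a0, ε0, ha0, rfl, he0⟩)] at hcong
  have hχY : χ ∈ Y := by
    by_contra hne
    rw [omega_blockIdem_notMem hne] at hcong
    exact not_cong_zero_one hM hcong
  obtain ⟨χ', hχ', hψ'⟩ : ∃ χ' ∈ coreClass p n (cnt p a0),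
      Cfsg.classInner (fun g : Aₙ => (χ' : Sₙ → ℂ) g) (ψ : Aₙ → ℂ) ≠ 0 := by
    rcases hχY with h | h
    · exact ⟨χ, h, hχ⟩
    · refine ⟨sgnIrr χ, ?_, ?_⟩
      · have := sgn_mem_coreClass (star_mem ha0) h
        rwa [star_star ha0] at this
      · change Cfsg.classInner (resA n (sgnIrr χ : Sₙ → ℂ)) _ ≠ 0
        rw [resA_sgnIrr]
        exact hχ
  obtain ⟨a, ε, ha, hc, he⟩ := hχ'
  exact ⟨a, ha, hc, χ', ε, he, hψ'⟩

/-- A tuple without symmetry restricts to an irreducible character, up to a scalar. -/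
theorem under_of_ne [Nontrivial (Fin n)] {a : Fin n → ℤ} (ha : a ∈ incSt n n) (hs : star a ≠ a)
    {ψ : Cfsg.IrrCharacter Aₙ} (h : Under a ψ) :
    ∃ d : ℂ, (ψ : Aₙ → ℂ) = d • resA n (theta n a) := by
  obtain ⟨χ, ε, he, hc⟩ := h
  refine ⟨ε, ?_⟩
  have hn1 : Cfsg.classInner (resA n (χ : Sₙ → ℂ)) (resA n (χ : Sₙ → ℂ)) = 1 := by
    have h1 : Cfsg.classInner (χ : Sₙ → ℂ) (χ : Sₙ → ℂ) = 1 := classInner_isIrr_self χ.2
    rw [he, classInner_smul_left, classInner_smul_right, classInner_theta,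
      gram_eq n a a (mem_incSt.1 ha).1 (mem_incSt.1 ha).1, del_self (mem_incSt.1 ha).2.injective] at h1
    rw [he, map_smul, classInner_smul_left, classInner_smul_right, norm_resA ha, if_neg hs]
    simpa using h1
  have hi := isIrr_of_isCharacter_of_norm_one (isCharacter_restrict Aₙ (irr_isCharacter χ)) hn1
  have heq : (fun g : Aₙ => (χ : Sₙ → ℂ) g) = (ψ : Aₙ → ℂ) := by
    by_contra hne
    exact hc (classInner_isIrr_ne hi ψ.2 hne)
  rw [← heq, ← map_smul, ← he]
  rfl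

theorem conjBy_of_mem {θ : Aₙ → ℂ} (hθ : Cfsg.IsClassFunction Aₙ θ) {g : Sₙ} (hg : g ∈ Aₙ) :
    Clifford.conjBy Aₙ g θ = θ := funext fun x => hθ x ⟨g, hg⟩

theorem conjBy_of_notMem {θ : Aₙ → ℂ} (hθ : Cfsg.IsClassFunction Aₙ θ) {g x : Sₙ} (hg : g ∉ Aₙ)
    (hx : x ∉ Aₙ) : Clifford.conjBy Aₙ x θ = Clifford.conjBy Aₙ g θ := by
  have hm : x * g⁻¹ ∈ Aₙ := by
    rw [Perm.mem_alternatingGroup] at hg hx ⊢
    rw [map_mul, map_inv, (Int.units_eq_one_or _).resolve_left hg,
      (Int.units_eq_one_or _).resolve_left hx]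
    rfl
  conv_rhs => rw [← conjBy_of_mem hθ hm, Clifford.conjBy_conjBy, inv_mul_cancel_right]

/-- Clifford's formula for the alternating group. -/
theorem restrict_eq_pair [Nontrivial (Fin n)] {χ : Cfsg.IrrCharacter Sₙ}
    {ψ0 : Cfsg.IrrCharacter Aₙ} {g : Sₙ} (hg : g ∉ Aₙ)
    (h0 : Cfsg.classInner (resA n (χ : Sₙ → ℂ)) (ψ0 : Aₙ → ℂ) ≠ 0) :
    ∃ k : ℂ, k ≠ 0 ∧
      resA n (χ : Sₙ → ℂ) = k • ((ψ0 : Aₙ → ℂ) + Clifford.conjBy Aₙ g (ψ0 : Aₙ → ℂ)) := by
  classical
  have hcl := irr_isClassFunction ψ0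
  let T : Subgroup Sₙ :=
    { carrier := {x | Clifford.conjBy Aₙ x (ψ0 : Aₙ → ℂ) = ψ0}
      one_mem' := Clifford.conjBy_one Aₙ _
      mul_mem' := fun {a b} ha hb => by
        simp only [Set.mem_ofPred_eq] at ha hb ⊢
        rw [← Clifford.conjBy_conjBy, ha, hb]
      inv_mem' := fun {a} ha => by
        simp only [Set.mem_ofPred_eq] at ha ⊢
        have := congrArg (Clifford.conjBy Aₙ a⁻¹) ha
        rwa [Clifford.conjBy_conjBy, mul_inv_cancel, Clifford.conjBy_one, eq_comm] at this }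
  have h := Clifford.card_smul_restrict Aₙ χ.2 ψ0.2 h0 T fun _ => Iff.rfl
  set m := Cfsg.classInner (fun x : Aₙ => (χ : Sₙ → ℂ) x) (ψ0 : Aₙ → ℂ) with hm
  have hcard : (Finset.univ.filter fun x : Sₙ => x ∈ Aₙ).card = Nat.card Aₙ := by
    rw [Nat.card_eq_fintype_card]
    exact (Fintype.card_subtype _).symm
  have hcard' : (Finset.univ.filter fun x : Sₙ => x ∉ Aₙ).card = Nat.card Aₙ := by
    rw [← hcard]
    refine Finset.card_equiv (Equiv.mulRight g) fun x => ?_
    simp only [Finset.mem_filter, Finset.mem_univ, true_and, Equiv.coe_mulRight,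
      Perm.mem_alternatingGroup, map_mul]
    rw [(Int.units_eq_one_or _).resolve_left (fun e => hg (Perm.mem_alternatingGroup.2 e))]
    rcases Int.units_eq_one_or (Perm.sign x) with e | e <;> simp [e]
  have hsum : ∑ x : Sₙ, Clifford.conjBy Aₙ x (ψ0 : Aₙ → ℂ) =
      (Nat.card Aₙ : ℂ) • ((ψ0 : Aₙ → ℂ) + Clifford.conjBy Aₙ g (ψ0 : Aₙ → ℂ)) := by
    rw [← Finset.sum_filter_add_sum_filter_not _ (fun x : Sₙ => x ∈ Aₙ),
      Finset.sum_congr rfl fun x hx => conjBy_of_mem hcl (Finset.mem_filter.1 hx).2,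
      Finset.sum_congr rfl fun x hx => conjBy_of_notMem hcl hg (Finset.mem_filter.1 hx).2,
      Finset.sum_const, Finset.sum_const, hcard, hcard', smul_add, Nat.cast_smul_eq_nsmul,
      Nat.cast_smul_eq_nsmul]
  rw [hsum, smul_smul] at h
  refine ⟨(Nat.card T : ℂ)⁻¹ * (m * (Nat.card Aₙ : ℂ)),
    mul_ne_zero (inv_ne_zero natCard_ne_zero) (mul_ne_zero h0 natCard_ne_zero), ?_⟩
  rw [← smul_smul, ← h, smul_smul, inv_mul_cancel₀ natCard_ne_zero, one_smul]
  rfl

/-- The constituents of one tuple lie in the span of its restriction and any one of them. -/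
theorem mem_span_pair [Nontrivial (Fin n)] {a : Fin n → ℤ} (ha : a ∈ incSt n n)
    {ψ0 ψ : Cfsg.IrrCharacter Aₙ} (h0 : Under a ψ0) (h : Under a ψ) :
    (ψ : Aₙ → ℂ) ∈ Submodule.span ℂ {resA n (theta n a), (ψ0 : Aₙ → ℂ)} := by
  obtain ⟨χ, ε, he, hc⟩ := h
  obtain ⟨χ', ε', he', hc'⟩ := h0
  have hχ : χ' = χ := by
    by_contra hne
    have hh := classInner_irr χ' χ
    rw [if_neg hne, he, he', classInner_smul_left, classInner_smul_right, classInner_theta,
      gram_eq n a a (mem_incSt.1 ha).1 (mem_incSt.1 ha).1, del_self (mem_incSt.1 ha).2.injective] at hh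
    rcases mul_eq_zero.1 hh with e | e
    · exact hc' (by rw [he', e]; simp [classInner_def])
    rcases mul_eq_zero.1 e with e | e
    · exact hc (by rw [he, (map_eq_zero _).1 e]; simp [classInner_def])
    · simp at e
  subst hχ
  obtain ⟨g, hg⟩ := Clifford.exists_conjBy_eq Aₙ χ'.2 ψ0.2 ψ.2 hc' hc
  by_cases hgA : g ∈ Aₙ
  · rw [← hg, conjBy_of_mem (irr_isClassFunction ψ0) hgA]
    exact Submodule.subset_span (Set.mem_insert_of_mem _ rfl)
  obtain ⟨k, hk, hres⟩ := restrict_eq_pair hgA (show Cfsg.classInner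
    (resA n (χ' : Sₙ → ℂ)) (ψ0 : Aₙ → ℂ) ≠ 0 from hc')
  rw [he', map_smul, hg] at hres
  have hψ : (ψ : Aₙ → ℂ) = (k⁻¹ * ε') • resA n (theta n a) - (ψ0 : Aₙ → ℂ) := by
    rw [← smul_smul, hres, smul_smul, inv_mul_cancel₀ hk, one_smul, add_sub_cancel_left]
  rw [hψ]
  exact Submodule.sub_mem _ (Submodule.smul_mem _ _ (Submodule.subset_span (Set.mem_insert _ _)))
    (Submodule.subset_span (Set.mem_insert_of_mem _ rfl))

/-- A symmetric tuple restricts to the sum of two characters of half the degree. -/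
theorem degree_of_eq [Nontrivial (Fin n)] {a : Fin n → ℤ} (ha : a ∈ incSt n n) (hs : star a = a)
    {χ : Cfsg.IrrCharacter Sₙ} {ε : ℂ} (he : (χ : Sₙ → ℂ) = ε • theta n a)
    {ψ : Cfsg.IrrCharacter Aₙ}
    (hc : Cfsg.classInner (resA n (χ : Sₙ → ℂ)) (ψ : Aₙ → ℂ) ≠ 0) :
    (χ : Sₙ → ℂ) 1 = 2 * (ψ : Aₙ → ℂ) 1 := by
  have hnorm : Cfsg.classInner (resA n (χ : Sₙ → ℂ)) (resA n (χ : Sₙ → ℂ)) = 2 := by
    have h1 : Cfsg.classInner (χ : Sₙ → ℂ) (χ : Sₙ → ℂ) = 1 := classInner_isIrr_self χ.2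
    rw [he, classInner_smul_left, classInner_smul_right, classInner_theta,
      gram_eq n a a (mem_incSt.1 ha).1 (mem_incSt.1 ha).1, del_self (mem_incSt.1 ha).2.injective] at h1
    rw [he, map_smul, classInner_smul_left, classInner_smul_right, norm_resA ha, if_pos hs,
      ← mul_assoc]
    simp only [Int.cast_one, Rat.cast_one, mul_one] at h1
    rw [h1, one_mul]
  obtain ⟨i, j, hij⟩ := exists_pair_ne (Fin n)
  have hg : Equiv.swap i j ∉ Aₙ := by
    rw [Perm.mem_alternatingGroup, Perm.sign_swap hij]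
    decide
  obtain ⟨k, hk, hres⟩ := restrict_eq_pair hg hc
  set φ : Cfsg.IrrCharacter Aₙ := conjIrr (Equiv.swap i j) ψ with hφ
  change resA n (χ : Sₙ → ℂ) = k • ((ψ : Aₙ → ℂ) + (φ : Aₙ → ℂ)) at hres
  obtain ⟨m, hm⟩ := classInner_char_nat (isCharacter_restrict Aₙ (irr_isCharacter χ))
    (irr_isCharacter ψ)
  change Cfsg.classInner (resA n (χ : Sₙ → ℂ)) (ψ : Aₙ → ℂ) = m at hm
  rw [hres, classInner_smul_left, classInner_add_left, classInner_irr, classInner_irr, if_pos rfl]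
    at hm
  rw [hres, classInner_smul_left, classInner_smul_right, classInner_add_left, classInner_add_right,
    classInner_add_right, classInner_irr, classInner_irr, classInner_irr, classInner_irr,
    if_pos rfl, if_pos rfl] at hnorm
  by_cases hφψ : φ = ψ
  · exfalso
    rw [if_pos hφψ] at hm
    rw [if_pos hφψ, if_pos hφψ.symm] at hnorm
    have hkr : k = (m : ℂ) / 2 := by rw [← hm]; ring
    rw [hkr, map_div₀, map_natCast, Complex.conj_ofNat] at hnorm
    have h2 : (m * m : ℕ) = 2 := by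
      have : (m : ℂ) * m = 2 := by linear_combination hnorm
      exact_mod_cast this
    have : m ≤ 2 := by nlinarith
    interval_cases m <;> omega
  rw [if_neg hφψ, add_zero, mul_one] at hm
  rw [if_neg hφψ, if_neg (Ne.symm hφψ), hm, map_natCast] at hnorm
  have h2 : m * m = 1 := by
    have : (m : ℂ) * m = 1 := by linear_combination hnorm / 2
    exact_mod_cast this
  have hm1 : m = 1 := by nlinarith
  have h3 := congrFun hres 1
  rw [hm, hm1, Nat.cast_one, one_smul, resA_apply, Pi.add_apply, coe_conjIrr,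
    Clifford.conjBy_at_one] at h3
  rw [OneMemClass.coe_one] at h3
  rw [h3, two_mul]

/-! ## The span bound -/

open scoped Classical in
/-- The symmetric tuples of a core class. -/
noncomputable def selfSet (p n : ℕ) (c : ZMod p → ℕ) : Finset (Fin n → ℤ) :=
  (incSt n n).filter fun a => cnt p a = c ∧ star a = a

theorem mem_selfSet {c : ZMod p → ℕ} {a : Fin n → ℤ} :
    a ∈ selfSet p n c ↔ a ∈ incSt n n ∧ cnt p a = c ∧ star a = a := by
  simp [selfSet]

/-- The regular part of the restriction of a tuple. -/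
noncomputable def altVec (p n : ℕ) (a : Fin n → ℤ) : alternatingGroup (Fin n) → ℂ :=
  Cfsg.pRegularPart p (resA n (theta n a))

open scoped Classical in
theorem altRank_le [Nontrivial (Fin n)] (hM : Cfsg.IsPModular p M) (r : ZMod p)
    {B : Set (Cfsg.IrrCharacter Aₙ)} (hB : Cfsg.IsPBlock M B) {a0 : Fin n → ℤ}
    (ha0 : a0 ∈ incSt n n) {ψ0 : Cfsg.IrrCharacter Aₙ} (hψ0 : ψ0 ∈ B) (h0 : Under a0 ψ0) :
    Cfsg.blockRank p B ≤ ((gapless p n r (cnt p a0)).image (altVec p n)).card +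
      (selfSet p n (cnt p a0)).card := by
  classical
  haveI : Nonempty (Cfsg.IrrCharacter Aₙ) := ⟨ψ0⟩
  choose! pick hpick using fun a (ha : a ∈ selfSet p n (cnt p a0)) =>
    exists_constituent (mem_selfSet.1 ha).1
  set S₁ := (gapless p n r (cnt p a0)).image (altVec p n) with hS₁
  set S₂ := (selfSet p n (cnt p a0)).image fun a => Cfsg.pRegularPart p (pick a : Aₙ → ℂ) with hS₂
  refine le_trans ?_ (Nat.add_le_add_left
    (Finset.card_image_le (f := fun a => Cfsg.pRegularPart p (pick a : Aₙ → ℂ))) _)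
  refine le_trans ?_ (Finset.card_union_le S₁ S₂)
  refine le_trans ?_ (finrank_span_finset_le_card (R := ℂ) (S₁ ∪ S₂))
  refine Submodule.finrank_mono (Submodule.span_le.2 ?_)
  rintro _ ⟨ψ, hψ, rfl⟩
  obtain ⟨a, ha, hc, hu⟩ := exists_tuple_over hM hB ha0 hψ0 h0 hψ
  beta_reduce
  have hgen : altVec p n a ∈ Submodule.span ℂ ((S₁ ∪ S₂ : Finset (Aₙ → ℂ)) : Set (Aₙ → ℂ)) := by
    have h := Submodule.mem_map_of_mem (f := resA n) (regPart_mem_span hM.1 r (mem_incSt.1 ha).1)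
    rw [Submodule.map_span, resA_pRegularPart, hc] at h
    refine Submodule.span_mono ?_ h
    rintro _ ⟨_, ⟨b, hb, rfl⟩, rfl⟩
    rw [resA_pRegularPart]
    exact Finset.mem_coe.2 (Finset.mem_union_left _
      (Finset.mem_image_of_mem _ (Finset.mem_coe.1 hb)))
  rw [SetLike.mem_coe]
  by_cases hs : star a = a
  swap
  · obtain ⟨d, hd⟩ := under_of_ne ha hs hu
    rw [hd, pRegularPart_smul]
    exact Submodule.smul_mem _ _ hgen
  have hmem : a ∈ selfSet p n (cnt p a0) := mem_selfSet.2 ⟨ha, hc, hs⟩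
  obtain ⟨x, y, hxy⟩ := Submodule.mem_span_pair.1 (mem_span_pair ha (hpick a hmem) hu)
  have he : Cfsg.pRegularPart p (ψ : Aₙ → ℂ) =
      x • altVec p n a + y • Cfsg.pRegularPart p (pick a : Aₙ → ℂ) := by
    rw [← hxy]
    funext g
    simp only [altVec, Cfsg.pRegularPart, Pi.add_apply, Pi.smul_apply, smul_eq_mul]
    split_ifs <;> ring
  rw [he]
  exact Submodule.add_mem _ (Submodule.smul_mem _ _ hgen) (Submodule.smul_mem _ _
    (Submodule.subset_span (Finset.mem_coe.2 (Finset.mem_union_right _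
      (Finset.mem_image_of_mem _ hmem)))))

/-- A map invariant under an involution has small image. -/
theorem two_card_image_le {α β : Type*} [DecidableEq α] [DecidableEq β] {s : Finset α} {σ : α → α}
    (f : α → β) (hs : ∀ x ∈ s, σ x ∈ s) (hf : ∀ x ∈ s, f (σ x) = f x) :
    2 * (s.image f).card ≤ s.card + (s.filter fun x => σ x = x).card := by
  classical
  rw [Finset.card_eq_sum_card_fiberwise (fun x hx => Finset.mem_image_of_mem f hx),
    Finset.card_eq_sum_card_fiberwise (s := s.filter fun x => σ x = x) (f := f) (t := s.image f)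
      (fun x hx => Finset.mem_image_of_mem f (Finset.mem_of_mem_filter x hx)),
    ← Finset.sum_add_distrib, mul_comm, ← smul_eq_mul]
  refine Finset.card_nsmul_le_sum _ _ _ fun b hb => ?_
  obtain ⟨x, hx, rfl⟩ := Finset.mem_image.1 hb
  by_cases hfix : σ x = x
  · have h1 : 0 < (s.filter fun y => f y = f x).card :=
      Finset.card_pos.2 ⟨x, Finset.mem_filter.2 ⟨hx, rfl⟩⟩
    have h2 : 0 < ((s.filter fun x => σ x = x).filter fun y => f y = f x).card :=
      Finset.card_pos.2 ⟨x, Finset.mem_filter.2 ⟨Finset.mem_filter.2 ⟨hx, hfix⟩, rfl⟩⟩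
    omega
  · have h1 : ({x, σ x} : Finset α).card ≤ (s.filter fun y => f y = f x).card := by
      refine Finset.card_le_card (Finset.insert_subset (Finset.mem_filter.2 ⟨hx, rfl⟩) ?_)
      exact Finset.singleton_subset_iff.2 (Finset.mem_filter.2 ⟨hs x hx, hf x hx⟩)
    rw [Finset.card_pair (Ne.symm hfix)] at h1
    omega

open scoped Classical in
theorem two_card_altVec_le {c : ZMod p → ℕ} {r : ZMod p}
    (hr : 2 * r = ((2 * (n : ℤ) - 1 : ℤ) : ZMod p)) {a : Fin n → ℤ} (hsa : a ∈ selfSet p n c) :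
    2 * ((gapless p n r c).image (altVec p n)).card ≤
      (gapless p n r c).card + (selfSet p n c).card := by
  classical
  obtain ⟨ha, hac, has⟩ := mem_selfSet.1 hsa
  refine (two_card_image_le (σ := star) (altVec p n) (fun b hb => ?_) fun b hb => ?_).trans
    (Nat.add_le_add_left (Finset.card_le_card fun b hb => ?_) _)
  · obtain ⟨h1, h2, h3⟩ := mem_gapless.1 hb
    refine mem_gapless.2 ⟨star_mem h1, ?_, fun h => h3 (hasGap_star h1 hr h)⟩
    rw [cnt_star_congr h1 ha (h2.trans hac.symm), has, hac]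
  · rw [altVec, altVec, resA_star (mem_gapless.1 hb).1]
  · obtain ⟨h1, h2⟩ := Finset.mem_filter.1 hb
    exact mem_selfSet.2 ⟨(mem_gapless.1 h1).1, (mem_gapless.1 h1).2.1, h2⟩

theorem selfSet_card_le [NeZero p] (hp : p.Prime) {w r0 : ℕ} {κ : Finset ℤ} (hn : n = r0 + p * w)
    (h1 : ∀ x ∈ κ, 0 ≤ x) (h2 : ∀ x, ¬ Movable p κ x)
    (h3 : ∑ x ∈ κ, x = (r0 : ℤ) + off n) : (selfSet p n (cntS p κ)).card ≤ symBound p w := by
  classical
  have hinj : Set.InjOn (fun a : Fin n → ℤ => Finset.univ.image a) (selfSet p n (cntS p κ)) := by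
    intro a ha b hb he
    have ha' := (mem_incSt.1 (mem_selfSet.1 (Finset.mem_coe.1 ha)).1).2
    have hb' := (mem_incSt.1 (mem_selfSet.1 (Finset.mem_coe.1 hb)).1).2
    refine (ha'.range_inj hb').1 ?_
    simpa using congrArg (fun s : Finset ℤ => (s : Set ℤ)) he
  rw [← Finset.card_image_of_injOn hinj]
  refine card_sym_le (N := n) ?_ hp.eq_two_or_odd' h1 h2 w _ fun β hβ => ?_
  · rcases hp.two_le.eq_or_lt with h | h
    · exact Or.inl h.symm
    · exact Or.inr h
  obtain ⟨a, ha, rfl⟩ := Finset.mem_image.1 hβ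
  obtain ⟨hst, hc, hs⟩ := mem_selfSet.1 ha
  have hst' := (mem_incSt.1 hst).1
  refine ⟨isSymSet_of_star hst hs, by rw [cntS_image p hst'.2.1, hc], ?_⟩
  rw [sum_image' hst'.2.1, hst'.2.2, h3]
  have : (n : ℤ) = (r0 : ℤ) + (p : ℤ) * w := by exact_mod_cast hn
  omega

end Cfsg.Agent.SymRank
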