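import Cfsg.Agent.Lib.Blocks.SymRank.Complete
import Cfsg.Agent.Lib.Characters.Schur
import Cfsg.Agent.Lib.Characters.Induction

/-!
# The irreducible characters of the symmetric groups, up to sign
-/

set_option linter.style.haveILetI false

namespace Cfsg.Agent.SymRank

open Equiv Cfsg.Agent.Characters

variable {N n : ℕ}

/-- The cycle type of a permutation, fixed points included. -/
def typeOf (g : Perm (Fin n)) : Multiset ℕ := g.partition.parts

theorem typeOf_sum (g : Perm (Fin n)) : (typeOf g).sum = n :=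
  g.partition.parts_sum.trans (Fintype.card_fin n)

theorem typeOf_conj (g h : Perm (Fin n)) : typeOf (h * g * h⁻¹) = typeOf g :=
  congrArg Nat.Partition.parts (Perm.partition_eq_of_isConj.1 (isConj_iff.2 ⟨h, rfl⟩).symm)

/-- The partition of `n` given by a permutation. -/
def partOf (g : Perm (Fin n)) : n.Partition :=
  ⟨typeOf g, fun h => g.partition.parts_pos h, typeOf_sum g⟩

/-- A colouring of cycles. -/
theorem val_colour_fin : ∀ (k : ℕ) (s : Fin k → ℕ) (v : Fin N → ℤ),
    val ((Finset.univ : Finset (Fin k)).val.map s) v =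
      ∑ f : Fin k → Fin N, base (v - ∑ o, Pi.single (f o) (s o : ℤ)) := by
  intro k
  induction k with
  | zero => intro s v; simp [val_zero]
  | succ k ih =>
    intro s v
    rw [Fin.univ_succ, Finset.cons_val, Multiset.map_cons, Finset.map_val, Multiset.map_map,
      val_cons]
    rw [← (Fin.consEquiv fun _ : Fin (k + 1) => Fin N).sum_comp, Fintype.sum_prod_type]
    refine Finset.sum_congr rfl fun i _ => ?_
    rw [show (s ∘ (⟨Fin.succ, Fin.succ_injective _⟩ : Fin k ↪ Fin (k + 1))) = fun o => s o.succ from rfl,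
      ih]
    refine Finset.sum_congr rfl fun f _ => ?_
    simp [sub_sub]

theorem val_colour {O : Type*} [Fintype O] [DecidableEq O] (s : O → ℕ) (v : Fin N → ℤ) :
    val ((Finset.univ : Finset O).val.map s) v =
      ∑ f : O → Fin N, base (v - ∑ o, Pi.single (f o) (s o : ℤ)) := by
  classical
  have e := Fintype.equivFin O
  have hm : (Finset.univ : Finset O).val.map s =
      (Finset.univ : Finset (Fin (Fintype.card O))).val.map (s ∘ e.symm) := by
    rw [← Finset.map_univ_equiv e.symm, Finset.map_val, Multiset.map_map]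
    rfl
  rw [hm, val_colour_fin]
  refine Fintype.sum_equiv (Equiv.arrowCongr e.symm (Equiv.refl _)) _ _ fun f => ?_
  congr 2
  refine Fintype.sum_equiv e.symm _ _ fun o => ?_
  simp [Equiv.arrowCongr]

/-- The colour multiplicities. -/
def content (c : Fin n → Fin N) : Fin N → ℤ := ∑ x, Pi.single (c x) (1 : ℤ)

theorem content_comp (c : Fin n → Fin N) (g : Perm (Fin n)) : content (c ∘ g) = content c :=
  Equiv.sum_comp g fun x => (Pi.single (c x) (1 : ℤ) : Fin N → ℤ)

/-- The orbit labels of a permutation. -/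
abbrev Orb (g : Perm (Fin n)) := {c // c ∈ g.cycleFactorsFinset} ⊕ {x : Fin n // g x = x}

/-- The orbit of a point. -/
def owner (g : Perm (Fin n)) (x : Fin n) : Orb g :=
  if h : g x = x then Sum.inr ⟨x, h⟩
  else Sum.inl ⟨g.cycleOf x, Perm.cycleOf_mem_cycleFactorsFinset_iff.2 (Perm.mem_support.2 h)⟩

theorem owner_eq_inl_iff (g : Perm (Fin n)) (x : Fin n) (c : {c // c ∈ g.cycleFactorsFinset}) :
    owner g x = Sum.inl c ↔ x ∈ (c : Perm (Fin n)).support := by
  constructor
  · intro h
    rw [owner] at h
    split_ifs at h with hx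
    obtain rfl := Sum.inl.inj h
    exact Perm.mem_support_cycleOf_iff.2 ⟨Perm.SameCycle.refl _ _, Perm.mem_support.2 hx⟩
  · intro hx
    have hne : g x ≠ x := Perm.mem_support.1 (Perm.mem_cycleFactorsFinset_support_le c.2 hx)
    rw [owner, dif_neg hne]
    exact congrArg _ (Subtype.ext (Perm.cycle_is_cycleOf hx c.2).symm)

theorem owner_eq_inr_iff (g : Perm (Fin n)) (x : Fin n) (y : {x : Fin n // g x = x}) :
    owner g x = Sum.inr y ↔ x = y := by
  constructor
  · intro h
    rw [owner] at h
    split_ifs at h with hx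
    exact congrArg Subtype.val (Sum.inr.inj h)
  · rintro rfl
    rw [owner, dif_pos y.2]

theorem owner_surjective (g : Perm (Fin n)) : Function.Surjective (owner g) := by
  rintro (c | y)
  · obtain ⟨x, hx⟩ := Finset.nonempty_iff_ne_empty.2 fun h =>
      (Perm.mem_cycleFactorsFinset_iff.1 c.2).1.ne_one (Perm.support_eq_empty_iff.1 h)
    exact ⟨x, (owner_eq_inl_iff g x c).2 hx⟩
  · exact ⟨y, (owner_eq_inr_iff g _ y).2 rfl⟩

theorem owner_apply (g : Perm (Fin n)) (x : Fin n) : owner g (g x) = owner g x := by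
  by_cases h : g x = x
  · rw [h]
  · rw [show owner g x = Sum.inl ⟨g.cycleOf x,
      Perm.cycleOf_mem_cycleFactorsFinset_iff.2 (Perm.mem_support.2 h)⟩ from dif_neg h,
      owner_eq_inl_iff]
    exact Perm.mem_support_cycleOf_iff.2 ⟨Perm.sameCycle_apply_right.2 (Perm.SameCycle.refl _ _),
      Perm.mem_support.2 h⟩

theorem eq_of_owner_eq {g : Perm (Fin n)} {c : Fin n → Fin N} (hc : c ∘ g = c) {x y : Fin n}
    (h : owner g x = owner g y) : c x = c y := by
  by_cases hx : g x = x
  · rw [show owner g x = Sum.inr ⟨x, hx⟩ from dif_pos hx, eq_comm, owner_eq_inr_iff] at h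
    rw [h]
  · rw [show owner g x = Sum.inl ⟨g.cycleOf x,
      Perm.cycleOf_mem_cycleFactorsFinset_iff.2 (Perm.mem_support.2 hx)⟩ from dif_neg hx, eq_comm,
      owner_eq_inl_iff] at h
    obtain ⟨i, hi⟩ := (Perm.mem_support_cycleOf_iff.1 h).1.exists_nat_pow_eq
    rw [← hi]
    clear h hi
    induction i with
    | zero => rfl
    | succ i ih =>
      rw [pow_succ', Perm.mul_apply, show c (g ((g ^ i) x)) = c ((g ^ i) x) from congrFun hc _]
      exact ih

theorem orbit_sizes (g : Perm (Fin n)) :
    ((Finset.univ : Finset (Orb g)).val.map fun o =>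
      (Finset.univ.filter fun x => owner g x = o).card) = typeOf g := by
  rw [← Finset.univ_disjSum_univ, Finset.val_disjSum, Multiset.disjSum, Multiset.map_add,
    Multiset.map_map, Multiset.map_map, typeOf, Perm.parts_partition]
  congr 1
  · rw [Perm.cycleType_def, Finset.univ_eq_attach, Finset.attach_val, ← Multiset.attach_map_val'
      g.cycleFactorsFinset.val (Finset.card ∘ Perm.support)]
    refine Multiset.map_congr rfl fun c _ => ?_
    simp only [Function.comp_apply]
    congr 1
    ext x
    simp [owner_eq_inl_iff]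
  · rw [Multiset.eq_replicate]
    refine ⟨?_, fun m hm => ?_⟩
    · rw [Multiset.card_map, Finset.card_val, Finset.card_univ, Fintype.card_subtype,
        ← Finset.card_compl]
      congr 1
      ext x
      simp
    · obtain ⟨y, -, rfl⟩ := Multiset.mem_map.1 hm
      simp only [Function.comp_apply, Finset.card_eq_one]
      exact ⟨y, by ext x; simp [owner_eq_inr_iff]⟩

/-- The alternant functions through fixed colourings. -/
theorem val_typeOf (g : Perm (Fin n)) (v : Fin N → ℤ) :
    val (typeOf g) v =
      ∑ c ∈ Finset.univ.filter (fun c : Fin n → Fin N => c ∘ g = c), base (v - content c) := by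
  classical
  rw [← orbit_sizes, val_colour]
  refine Finset.sum_bij (fun f _ => f ∘ owner g) (fun f _ => ?_) (fun f _ f' _ h => ?_)
    (fun c hc => ?_) fun f _ => ?_
  · refine Finset.mem_filter.2 ⟨Finset.mem_univ _, funext fun x => ?_⟩
    simp only [Function.comp_apply, owner_apply]
  · exact (owner_surjective g).injective_comp_right h
  · have hc' := (Finset.mem_filter.1 hc).2
    refine ⟨fun o => c (Function.surjInv (owner_surjective g) o), Finset.mem_univ _, funext fun x => ?_⟩
    exact eq_of_owner_eq hc' (Function.surjInv_eq (owner_surjective g) _)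
  · congr 2
    rw [content, ← Finset.sum_fiberwise Finset.univ (owner g)]
    refine Finset.sum_congr rfl fun o _ => ?_
    rw [Finset.sum_congr rfl fun x hx => show
      (Pi.single ((f ∘ owner g) x) (1 : ℤ) : Fin N → ℤ) = Pi.single (f o) 1 by
        rw [Function.comp_apply, (Finset.mem_filter.1 hx).2], Finset.sum_const, ← Pi.single_smul,
      nsmul_eq_mul, mul_one]

/-- Colourings with given multiplicities. -/
abbrev Col (n : ℕ) (u : Fin N → ℤ) := {c : Fin n → Fin N // content c = u}

instance (u : Fin N → ℤ) : MulAction (Perm (Fin n)) (Col n u) where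
  smul g c := ⟨c.1 ∘ (g⁻¹ : Perm (Fin n)), by rw [content_comp]; exact c.2⟩
  one_smul c := Subtype.ext (funext fun x => by
    change c.1 ((1 : Perm (Fin n))⁻¹ x) = c.1 x
    simp)
  mul_smul g h c := Subtype.ext (funext fun x => by
    change c.1 ((g * h)⁻¹ x) = c.1 (h⁻¹ (g⁻¹ x))
    simp [mul_inv_rev])

/-- The class function of a bead tuple. -/
noncomputable def theta (n : ℕ) (v : Fin N → ℤ) : Perm (Fin n) → ℂ :=
  fun g => (val (typeOf g) v : ℂ)

theorem theta_isClassFunction (n : ℕ) (v : Fin N → ℤ) :
    Cfsg.IsClassFunction (Perm (Fin n)) (theta n v) := fun g h => by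
  simp only [theta, typeOf_conj]

theorem card_fixed_col (g : Perm (Fin n)) (u : Fin N → ℤ) :
    Nat.card (MulAction.fixedBy (Col n u) g) =
      (Finset.univ.filter fun c : Fin n → Fin N => c ∘ g = c ∧ content c = u).card := by
  classical
  rw [← Fintype.card_subtype, ← Nat.card_eq_fintype_card]
  refine Nat.card_congr ⟨fun c => ⟨c.1.1, ?_, c.1.2⟩, fun c => ⟨⟨c.1, c.2.2⟩, ?_⟩,
    fun c => rfl, fun c => rfl⟩
  · have h : c.1.1 ∘ (g⁻¹ : Perm (Fin n)) = c.1.1 := congrArg Subtype.val c.2
    funext x
    simpa using (congrFun h (g x)).symm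
  · refine Subtype.ext (funext fun x => ?_)
    change c.1 (g⁻¹ x) = c.1 x
    simpa using (congrFun c.2.1 (g⁻¹ x)).symm

theorem theta_isGen (n : ℕ) (v : Fin N → ℤ) :
    Cfsg.IsGeneralizedCharacter (Perm (Fin n)) (theta n v) := by
  classical
  have h : theta n v = ∑ π : Perm (Fin N), ((Perm.sign π : ℤ) : ℂ) •
      fun g : Perm (Fin n) => (Nat.card (MulAction.fixedBy (Col n (v - low N ∘ π)) g) : ℂ) := by
    funext g
    simp only [theta, val_typeOf, base, Finset.sum_apply, Pi.smul_apply, smul_eq_mul, card_fixed_col,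
      Int.cast_sum]
    rw [Finset.sum_comm]
    refine Finset.sum_congr rfl fun π _ => ?_
    rw [← Finset.filter_filter, Finset.card_filter, Nat.cast_sum, Finset.mul_sum]
    refine Finset.sum_congr rfl fun c _ => ?_
    simp only [sub_eq_iff_eq_add', eq_sub_iff_add_eq]
    by_cases hc : v = content c + low N ∘ π
    · rw [if_pos hc, if_pos hc.symm, Nat.cast_one, mul_one]
    · rw [if_neg hc, if_neg (Ne.symm hc), Nat.cast_zero, mul_zero, Int.cast_zero]
  rw [h]
  exact isGen_sum _ _ fun π _ =>
    isGen_intSmul (isGen_of_isCharacter (isCharacter_permChar (Col n (v - low N ∘ π)))) _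

theorem zz_replicate_one (m : Multiset ℕ) (hm : 1 ∉ m) :
    ∀ j : ℕ, zz (m + Multiset.replicate j 1) =
      j.factorial * m.prod * ∏ k ∈ m.toFinset, (m.count k).factorial := by
  intro j
  induction j with
  | zero => simp [zz]
  | succ j ih =>
    rw [Multiset.replicate_succ, Multiset.add_cons, zz_cons, ih, Multiset.count_add,
      Multiset.count_eq_zero.2 hm, Multiset.count_replicate_self, Nat.factorial_succ]
    ring

theorem parts_split {n : ℕ} (μ : n.Partition) :
    μ.parts = (μ.parts.filter fun k => 2 ≤ k) +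
      Multiset.replicate (n - (μ.parts.filter fun k => 2 ≤ k).sum) 1 := by
  have h1 : μ.parts.filter (fun k => ¬ 2 ≤ k) =
      Multiset.replicate (Multiset.card (μ.parts.filter fun k => ¬ 2 ≤ k)) 1 :=
    Multiset.eq_replicate_card.2 fun k hk => by
      have := μ.parts_pos (Multiset.mem_filter.1 hk).1
      have := (Multiset.mem_filter.1 hk).2
      omega
  have h2 := Multiset.filter_add_not (fun k => 2 ≤ k) μ.parts
  have h3 : (μ.parts.filter fun k => 2 ≤ k).sum +
      Multiset.card (μ.parts.filter fun k => ¬ 2 ≤ k) = n := by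
    conv_rhs => rw [← μ.parts_sum, ← h2, Multiset.sum_add, h1, Multiset.sum_replicate]
    simp
  rw [show n - (μ.parts.filter fun k => 2 ≤ k).sum =
    Multiset.card (μ.parts.filter fun k => ¬ 2 ≤ k) by omega, ← h1, h2]

theorem card_partOf (μ : n.Partition) :
    (Finset.univ.filter fun g : Perm (Fin n) => partOf g = μ).card * zz μ.parts = n.factorial := by
  classical
  set m := μ.parts.filter fun k => 2 ≤ k with hm
  have h : (Finset.univ.filter fun g : Perm (Fin n) => partOf g = μ) =
      Finset.univ.filter fun g : Perm (Fin n) => g.cycleType = m := by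
    refine Finset.filter_congr fun g _ => ⟨fun h => ?_, fun h => ?_⟩
    · rw [hm, ← h]
      exact Perm.filter_parts_partition_eq_cycleType.symm
    · refine Nat.Partition.ext ?_
      rw [parts_split μ, ← hm]
      simp only [partOf, typeOf, Perm.parts_partition, h, Fintype.card_fin, ← Perm.sum_cycleType]
  have hle : m.sum ≤ n := by
    have := congrArg Multiset.sum (parts_split μ)
    rw [μ.parts_sum, Multiset.sum_add, ← hm] at this
    omega
  have h1 := Perm.card_of_cycleType_mul_eq (Fin n) m
  rw [Fintype.card_fin, if_pos ⟨hle, fun a ha => (Multiset.mem_filter.1 ha).2⟩] at h1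
  rw [h, ← h1, parts_split μ, ← hm,
    zz_replicate_one m fun h1 => absurd (Multiset.mem_filter.1 h1).2 (by norm_num)]

theorem sum_typeOf (φ : Multiset ℕ → ℚ) :
    ∑ g : Perm (Fin n), φ (typeOf g) = (n.factorial : ℚ) * avg n φ := by
  classical
  rw [← Finset.sum_fiberwise Finset.univ partOf, avg, Finset.mul_sum]
  refine Finset.sum_congr rfl fun μ _ => ?_
  rw [Finset.sum_congr rfl fun g hg => show φ (typeOf g) = φ μ.parts by
    rw [← (Finset.mem_filter.1 hg).2]; rfl, Finset.sum_const, nsmul_eq_mul,
    ← card_partOf μ, Nat.cast_mul]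
  have hz : (zz μ.parts : ℚ) ≠ 0 := by exact_mod_cast (zz_pos fun _ => μ.parts_pos).ne'
  field_simp

theorem classInner_theta (a b : Fin N → ℤ) :
    Cfsg.classInner (theta n a) (theta n b) = ((gram n a b : ℚ) : ℂ) := by
  rw [classInner_def, Nat.card_perm, Nat.card_eq_fintype_card, Fintype.card_fin]
  have h := congrArg (fun x : ℚ => (x : ℂ))
    (sum_typeOf (n := n) fun μ => (val μ a : ℚ) * (val μ b : ℚ))
  simp only [Rat.cast_sum, Rat.cast_mul, Rat.cast_intCast, Rat.cast_natCast] at h
  simp only [theta, map_intCast, h, gram]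
  rw [← mul_assoc, inv_mul_cancel₀ (by exact_mod_cast n.factorial_ne_zero), one_mul]

/-- Each bead tuple gives an irreducible character, up to sign. -/
theorem theta_irr {a : Fin N → ℤ} (ha : IsSt n a) :
    ∃ (χ : Cfsg.IrrCharacter (Perm (Fin n))) (ε : ℂ), (ε = 1 ∨ ε = -1) ∧
      theta n a = ε • (χ : Perm (Fin n) → ℂ) := by
  have h1 : Cfsg.classInner (theta n a) (theta n a) = 1 := by
    rw [classInner_theta, gram_eq n a a ha ha, del_self ha.2.1]
    simp
  rcases isGen_norm_one (theta_isGen n a) h1 with h | h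
  · exact ⟨⟨_, h⟩, 1, Or.inl rfl, by simp⟩
  · exact ⟨⟨_, h⟩, -1, Or.inr rfl, by simp⟩

theorem theta_one_ne_zero {a : Fin N → ℤ} (ha : IsSt n a) : theta n a 1 ≠ 0 := by
  obtain ⟨χ, ε, hε, he⟩ := theta_irr ha
  rw [he, Pi.smul_apply, smul_eq_mul]
  exact mul_ne_zero (by rcases hε with rfl | rfl <;> norm_num) (irr_one_ne_zero χ.2)

/-- Every irreducible character comes from an increasing tuple. -/
theorem exists_tuple (hn : n ≤ N) (χ : Cfsg.IrrCharacter (Perm (Fin n))) :
    ∃ (a : Fin N → ℤ) (ε : ℂ), a ∈ incSt N n ∧ (ε = 1 ∨ ε = -1) ∧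
      (χ : Perm (Fin n) → ℂ) = ε • theta n a := by
  classical
  haveI := Fintype.ofFinite (Cfsg.IrrCharacter (Perm (Fin n)))
  choose f e he hf using fun a : ↥(incSt N n) => theta_irr (mem_incSt.1 a.2).1
  have hinj : Function.Injective f := by
    intro a b hab
    by_contra hne
    have h0 : Cfsg.classInner (theta n a.1) (theta n b.1) = 0 := by
      rw [classInner_theta, gram_eq n _ _ (mem_incSt.1 a.2).1 (mem_incSt.1 b.2).1,
        del_strictMono (mem_incSt.1 a.2).2 (mem_incSt.1 b.2).2,
        if_neg fun h => hne (Subtype.ext h)]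
      simp
    rw [hf a, hf b, classInner_smul_left, classInner_smul_right, hab, classInner_irr,
      if_pos rfl] at h0
    rcases he a with h | h <;> rcases he b with h' | h' <;> simp [h, h'] at h0
  have hle : Fintype.card (Cfsg.IrrCharacter (Perm (Fin n))) ≤ Fintype.card ↥(incSt N n) := by
    rw [Fintype.card_coe, ← Nat.card_eq_fintype_card, card_irrCharacter, Nat.card_eq_fintype_card]
    refine le_trans ?_ (card_partition_le hn)
    refine Fintype.card_le_of_injective
      (fun C : ConjClasses (Perm (Fin n)) => partOf C.exists_rep.choose) fun C D h => ?_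
    rw [← C.exists_rep.choose_spec, ← D.exists_rep.choose_spec]
    refine ConjClasses.mk_eq_mk_iff_isConj.2 (Perm.partition_eq_of_isConj.2 ?_)
    exact Nat.Partition.ext (congrArg (fun μ : n.Partition => μ.parts) h :)
  have hbij : Function.Bijective f := (Fintype.bijective_iff_injective_and_card f).2
    ⟨hinj, le_antisymm (Fintype.card_le_of_injective f hinj) hle⟩
  obtain ⟨a, rfl⟩ := hbij.2 χ
  refine ⟨a.1, e a, a.2, he a, ?_⟩
  rw [hf a, smul_smul]
  rcases he a with h | h <;> simp [h]

end Cfsg.Agent.SymRank
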