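import Cfsg.Agent.Lib.Blocks.RegularSum

/-!
# A set of characters orthogonal to the others on regular elements is a union of blocks
-/

set_option linter.style.haveILetI false

namespace Cfsg.Agent.SymRank

open scoped ComplexConjugate
open Cfsg.Agent.Characters Cfsg.Agent.Blocks

universe u

variable {G : Type u} [Group G] [Finite G] {p : ℕ} {M : Ideal Cfsg.AlgInt}

open scoped Classical in
/-- The part in `A` of the column of `g`. -/
noncomputable def column [Fintype (Cfsg.IrrCharacter G)] (A : Set (Cfsg.IrrCharacter G)) (g : G) :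
    G → ℂ :=
  ∑ χ ∈ Finset.univ.filter (fun χ => χ ∈ A), conj ((χ : G → ℂ) g) • (χ : G → ℂ)

open scoped Classical in
theorem column_apply [Fintype (Cfsg.IrrCharacter G)] (A : Set (Cfsg.IrrCharacter G)) (g y : G) :
    column A g y = ∑ χ ∈ Finset.univ.filter (fun χ => χ ∈ A),
      conj ((χ : G → ℂ) g) * (χ : G → ℂ) y := by
  simp [column]

/-- Orthogonality on regular elements gives orthogonality across `p`-sections. -/
theorem column_eq_zero [Fintype (Cfsg.IrrCharacter G)] {A : Set (Cfsg.IrrCharacter G)}
    (h : ∀ χ ∈ A, ∀ ψ ∉ A, regSum p (χ : G → ℂ) (ψ : G → ℂ) = 0) {g : G} (hg : ¬ p ∣ orderOf g)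
    {y : G} (hy : p ∣ orderOf y) : column A g y = 0 := by
  classical
  haveI := Fintype.ofFinite G
  have hsymm : ∀ φ ψ : G → ℂ, regSum p φ ψ = conj (regSum p ψ φ) := fun φ ψ => by
    simp only [regSum_eq_sum, map_sum]
    refine Finset.sum_congr rfl fun x _ => ?_
    split_ifs <;> simp [mul_comm]
  set sing : (G → ℂ) → G → ℂ := fun f x => if p ∣ orderOf x then f x else 0 with hsing
  have hcl : ∀ B : Set (Cfsg.IrrCharacter G), Cfsg.IsClassFunction G (column B g) := fun B =>
    classFun_sum_smul_irr _ _
  have hscl : ∀ f, Cfsg.IsClassFunction G f → Cfsg.IsClassFunction G (sing f) := fun f hf a b => by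
    simp only [sing, hf a b]
    rw [show orderOf (b * a * b⁻¹) = orderOf a from by
      rw [← MulAut.conj_apply, MulEquiv.orderOf_eq]]
  have hcross : ∀ B : Set (Cfsg.IrrCharacter G),
      (∀ χ ∈ B, ∀ ψ ∉ B, regSum p (χ : G → ℂ) (ψ : G → ℂ) = 0) →
      ∀ ψ : Cfsg.IrrCharacter G, ψ ∉ B → Cfsg.classInner (sing (column B g)) (ψ : G → ℂ) = 0 := by
    intro B hB ψ hψ
    have h1 : Cfsg.classInner (column B g) (ψ : G → ℂ) = 0 := by
      rw [column, classInner_sum_left]
      refine Finset.sum_eq_zero fun χ hχ => ?_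
      rw [classInner_smul_left, classInner_irr,
        if_neg (show χ ≠ ψ from fun e => hψ (by rw [← e]; exact (Finset.mem_filter.1 hχ).2)), mul_zero]
    have h2 : regSum p (column B g) (ψ : G → ℂ) = 0 := by
      simp only [regSum_eq_sum, column_apply]
      rw [Finset.sum_congr rfl (g := fun x : G => ∑ χ ∈ Finset.univ.filter (fun χ => χ ∈ B),
        conj ((χ : G → ℂ) g) *
          (if ¬ p ∣ orderOf x then (χ : G → ℂ) x * conj ((ψ : G → ℂ) x) else 0)) fun x _ => by
          by_cases hx : p ∣ orderOf x
          · simp [hx]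
          · simp [hx, Finset.sum_mul, mul_assoc], Finset.sum_comm]
      refine Finset.sum_eq_zero fun χ hχ => ?_
      have h3 := hB χ (Finset.mem_filter.1 hχ).2 ψ hψ
      rw [regSum_eq_sum] at h3
      rw [← Finset.mul_sum, h3, mul_zero]
    rw [classInner_def] at h1 ⊢
    have hsplit : ∑ x, sing (column B g) x * conj ((ψ : G → ℂ) x) =
        (∑ x, column B g x * conj ((ψ : G → ℂ) x)) - regSum p (column B g) (ψ : G → ℂ) := by
      rw [regSum_eq_sum, ← Finset.sum_sub_distrib]
      refine Finset.sum_congr rfl fun x _ => ?_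
      simp only [sing]
      split_ifs <;> simp
    rw [hsplit, h2, sub_zero, h1]
  have htot : sing (column A g) + sing (column Aᶜ g) = 0 := by
    funext x
    simp only [Pi.add_apply, Pi.zero_apply, sing]
    split_ifs with hx
    · simp only [column_apply, Set.mem_compl_iff]
      rw [Finset.sum_filter_add_sum_filter_not]
      rw [Finset.sum_congr rfl (g := fun χ : Cfsg.IrrCharacter G =>
        (χ : G → ℂ) x * conj ((χ : G → ℂ) g)) fun χ _ => mul_comm _ _, second_orthogonality,
        if_neg]
      intro hc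
      obtain ⟨c, hc⟩ := isConj_iff.1 hc
      refine hg ?_
      rw [← hc, ← MulAut.conj_apply, MulEquiv.orderOf_eq]
      exact hx
    · exact add_zero 0
  have hz : sing (column A g) = 0 := by
    refine classFun_eq_zero (hscl _ (hcl A)) fun χ hχ => ?_
    by_cases hA : (⟨χ, hχ⟩ : Cfsg.IrrCharacter G) ∈ A
    · have h1 := hcross Aᶜ (fun a ha b hb => by
        rw [hsymm, h b (not_not.1 hb) a ha, map_zero]) ⟨χ, hχ⟩ (fun h' => h' hA)
      rw [eq_neg_of_add_eq_zero_left htot,
        show -sing (column Aᶜ g) = (-1 : ℂ) • sing (column Aᶜ g) by simp, classInner_smul_left, h1,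
        mul_zero]
    · exact hcross A h ⟨χ, hχ⟩ hA
  have := congrFun hz y
  simpa [sing, hy] using this

/-- A set of characters orthogonal to the others on regular elements is a union of blocks. -/
theorem intEl_of_regSum (hM : Cfsg.IsPModular p M) {A : Set (Cfsg.IrrCharacter G)}
    (h : ∀ χ ∈ A, ∀ ψ ∉ A, regSum p (χ : G → ℂ) (ψ : G → ℂ) = 0) :
    IntEl M (blockIdem A) := by
  classical
  haveI := Fintype.ofFinite G
  haveI := Fintype.ofFinite (Cfsg.IrrCharacter G)
  haveI := fact_prime_of_pm hM
  intro g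
  rw [coeff_blockIdem]
  have hc : Cfsg.blockCoeff A g = (Nat.card G : ℂ)⁻¹ * column A g 1 := by
    rw [Cfsg.blockCoeff, finsum_mem_def, finsum_eq_sum_of_fintype, column_apply, Finset.sum_filter]
    congr 1
    exact Finset.sum_congr rfl fun χ _ => by
      rw [Set.indicator_apply]
      split_ifs <;> ring
  rw [hc]
  by_cases hg : p ∣ orderOf g
  · have h1 : column A g 1 = conj (column A 1 g) := by
      simp only [column_apply, map_sum, map_mul, Complex.conj_conj]
      exact Finset.sum_congr rfl fun χ _ => mul_comm _ _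
    rw [h1, column_eq_zero h (g := 1) (by simp [hM.1.ne_one]) hg, map_zero, mul_zero]
    exact ring_zero hM
  · obtain ⟨P⟩ : Nonempty (Sylow p G) := inferInstance
    haveI := Fintype.ofFinite (P : Subgroup G)
    set c : Cfsg.IrrCharacter G → ℂ := fun χ => if χ ∈ A then conj ((χ : G → ℂ) g) else 0
    have hcol : ∀ y, ∑ χ : Cfsg.IrrCharacter G, c χ * (χ : G → ℂ) y = column A g y := fun y => by
      rw [column_apply, Finset.sum_filter]
      exact Finset.sum_congr rfl fun χ _ => by simp only [c]; split_ifs <;> simp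
    have hdiv := value_div_card_ring (D := (P : Subgroup G)) hM (y := 1) (Subgroup.one_mem _) c
      (fun χ => by
        simp only [c]
        split_ifs
        · rw [← char_inv (irr_isCharacter χ)]
          exact ring_of_isIntegral hM (char_value_isIntegral (irr_isCharacter χ) _)
        · exact ring_zero hM)
      fun t ht ht1 => by
        rw [hcol]
        refine column_eq_zero h hg ?_
        rw [one_mul]
        obtain ⟨k, hk⟩ := (IsPGroup.iff_orderOf.1 P.isPGroup') ⟨t, ht⟩
        rw [Subgroup.orderOf_mk] at hk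
        rw [hk]
        exact dvd_pow_self p fun hk0 => ht1 (orderOf_eq_one_iff.1 (by rw [hk, hk0, pow_zero]))
    rw [hcol] at hdiv
    have hG : (Nat.card G : ℂ) ≠ 0 := natCard_ne_zero
    have hP : (Nat.card (P : Subgroup G) : ℂ) ≠ 0 := natCard_ne_zero
    rw [show (Nat.card G : ℂ)⁻¹ * column A g 1 =
      ((Nat.card (P : Subgroup G) : ℂ) / (Nat.card G : ℂ)) *
        (column A g 1 / (Nat.card (P : Subgroup G) : ℂ)) by field_simp]
    refine ring_mul hM (ring_natCast_div hM Nat.card_pos.ne' ?_) hdiv
    rw [P.card_eq_multiplicity, hM.1.factorization_pow, Finsupp.single_eq_same]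

end Cfsg.Agent.SymRank
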