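import Mathlib

/-!
# Bead sets with one gapless runner: fewer than `p ^ w` of weight `w`
-/

namespace Cfsg.Agent.SymRank

variable {p : ℕ}

/-- The bead `x` can move down by `p`. -/
def Movable (p : ℕ) (β : Finset ℤ) (x : ℤ) : Prop := x ∈ β ∧ (p : ℤ) ≤ x ∧ x - (p : ℤ) ∉ β

/-- The number of beads on each runner. -/
def cntS (p : ℕ) (β : Finset ℤ) (r : ZMod p) : ℕ := (β.filter fun x : ℤ => (x : ZMod p) = r).card

/-- Moving the bead `x` down by `p`. -/
def down (p : ℕ) (β : Finset ℤ) (x : ℤ) : Finset ℤ := insert (x - (p : ℤ)) (β.erase x)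

theorem mem_below (hp : 0 < p) {β : Finset ℤ} {x : ℤ} (hx : x ∈ β)
    (hno : ∀ z ≤ x, ¬ Movable p β z) :
    ∀ {y : ℤ}, (y : ZMod p) = (x : ZMod p) → 0 ≤ y → y ≤ x → y ∈ β := by
  intro y hres hy hyx
  obtain ⟨c, hc⟩ : (p : ℤ) ∣ x - y := by
    rw [← ZMod.intCast_zmod_eq_zero_iff_dvd, Int.cast_sub, hres, sub_self]
  have key : ∀ m : ℕ, (m : ℤ) * p ≤ x → x - (m : ℤ) * p ∈ β := by
    intro m
    induction m with
    | zero => intro _; simpa using hx
    | succ m ih =>
      intro hm
      push_cast at hm ⊢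
      by_contra hne
      refine hno (x - (m : ℤ) * p) (by
        have : (0 : ℤ) ≤ (m : ℤ) * p := by positivity
        omega) ⟨ih (by nlinarith), by nlinarith, ?_⟩
      rwa [show x - (m : ℤ) * p - p = x - ((m : ℤ) + 1) * p by ring]
  have hp' : (0 : ℤ) < p := by exact_mod_cast hp
  have hc0 : 0 ≤ c := by nlinarith
  have := key c.toNat (by rw [Int.toNat_of_nonneg hc0]; nlinarith)
  rw [Int.toNat_of_nonneg hc0] at this
  rwa [show y = x - c * p by rw [mul_comm] at hc; omega]

/-- A bead set without movable beads is determined by its runner counts. -/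
theorem closed_unique (hp : 0 < p) {β γ : Finset ℤ} (hβ : ∀ x ∈ β, 0 ≤ x)
    (hγ : ∀ x ∈ γ, 0 ≤ x) (hβc : ∀ x, ¬ Movable p β x) (hγc : ∀ x, ¬ Movable p γ x)
    (h : cntS p β = cntS p γ) : β = γ := by
  have key : ∀ {β γ : Finset ℤ}, (∀ x ∈ β, 0 ≤ x) → (∀ x ∈ γ, 0 ≤ x) →
      (∀ x, ¬ Movable p β x) → (∀ x, ¬ Movable p γ x) → cntS p β = cntS p γ → β ⊆ γ := by
    intro β γ hβ hγ hβc hγc h x hx
    by_contra hxγ
    have hsub : γ.filter (fun z : ℤ => (z : ZMod p) = (x : ZMod p)) ⊂
        β.filter (fun z : ℤ => (z : ZMod p) = (x : ZMod p)) := by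
      refine Finset.ssubset_iff_subset_ne.2 ⟨fun z hz => ?_, fun he => hxγ ?_⟩
      · obtain ⟨hz1, hz2⟩ := Finset.mem_filter.1 hz
        refine Finset.mem_filter.2 ⟨?_, hz2⟩
        refine mem_below hp hx (fun _ _ => hβc _) hz2 (hγ z hz1) ?_
        by_contra hlt
        exact hxγ (mem_below hp hz1 (fun _ _ => hγc _) hz2.symm (hβ x hx) (not_le.1 hlt).le)
      · have hm : x ∈ β.filter (fun z : ℤ => (z : ZMod p) = (x : ZMod p)) :=
          Finset.mem_filter.2 ⟨hx, rfl⟩
        rw [← he] at hm
        exact (Finset.mem_filter.1 hm).1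
    exact (Finset.card_lt_card hsub).ne (congrFun h _).symm
  exact Finset.Subset.antisymm (key hβ hγ hβc hγc h) (key hγ hβ hγc hβc h.symm)

theorem cntS_down (p : ℕ) {β : Finset ℤ} {x : ℤ} (h : Movable p β x) :
    cntS p (down p β x) = cntS p β := by
  funext r
  simp only [cntS, down]
  have hres : ((x - (p : ℤ) : ℤ) : ZMod p) = (x : ZMod p) := by simp
  rw [Finset.filter_insert, Finset.filter_erase, hres]
  by_cases hr : (x : ZMod p) = r
  · rw [if_pos hr, Finset.card_insert_of_notMem fun hm =>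
      h.2.2 (Finset.mem_filter.1 (Finset.mem_of_mem_erase hm)).1,
      Finset.card_erase_add_one (Finset.mem_filter.2 ⟨h.1, hr⟩)]
  · rw [if_neg hr, Finset.erase_eq_of_notMem (s := β.filter fun z : ℤ => (z : ZMod p) = r) (a := x)
      fun hm => hr (Finset.mem_filter.1 hm).2]

theorem sum_down (p : ℕ) {β : Finset ℤ} {x : ℤ} (h : Movable p β x) :
    ∑ y ∈ down p β x, y = (∑ y ∈ β, y) - (p : ℤ) := by
  rw [down, Finset.sum_insert fun hm => h.2.2 (Finset.mem_of_mem_erase hm),
    ← Finset.add_sum_erase β _ h.1]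
  ring

theorem nonneg_down (p : ℕ) {β : Finset ℤ} {x : ℤ} (h : Movable p β x) (h0 : ∀ y ∈ β, 0 ≤ y) :
    ∀ y ∈ down p β x, 0 ≤ y := by
  intro y hy
  rcases Finset.mem_insert.1 hy with rfl | hy
  · have := h.2.1; omega
  · exact h0 y (Finset.mem_of_mem_erase hy)

/-- Every bead set has a weight over the gapless one with the same runner counts. -/
theorem exists_weight (hp : 0 < p) {κ : Finset ℤ} (hκ : ∀ x ∈ κ, 0 ≤ x)
    (hκc : ∀ x, ¬ Movable p κ x) :
    ∀ (t : ℕ) (β : Finset ℤ), (∀ x ∈ β, 0 ≤ x) → cntS p β = cntS p κ → (∑ x ∈ β, x).toNat = t →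
      ∃ w : ℕ, ∑ x ∈ β, x = ∑ x ∈ κ, x + (p : ℤ) * w := by
  intro t
  induction t using Nat.strong_induction_on with
  | _ t ih =>
  intro β h0 hc ht
  by_cases hcl : ∀ x, ¬ Movable p β x
  · exact ⟨0, by rw [closed_unique hp h0 hκ hcl hκc hc]; simp⟩
  push Not at hcl
  obtain ⟨x, hx⟩ := hcl
  have hle : (0 : ℤ) ≤ ∑ y ∈ down p β x, y := Finset.sum_nonneg (nonneg_down p hx h0)
  have hsd := sum_down p hx
  have hp' : (0 : ℤ) < p := by exact_mod_cast hp
  obtain ⟨w, hw⟩ := ih _ (ht ▸ (Int.toNat_lt_toNat (by omega)).2 (by omega)) (down p β x)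
    (nonneg_down p hx h0) (by rw [cntS_down p hx, hc]) rfl
  refine ⟨w + 1, ?_⟩
  push_cast
  linarith

open scoped Classical in
/-- The least movable bead. -/
noncomputable def least (p : ℕ) (β : Finset ℤ) : ℤ :=
  if h : (β.filter (Movable p β)).Nonempty then (β.filter (Movable p β)).min' h else 0

theorem least_spec {β : Finset ℤ} {x : ℤ} (h : Movable p β x) :
    Movable p β (least p β) ∧ ∀ y, Movable p β y → least p β ≤ y := by
  classical
  have hne : (β.filter (Movable p β)).Nonempty := ⟨x, Finset.mem_filter.2 ⟨h.1, h⟩⟩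
  rw [least, dif_pos hne]
  exact ⟨(Finset.mem_filter.1 (Finset.min'_mem _ hne)).2,
    fun y hy => Finset.min'_le _ y (Finset.mem_filter.2 ⟨hy.1, hy⟩)⟩

theorem le_of_movable_down (hp : 0 < p) {β : Finset ℤ} {b : ℤ} (hmin : ∀ y, Movable p β y → b ≤ y)
    {x : ℤ} (hx : Movable p (down p β b) x) : b - (p : ℤ) ≤ x := by
  by_contra hlt
  rw [not_le] at hlt
  obtain ⟨h1, h2, h3⟩ := hx
  have hp' : (0 : ℤ) < p := by exact_mod_cast hp
  rcases Finset.mem_insert.1 h1 with rfl | h1
  · omega
  refine absurd (hmin x ⟨Finset.mem_of_mem_erase h1, h2, fun hm => h3 ?_⟩) (by omega)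
  exact Finset.mem_insert_of_mem (Finset.mem_erase.2 ⟨by omega, hm⟩)

/-- Reconstruction of the moved bead. -/
theorem least_inj (hp : 0 < p) {β γ : Finset ℤ} (hβ0 : ∀ x ∈ β, 0 ≤ x) (hγ0 : ∀ x ∈ γ, 0 ≤ x)
    (hb : Movable p β (least p β)) (hg : Movable p γ (least p γ))
    (heq : down p β (least p β) = down p γ (least p γ))
    (hiff : Movable p (down p β (least p β)) (least p β - (p : ℤ)) ↔
      Movable p (down p γ (least p γ)) (least p γ - (p : ℤ)))
    (hres : ¬ Movable p (down p β (least p β)) (least p β - (p : ℤ)) →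
      ((least p β : ℤ) : ZMod p) = ((least p γ : ℤ) : ZMod p)) : β = γ := by
  set b := least p β with hbdef
  set c := least p γ with hcdef
  have hminb : ∀ y, Movable p β y → b ≤ y := (least_spec hb).2
  have hminc : ∀ y, Movable p γ y → c ≤ y := (least_spec hg).2
  have hp' : (0 : ℤ) < p := by exact_mod_cast hp
  have hbc : b = c := by
    by_cases hm : Movable p (down p β b) (b - (p : ℤ))
    · have hm' := hiff.1 hm
      have h1 := le_of_movable_down hp hminb (x := c - (p : ℤ)) (heq ▸ hm')
      have h2 := le_of_movable_down hp hminc (x := b - (p : ℤ)) (heq ▸ hm)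
      omega
    · have hr := hres hm
      have pure : ∀ {β : Finset ℤ} {b : ℤ}, (∀ y, Movable p β y → b ≤ y) →
          ¬ Movable p (down p β b) (b - (p : ℤ)) → b ∉ down p β b ∧
            ∀ z : ℤ, (z : ZMod p) = (b : ZMod p) → 0 ≤ z → z ≤ b - (p : ℤ) → z ∈ down p β b := by
        intro β b hmin hnm
        refine ⟨fun h => ?_, fun z hz hz0 hzb => ?_⟩
        · rcases Finset.mem_insert.1 h with h | h
          · omega
          · exact Finset.ne_of_mem_erase h rfl
        · rcases eq_or_lt_of_le hzb with rfl | hlt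
          · exact Finset.mem_insert_self _ _
          obtain ⟨d, hd⟩ : (p : ℤ) ∣ b - p - z := by
            rw [← ZMod.intCast_zmod_eq_zero_iff_dvd]
            simp [hz]
          have hd1 : 1 ≤ d := by nlinarith
          have hp2 : (p : ℤ) ≤ b - p := by nlinarith
          have hmem : b - p - p ∈ down p β b := by
            by_contra hne
            exact hnm ⟨Finset.mem_insert_self _ _, hp2, hne⟩
          have hmβ : b - p - p ∈ β := by
            rcases Finset.mem_insert.1 hmem with h | h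
            · omega
            · exact Finset.mem_of_mem_erase h
          have hz' := mem_below hp hmβ (fun y hy hmov => by have := hmin y hmov; omega)
            (y := z) (by simp [hz]) hz0 (by nlinarith)
          exact Finset.mem_insert_of_mem (Finset.mem_erase.2 ⟨by omega, hz'⟩)
      obtain ⟨hb1, hb2⟩ := pure hminb hm
      obtain ⟨hc1, hc2⟩ := pure hminc (fun h => hm (hiff.2 h))
      rw [← heq] at hc1 hc2
      obtain ⟨d, hd⟩ : (p : ℤ) ∣ c - b := by
        rw [← ZMod.intCast_zmod_eq_zero_iff_dvd, Int.cast_sub, hr, sub_self]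
      rcases lt_trichotomy b c with hlt | heq' | hgt
      · have : 1 ≤ d := by nlinarith
        exact absurd (hc2 b hr (hβ0 b hb.1) (by nlinarith)) hb1
      · exact heq'
      · have : d ≤ -1 := by nlinarith
        exact absurd (hb2 c hr.symm (hγ0 c hg.1) (by nlinarith)) hc1
  have hrec : ∀ {β : Finset ℤ} {b : ℤ}, Movable p β b →
      β = insert b ((down p β b).erase (b - (p : ℤ))) := by
    intro β b h
    rw [down, Finset.erase_insert fun hm => h.2.2 (Finset.mem_of_mem_erase hm),
      Finset.insert_erase h.1]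
  rw [hrec hb, hrec hg, ← heq, hbc]

open scoped Classical in
/-- The colour of a step. -/
noncomputable def stepTag (p : ℕ) (r : ZMod p) (β : Finset ℤ) : ZMod p :=
  if Movable p (down p β (least p β)) (least p β - (p : ℤ)) then r
  else ((least p β : ℤ) : ZMod p)

/-- The bead sets of weight `w` with runner `r` gapless. -/
theorem card_le [NeZero p] (r : ZMod p) {κ : Finset ℤ} (hκ : ∀ x ∈ κ, 0 ≤ x)
    (hκc : ∀ x, ¬ Movable p κ x) :
    ∀ (w : ℕ) (T : Finset (Finset ℤ)), (∀ β ∈ T, (∀ x ∈ β, 0 ≤ x) ∧ cntS p β = cntS p κ ∧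
      (∀ x, Movable p β x → (x : ZMod p) ≠ r) ∧ ∑ x ∈ β, x = ∑ x ∈ κ, x + (p : ℤ) * w) →
      T.card ≤ if w = 0 then 1 else (p - 1) * p ^ (w - 1) := by
  classical
  have hp : 0 < p := NeZero.pos p
  have hp' : (0 : ℤ) < p := by exact_mod_cast hp
  intro w
  induction w with
  | zero =>
    intro T hT
    rw [if_pos rfl, Finset.card_le_one]
    have hcl : ∀ β ∈ T, β = κ := fun β hβ => by
      obtain ⟨h0, hc, -, hs⟩ := hT β hβ
      refine closed_unique hp h0 hκ (fun x hx => ?_) hκc hc
      obtain ⟨u, hu⟩ := exists_weight hp hκ hκc _ (down p β x) (nonneg_down p hx h0)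
        (by rw [cntS_down p hx, hc]) rfl
      have := sum_down p hx
      have : (0 : ℤ) ≤ (p : ℤ) * u := by positivity
      simp only [Nat.cast_zero, mul_zero, add_zero] at hs
      omega
    exact fun a ha b hb => (hcl a ha).trans (hcl b hb).symm
  | succ w ih =>
    intro T hT
    have hmov : ∀ β ∈ T, Movable p β (least p β) := by
      intro β hβ
      obtain ⟨h0, hc, -, hs⟩ := hT β hβ
      by_contra hno
      have := closed_unique hp h0 hκ (fun x hx => hno (least_spec hx).1) hκc hc
      rw [this] at hs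
      push_cast at hs
      nlinarith
    set T' := T.image fun β => down p β (least p β) with hT'
    have hT'' : ∀ γ ∈ T', (∀ x ∈ γ, 0 ≤ x) ∧ cntS p γ = cntS p κ ∧
        (∀ x, Movable p γ x → (x : ZMod p) ≠ r) ∧
          ∑ x ∈ γ, x = ∑ x ∈ κ, x + (p : ℤ) * w := by
      intro γ hγ
      obtain ⟨β, hβ, rfl⟩ := Finset.mem_image.1 hγ
      obtain ⟨h0, hc, hr, hs⟩ := hT β hβ
      have hb := hmov β hβ
      refine ⟨nonneg_down p hb h0, by rw [cntS_down p hb, hc], fun x hx hxr => ?_, ?_⟩
      · obtain ⟨h1, h2, h3⟩ := hx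
        have hbr := hr _ hb
        rcases Finset.mem_insert.1 h1 with rfl | h1
        · exact hbr (by simpa using hxr)
        · refine hr x ⟨Finset.mem_of_mem_erase h1, h2, fun hm => h3 ?_⟩ hxr
          refine Finset.mem_insert_of_mem (Finset.mem_erase.2 ⟨fun he => hbr ?_, hm⟩)
          rw [← he]
          simpa using hxr
      · rw [sum_down p hb, hs]
        push_cast
        ring
    have htag : ∀ β ∈ T, w = 0 → stepTag p r β ∈ Finset.univ.erase r := by
      intro β hβ hw
      refine Finset.mem_erase.2 ⟨?_, Finset.mem_univ _⟩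
      rw [stepTag]
      split_ifs with h
      · obtain ⟨h0, hc, -, hs⟩ := hT'' _ (Finset.mem_image_of_mem _ hβ)
        obtain ⟨u, hu⟩ := exists_weight hp hκ hκc _ _ (nonneg_down p h h0)
          (by rw [cntS_down p h, hc]) rfl
        have h5 := sum_down p h
        have : (0 : ℤ) ≤ (p : ℤ) * u := by positivity
        rw [hw] at hs
        simp only [Nat.cast_zero, mul_zero, add_zero] at hs
        omega
      · exact (hT β hβ).2.2.1 _ (hmov β hβ)
    set tags : Finset (ZMod p) := if w = 0 then Finset.univ.erase r else Finset.univ with htags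
    have hcard : T.card ≤ (T' ×ˢ tags).card := by
      refine Finset.card_le_card_of_injOn (fun β => (down p β (least p β), stepTag p r β))
        (fun β hβ => Finset.mem_coe.2 (Finset.mem_product.2 ⟨Finset.mem_image_of_mem _ hβ, ?_⟩))
        fun β hβ γ hγ he => ?_
      · by_cases hw : w = 0
        · simpa [tags, hw] using htag β hβ hw
        · simp [tags, hw]
      · obtain ⟨he1, he2⟩ := Prod.mk.inj he
        have hrb := (hT β hβ).2.2.1 _ (hmov β hβ)
        have hrc := (hT γ hγ).2.2.1 _ (hmov γ hγ)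
        simp only [stepTag] at he2
        refine least_inj hp (hT β hβ).1 (hT γ hγ).1 (hmov β hβ) (hmov γ hγ) he1 ?_ fun hn => ?_
        · by_cases h1 : Movable p (down p β (least p β)) (least p β - (p : ℤ)) <;>
            by_cases h2 : Movable p (down p γ (least p γ)) (least p γ - (p : ℤ))
          · exact iff_of_true h1 h2
          · rw [if_pos h1, if_neg h2] at he2
            exact absurd he2.symm hrc
          · rw [if_neg h1, if_pos h2] at he2
            exact absurd he2 hrb
          · exact iff_of_false h1 h2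
        · rw [if_neg hn] at he2
          split_ifs at he2
          · exact absurd he2 hrb
          · exact he2
    rw [if_neg (Nat.succ_ne_zero w), Nat.add_sub_cancel]
    refine hcard.trans ?_
    rw [Finset.card_product]
    have hT'c := ih T' hT''
    by_cases hw : w = 0
    · subst hw
      simp only [tags, if_pos, Finset.card_erase_of_mem (Finset.mem_univ r), Finset.card_univ,
        ZMod.card, pow_zero, mul_one] at hT'c ⊢
      exact (Nat.mul_le_mul_right _ hT'c).trans (le_of_eq (one_mul _))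
    · rw [if_neg hw] at hT'c
      simp only [tags, if_neg hw, Finset.card_univ, ZMod.card]
      refine (Nat.mul_le_mul_right _ hT'c).trans (le_of_eq ?_)
      rw [mul_assoc, ← pow_succ, Nat.sub_add_cancel (Nat.one_le_iff_ne_zero.2 hw)]

theorem pred_mul_pow_lt (hp : 1 < p) (w : ℕ) :
    (if w = 0 then 1 else (p - 1) * p ^ (w - 1)) < p ^ w ∨ w = 0 := by
  rcases Nat.eq_zero_or_pos w with rfl | hw
  · exact Or.inr rfl
  · left
    rw [if_neg hw.ne']
    calc (p - 1) * p ^ (w - 1) < p * p ^ (w - 1) :=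
          Nat.mul_lt_mul_of_pos_right (by omega) (pow_pos (by omega) _)
      _ = p ^ w := by rw [← pow_succ', Nat.sub_add_cancel hw]

end Cfsg.Agent.SymRank
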