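import Cfsg.Agent.Lib.Blocks.SymRank.Regular
import Cfsg.Agent.Lib.Blocks.SymRank.Count

/-!
# Removing all `p`-hooks: the value at `w` cycles of length `p` is nonzero
-/

namespace Cfsg.Agent.SymRank

open Equiv

variable {N : ℕ}

theorem cntS_image (p : ℕ) {v : Fin N → ℤ} (hv : Function.Injective v) :
    cntS p (Finset.univ.image v) = cnt p v := by
  funext r
  rw [cntS, Finset.filter_image, Finset.card_image_of_injective _ hv]
  rfl

theorem sum_image' {v : Fin N → ℤ} (hv : Function.Injective v) :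
    ∑ x ∈ Finset.univ.image v, x = ∑ i, v i :=
  Finset.sum_image fun _ _ _ _ h => hv h

theorem image_nonneg {v : Fin N → ℤ} (hv : ∀ i, 0 ≤ v i) :
    ∀ x ∈ Finset.univ.image v, 0 ≤ x := by
  intro x hx
  obtain ⟨i, -, rfl⟩ := Finset.mem_image.1 hx
  exact hv i

theorem movable_image_iff (p : ℕ) (v : Fin N → ℤ) (r : ZMod p) :
    (∃ x, Movable p (Finset.univ.image v) x ∧ (x : ZMod p) = r) ↔ HasGap p r v := by
  constructor
  · rintro ⟨x, ⟨h1, h2, h3⟩, hr⟩
    obtain ⟨i, -, rfl⟩ := Finset.mem_image.1 h1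
    exact ⟨i, hr, h2, fun j hj => h3 (hj ▸ Finset.mem_image_of_mem _ (Finset.mem_univ j))⟩
  · rintro ⟨i, h1, h2, h3⟩
    refine ⟨v i, ⟨Finset.mem_image_of_mem _ (Finset.mem_univ i), h2, fun hm => ?_⟩, h1⟩
    obtain ⟨j, -, hj⟩ := Finset.mem_image.1 hm
    exact h3 j hj

/-- On each runner the beads are numbered in increasing order. -/
def RunnerOrd (p : ℕ) (v : Fin N → ℤ) : Prop :=
  ∀ i j, i < j → (v i : ZMod p) = (v j : ZMod p) → v i < v j

theorem runnerOrd_of_strictMono (p : ℕ) {v : Fin N → ℤ} (h : StrictMono v) : RunnerOrd p v :=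
  fun _ _ hij _ => h hij

theorem runnerOrd_unique {p : ℕ} {v w : Fin N → ℤ} (hv : Function.Injective v)
    (ho : RunnerOrd p v) (ho' : RunnerOrd p w)
    (hres : ∀ i, (v i : ZMod p) = (w i : ZMod p))
    (himg : Finset.univ.image v = Finset.univ.image w) : v = w := by
  have key : ∀ m : ℕ, ∀ i : Fin N, (i : ℕ) = m → v i = w i := by
    intro m
    induction m using Nat.strong_induction_on with
    | _ m ih =>
    intro i hi
    obtain ⟨j, -, hj⟩ := Finset.mem_image.1
      (himg ▸ Finset.mem_image_of_mem v (Finset.mem_univ i) : v i ∈ Finset.univ.image w)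
    obtain ⟨l, -, hl⟩ := Finset.mem_image.1
      (himg.symm ▸ Finset.mem_image_of_mem w (Finset.mem_univ i) : w i ∈ Finset.univ.image v)
    rcases lt_trichotomy j i with hlt | rfl | hgt
    · have := ih j (by rw [← hi]; exact hlt) j rfl
      exact absurd (hv (this.trans hj)) hlt.ne
    · exact hj.symm
    · have h1 : w i < w j := ho' i j hgt (by rw [← hres, hj])
      rcases lt_trichotomy l i with hlt | rfl | hgt'
      · have h2 := ih l (by rw [← hi]; exact hlt) l rfl
        have h3 : v l ≠ v i := fun h => hlt.ne (hv h)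
        have h4 : v l < v i := ho l i hlt (by rw [hl, hres i])
        exfalso
        have h5 : w l < w i := ho' l i hlt (by rw [← h2, hl])
        omega
      · exact hl
      · have h4 : v i < v l := ho i l hgt' (by rw [hl, hres i])
        omega
  funext i
  exact key _ i rfl

/-- No bead can move down by `p`. -/
def IsCoreTuple (p : ℕ) (v : Fin N → ℤ) : Prop := ∀ x, ¬ Movable p (Finset.univ.image v) x

theorem coreTuple_unique {p : ℕ} (hp : 0 < p) {r : ℕ} {v w : Fin N → ℤ} (hv : IsSt r v)
    (hw : IsSt r w) (cv : IsCoreTuple p v) (cw : IsCoreTuple p w) (ho : RunnerOrd p v)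
    (ho' : RunnerOrd p w) (hres : ∀ i, (v i : ZMod p) = (w i : ZMod p)) : v = w := by
  refine runnerOrd_unique hv.2.1 ho ho' hres ?_
  refine closed_unique hp (image_nonneg hv.1) (image_nonneg hw.1) cv cw ?_
  rw [cntS_image p hv.2.1, cntS_image p hw.2.1, cnt_congr p hres]

theorem step_down {p m : ℕ} (hp : 0 < p) {v : Fin N → ℤ} (hv : ∀ l, 0 ≤ v l) (i : Fin N)
    (h : IsSt m (v - Pi.single i (p : ℤ))) (ho : RunnerOrd p v) :
    RunnerOrd p (v - Pi.single i (p : ℤ)) ∧
      ∀ l, ((v - Pi.single i (p : ℤ) : Fin N → ℤ) l : ZMod p) = (v l : ZMod p) := by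
  have hres : ∀ l, ((v - Pi.single i (p : ℤ) : Fin N → ℤ) l : ZMod p) = (v l : ZMod p) := by
    intro l
    simp only [Pi.sub_apply, Int.cast_sub, single_cast_zero p dvd_rfl i l, sub_zero]
  refine ⟨fun a b hab hr => ?_, hres⟩
  rw [hres, hres] at hr
  have h1 := ho a b hab hr
  have hne : (v - Pi.single i (p : ℤ) : Fin N → ℤ) a ≠ (v - Pi.single i (p : ℤ) : Fin N → ℤ) b :=
    fun e => hab.ne (h.2.1 e)
  have hdvd : (p : ℤ) ∣ v b - v a := by
    rw [← ZMod.intCast_zmod_eq_zero_iff_dvd, Int.cast_sub, hr, sub_self]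
  obtain ⟨c, hc⟩ := hdvd
  have hp' : (0 : ℤ) < p := by exact_mod_cast hp
  have hc1 : 1 ≤ c := by nlinarith
  simp only [Pi.sub_apply, Pi.single_apply] at hne ⊢
  have := hv a
  split_ifs at hne ⊢ with ha hb
  · exact absurd (ha.trans hb.symm) hab.ne
  · omega
  · rcases eq_or_lt_of_le hc1 with rfl | hc2
    · exfalso; apply hne; omega
    · nlinarith
  · omega

/-- Removing `w` hooks of length `p` in all ways: a positive multiple of the core. -/
theorem exists_paths {p : ℕ} (hp : 0 < p) {r : ℕ} {ν : Multiset ℕ} (hν : ν.sum = r)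
    {κ : Finset ℤ} (hκ : ∀ x ∈ κ, 0 ≤ x) (hκc : ∀ x, ¬ Movable p κ x)
    (hκs : ∑ x ∈ κ, x = (r : ℤ) + off N) :
    ∀ (w : ℕ) (v : Fin N → ℤ), IsSt (r + p * w) v → RunnerOrd p v → cnt p v = cntS p κ →
      ∃ (K : ℕ) (v0 : Fin N → ℤ), 0 < K ∧ IsSt r v0 ∧ IsCoreTuple p v0 ∧ RunnerOrd p v0 ∧
        (∀ i, (v0 i : ZMod p) = (v i : ZMod p)) ∧
        val (Multiset.replicate w p + ν) v = (K : ℤ) * val ν v0 := by
  classical
  intro w
  induction w with
  | zero =>
    intro v hv ho hc
    refine ⟨1, v, one_pos, by simpa using hv, fun x hx => ?_, ho, fun _ => rfl, by simp⟩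
    obtain ⟨u, hu⟩ := exists_weight hp hκ hκc _ _ (nonneg_down p hx (image_nonneg hv.1))
      (by rw [cntS_down p hx, cntS_image p hv.2.1, hc]) rfl
    have := sum_down p hx
    rw [sum_image' hv.2.1, hv.2.2] at this
    have : (0 : ℤ) ≤ (p : ℤ) * u := by positivity
    push_cast at *
    omega
  | succ w ih =>
    intro v hv ho hc
    set μ := Multiset.replicate w p + ν with hμ
    have hμs : μ.sum = r + p * w := by
      rw [hμ, Multiset.sum_add, Multiset.sum_replicate, hν, smul_eq_mul]
      ring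
    have hval : val (Multiset.replicate (w + 1) p + ν) v =
        ∑ i, val μ (v - Pi.single i (p : ℤ)) := by
      rw [Multiset.replicate_succ, Multiset.cons_add, val_cons]
    set good : Finset (Fin N) := Finset.univ.filter fun i => IsSt (r + p * w) (v - Pi.single i (p : ℤ))
    have hgood : ∀ i ∈ good, ∃ (K : ℕ) (v0 : Fin N → ℤ), 0 < K ∧ IsSt r v0 ∧ IsCoreTuple p v0 ∧
        RunnerOrd p v0 ∧ (∀ l, (v0 l : ZMod p) = (v l : ZMod p)) ∧
        val μ (v - Pi.single i (p : ℤ)) = (K : ℤ) * val ν v0 := by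
      intro i hi
      have hst := (Finset.mem_filter.1 hi).2
      obtain ⟨ho', hres⟩ := step_down hp hv.1 i hst ho
      obtain ⟨K, v0, h1, h2, h3, h4, h5, h6⟩ := ih _ hst ho' ((cnt_congr p hres).trans hc)
      exact ⟨K, v0, h1, h2, h3, h4, fun l => (h5 l).trans (hres l), h6⟩
    have hne : good.Nonempty := by
      by_contra hno
      rw [Finset.not_nonempty_iff_eq_empty] at hno
      have hcl : ∀ x, ¬ Movable p (Finset.univ.image v) x := by
        intro x hx
        obtain ⟨i, hi1, hi2, hi3⟩ := (movable_image_iff p v (x : ZMod p)).1 ⟨x, hx, rfl⟩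
        have : i ∈ good := by
          refine Finset.mem_filter.2 ⟨Finset.mem_univ _, fun l => ?_, ?_, ?_⟩
          · have := hv.1 l
            simp only [Pi.sub_apply, Pi.single_apply]
            split_ifs with hl
            · subst hl; omega
            · omega
          · intro a b hab
            simp only [Pi.sub_apply, Pi.single_apply] at hab
            split_ifs at hab with ha hb hb
            · exact ha.trans hb.symm
            · exact absurd (show v b = v i - p by rw [ha] at hab; omega) (hi3 b)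
            · exact absurd (show v a = v i - p by rw [hb] at hab; omega) (hi3 a)
            · exact hv.2.1 (by omega)
          · simp only [Pi.sub_apply, Finset.sum_sub_distrib, Finset.sum_pi_single',
              Finset.mem_univ, if_true, hv.2.2]
            push_cast
            ring
        rw [hno] at this
        exact Finset.notMem_empty _ this
      have h := closed_unique hp (image_nonneg hv.1) hκ hcl hκc (by rw [cntS_image p hv.2.1, hc])
      have h2 := sum_image' hv.2.1
      rw [h, hv.2.2, hκs] at h2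
      push_cast at h2
      have : (0 : ℤ) < p := by exact_mod_cast hp
      nlinarith
    choose! K v0 h1 h2 h3 h4 h5 h6 using hgood
    obtain ⟨i0, hi0⟩ := hne
    refine ⟨∑ i ∈ good, K i, v0 i0, Finset.sum_pos h1 ⟨i0, hi0⟩, h2 i0 hi0, h3 i0 hi0, h4 i0 hi0,
      h5 i0 hi0, ?_⟩
    rw [hval, Nat.cast_sum, Finset.sum_mul, ← Finset.sum_subset (Finset.subset_univ good)
      fun i _ hi => ?_]
    · refine Finset.sum_congr rfl fun i hi => ?_
      rw [h6 i hi, coreTuple_unique hp (h2 i hi) (h2 i0 hi0) (h3 i hi) (h3 i0 hi0) (h4 i hi)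
        (h4 i0 hi0) fun l => (h5 i hi l).trans (h5 i0 hi0 l).symm]
    · by_contra hne
      exact hi (Finset.mem_filter.2 ⟨Finset.mem_univ _, hμs ▸ isSt_of_val hne⟩)

end Cfsg.Agent.SymRank
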