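import Cfsg.Prelude.Def_BlockRank
import Cfsg.Prelude.Def_CaseTheorems
import Cfsg.Agent.Lib.Blocks.SymRank.Paths
import Cfsg.Agent.Lib.Blocks.SymRank.Chars
import Cfsg.Agent.Lib.Blocks.SymRank.Closed
import Cfsg.Agent.Lib.Blocks.SecondMain

/-!
# Blocks of the symmetric groups have rank less than `p ^ s`
-/

set_option linter.style.haveILetI false

namespace Cfsg.Agent.SymRank

open Equiv Cfsg.Agent.Characters Cfsg.Agent.Blocks

variable {n p : ℕ} {M : Ideal Cfsg.AlgInt}

theorem prime_dvd_lcm {p : ℕ} (hp : p.Prime) (s : Multiset ℕ) : p ∣ s.lcm ↔ ∃ k ∈ s, p ∣ k := by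
  induction s using Multiset.induction_on with
  | empty => simp [hp.ne_one]
  | cons a s ih =>
    rw [Multiset.lcm_cons]
    constructor
    · intro h
      rcases hp.dvd_mul.1 (h.trans (Nat.lcm_dvd_mul _ _)) with h | h
      · exact ⟨a, Multiset.mem_cons_self _ _, h⟩
      · obtain ⟨k, hk, hk'⟩ := ih.1 h
        exact ⟨k, Multiset.mem_cons_of_mem hk, hk'⟩
    · rintro ⟨k, hk, hk'⟩
      rcases Multiset.mem_cons.1 hk with rfl | hk
      · exact hk'.trans (Nat.dvd_lcm_left _ _)
      · exact (ih.2 ⟨k, hk, hk'⟩).trans (Nat.dvd_lcm_right _ _)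

theorem regular_iff (hp : p.Prime) (g : Perm (Fin n)) :
    IsRegType p (typeOf g) ↔ ¬ p ∣ orderOf g := by
  rw [← Perm.lcm_cycleType, prime_dvd_lcm hp, IsRegType, typeOf, Perm.parts_partition]
  simp only [Multiset.mem_add, not_exists, not_and]
  constructor
  · exact fun h k hk => h k (Or.inl hk)
  · rintro h k (hk | hk)
    · exact h k hk
    · rw [Multiset.eq_of_mem_replicate hk]
      exact hp.not_dvd_one

open scoped ComplexConjugate in
theorem regSum_theta (hp : p.Prime) {N : ℕ} (a b : Fin N → ℤ) :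
    regSum p (theta n a) (theta n b) = (((n.factorial : ℚ) * proj p n a b : ℚ) : ℂ) := by
  rw [proj, ← sum_typeOf (n := n) fun μ =>
    if IsRegType p μ then (val μ a : ℚ) * (val μ b : ℚ) else 0, regSum_eq_sum, Rat.cast_sum]
  refine Finset.sum_congr rfl fun g _ => ?_
  simp only [regular_iff hp g, theta, map_intCast]
  split_ifs <;> simp

/-- The characters with a given core. -/
def coreClass (p n : ℕ) (c : ZMod p → ℕ) : Set (Cfsg.IrrCharacter (Perm (Fin n))) :=
  {χ | ∃ (a : Fin n → ℤ) (ε : ℂ), a ∈ incSt n n ∧ cnt p a = c ∧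
    (χ : Perm (Fin n) → ℂ) = ε • theta n a}

theorem intEl_coreClass (hM : Cfsg.IsPModular p M) (c : ZMod p → ℕ) :
    IntEl M (blockIdem (coreClass p n c)) := by
  refine intEl_of_regSum hM fun χ hχ ψ hψ => ?_
  obtain ⟨a, ε, ha, hac, he⟩ := hχ
  obtain ⟨b, δ, hb, -, he'⟩ := exists_tuple le_rfl ψ
  have hne : cnt p a ≠ cnt p b := fun h => hψ ⟨b, δ, hb, h ▸ hac, he'⟩
  have h0 := regSum_theta (n := n) hM.1 a b
  rw [proj_eq_zero le_rfl (mem_incSt.1 ha).1 (mem_incSt.1 hb).1 hne, mul_zero, Rat.cast_zero,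
    regSum_eq_sum] at h0
  rw [regSum_eq_sum, he, he']
  simp only [Pi.smul_apply, smul_eq_mul, map_mul]
  calc _ = ε * (starRingEnd ℂ) δ * ∑ x : Perm (Fin n),
        if ¬ p ∣ orderOf x then theta n a x * (starRingEnd ℂ) (theta n b x) else 0 := by
        rw [Finset.mul_sum]
        exact Finset.sum_congr rfl fun x _ => by split_ifs <;> ring
    _ = 0 := by rw [h0, mul_zero]

theorem block_subset_coreClass (hM : Cfsg.IsPModular p M)
    {B : Set (Cfsg.IrrCharacter (Perm (Fin n)))} (hB : Cfsg.IsPBlock M B)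
    {χ : Cfsg.IrrCharacter (Perm (Fin n))} (hχ : χ ∈ B) {c : ZMod p → ℕ}
    (hc : χ ∈ coreClass p n c) : B ⊆ coreClass p n c := by
  rw [block_eq_blockOf hM hB hχ]
  exact blockOf_subset_of_intEl hM (intEl_coreClass hM c) hc

open scoped Classical in
/-- The gapless tuples of a core class. -/
noncomputable def gapless (p n : ℕ) (r : ZMod p) (c : ZMod p → ℕ) : Finset (Fin n → ℤ) :=
  (incSt n n).filter fun a => cnt p a = c ∧ ¬ HasGap p r a

theorem mem_gapless {r : ZMod p} {c : ZMod p → ℕ} {a : Fin n → ℤ} :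
    a ∈ gapless p n r c ↔ a ∈ incSt n n ∧ cnt p a = c ∧ ¬ HasGap p r a := by
  simp [gapless]

theorem pRegularPart_smul {K : Type*} [Group K] (p : ℕ) (c : ℂ) (f : K → ℂ) :
    Cfsg.pRegularPart p (c • f) = c • Cfsg.pRegularPart p f := by
  funext g
  simp only [Cfsg.pRegularPart, Pi.smul_apply, smul_eq_mul]
  split_ifs <;> simp

/-- The regular part of a tuple is spanned by those of the gapless tuples of its core class. -/
theorem regPart_mem_span (hp : p.Prime) (r : ZMod p) {a : Fin n → ℤ} (ha : IsSt n a) :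
    Cfsg.pRegularPart p (theta n a) ∈ Submodule.span ℂ
      ((fun b => Cfsg.pRegularPart p (theta n b)) '' (gapless p n r (cnt p a) : Set (Fin n → ℤ))) := by
  classical
  let L : (n.Partition → ℚ) →ₗ[ℚ] (Perm (Fin n) → ℂ) :=
    { toFun := fun f g => ((f (partOf g) : ℚ) : ℂ)
      map_add' := fun f f' => by funext g; simp
      map_smul' := fun q f => by funext g; simp [Rat.smul_def] }
  have hL : ∀ a : Fin n → ℤ, L (regVal p n a) = Cfsg.pRegularPart p (theta n a) := by
    intro a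
    funext g
    simp only [L, LinearMap.coe_mk, AddHom.coe_mk, regVal, Cfsg.pRegularPart, theta, partOf,
      Cfsg.IsPRegular, regular_iff hp]
    split_ifs <;> simp_all
  rw [← hL]
  have hmem := regVal_mem_span (n := n) le_rfl hp.one_le r _ a ha rfl
  generalize regVal p n a = z at hmem ⊢
  induction hmem using Submodule.span_induction with
  | mem x hx =>
    obtain ⟨b, hb, hbc, hbg, rfl⟩ := hx
    rw [hL]
    exact Submodule.subset_span
      (Set.mem_image_of_mem _ (Finset.mem_coe.2 (mem_gapless.2 ⟨hb, hbc, hbg⟩)))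
  | zero => simp
  | add x y _ _ hx hy => rw [map_add]; exact Submodule.add_mem _ hx hy
  | smul q x _ hx =>
    rw [map_smul, show q • L x = (q : ℂ) • L x by funext g; simp [Rat.smul_def]]
    exact Submodule.smul_mem _ _ hx

theorem blockRank_le (hp : p.Prime) (r : ZMod p) (c : ZMod p → ℕ)
    {B : Set (Cfsg.IrrCharacter (Perm (Fin n)))} (hB : B ⊆ coreClass p n c) :
    Cfsg.blockRank p B ≤ (gapless p n r c).card := by
  classical
  set S : Finset (Perm (Fin n) → ℂ) :=
    (gapless p n r c).image fun a => Cfsg.pRegularPart p (theta n a)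
  refine le_trans ?_ (Finset.card_image_le (f := fun a => Cfsg.pRegularPart p (theta n a)))
  refine le_trans ?_ (finrank_span_finset_le_card (R := ℂ) S)
  refine Submodule.finrank_mono (Submodule.span_le.2 ?_)
  rintro _ ⟨χ, hχ, rfl⟩
  obtain ⟨a, ε, ha, hac, he⟩ := hB hχ
  beta_reduce
  rw [SetLike.mem_coe, he, pRegularPart_smul]
  refine Submodule.smul_mem _ _ ?_
  have h := regPart_mem_span hp r (mem_incSt.1 ha).1
  rwa [hac, ← Finset.coe_image] at h

theorem exists_closed (hp : 0 < p) :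
    ∀ (t : ℕ) (β : Finset ℤ), (∀ x ∈ β, 0 ≤ x) → (∑ x ∈ β, x).toNat = t →
      ∃ κ : Finset ℤ, (∀ x ∈ κ, 0 ≤ x) ∧ (∀ x, ¬ Movable p κ x) ∧
        cntS p β = cntS p κ ∧ κ.card = β.card := by
  intro t
  induction t using Nat.strong_induction_on with
  | _ t ih =>
  intro β h0 ht
  by_cases hcl : ∀ x, ¬ Movable p β x
  · exact ⟨β, h0, hcl, rfl, rfl⟩
  push Not at hcl
  obtain ⟨x, hx⟩ := hcl
  have hle : (0 : ℤ) ≤ ∑ y ∈ down p β x, y := Finset.sum_nonneg (nonneg_down p hx h0)
  have hsd := sum_down p hx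
  have hp' : (0 : ℤ) < p := by exact_mod_cast hp
  obtain ⟨κ, h1, h2, h3, h4⟩ := ih _ (ht ▸ (Int.toNat_lt_toNat (by omega)).2 (by omega))
    (down p β x) (nonneg_down p hx h0) rfl
  refine ⟨κ, h1, h2, by rw [← h3, cntS_down p hx], ?_⟩
  rw [h4, down, Finset.card_insert_of_notMem fun hm => hx.2.2 (Finset.mem_of_mem_erase hm),
    Finset.card_erase_add_one hx.1]

theorem off_le_sum_finset {N : ℕ} {κ : Finset ℤ} (hc : κ.card = N) (h0 : ∀ x ∈ κ, 0 ≤ x) :
    off N ≤ ∑ x ∈ κ, x := by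
  have e := κ.orderEmbOfFin hc
  have h := off_le_sum (κ.orderEmbOfFin hc).injective fun i =>
    h0 _ (Finset.orderEmbOfFin_mem κ hc i)
  refine h.trans (le_of_eq ?_)
  conv_rhs => rw [← Finset.map_orderEmbOfFin_univ κ hc, Finset.sum_map]
  rfl

/-- The weight data of a tuple. -/
theorem exists_core (hp : 0 < p) {v : Fin n → ℤ} (hv : IsSt n v) :
    ∃ (w r : ℕ) (κ : Finset ℤ), n = r + p * w ∧ (∀ x ∈ κ, 0 ≤ x) ∧ (∀ x, ¬ Movable p κ x) ∧
      cnt p v = cntS p κ ∧ ∑ x ∈ κ, x = (r : ℤ) + off n := by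
  obtain ⟨κ, h1, h2, h3, h4⟩ := exists_closed hp _ _ (image_nonneg hv.1) rfl
  obtain ⟨w, hw⟩ := exists_weight hp h1 h2 _ _ (image_nonneg hv.1) h3 rfl
  rw [sum_image' hv.2.1, hv.2.2] at hw
  have hoff := off_le_sum_finset (N := n) (by
    rw [h4, Finset.card_image_of_injective _ hv.2.1, Finset.card_univ, Fintype.card_fin]) h1
  have hle : p * w ≤ n := by
    have : ((p * w : ℕ) : ℤ) ≤ (n : ℤ) := by push_cast; omega
    exact_mod_cast this
  refine ⟨w, n - p * w, κ, by omega, h1, h2, by rw [← cntS_image p hv.2.1, h3], ?_⟩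
  push_cast [Nat.cast_sub hle]
  omega

theorem gapless_image [NeZero p] (r : ZMod p) {w r0 : ℕ} {κ : Finset ℤ} (hn : n = r0 + p * w)
    (h3 : ∑ x ∈ κ, x = (r0 : ℤ) + off n) :
    ((gapless p n r (cntS p κ)).image fun a => Finset.univ.image a).card =
        (gapless p n r (cntS p κ)).card ∧
      ∀ β ∈ (gapless p n r (cntS p κ)).image (fun a => Finset.univ.image a),
        (∀ x ∈ β, 0 ≤ x) ∧ cntS p β = cntS p κ ∧ (∀ x, Movable p β x → (x : ZMod p) ≠ r) ∧
          ∑ x ∈ β, x = ∑ x ∈ κ, x + (p : ℤ) * w := by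
  classical
  refine ⟨Finset.card_image_of_injOn fun a ha b hb he => ?_, fun β hβ => ?_⟩
  · have ha' := (mem_incSt.1 (mem_gapless.1 (Finset.mem_coe.1 ha)).1).2
    have hb' := (mem_incSt.1 (mem_gapless.1 (Finset.mem_coe.1 hb)).1).2
    refine (ha'.range_inj hb').1 ?_
    simpa using congrArg (fun s : Finset ℤ => (s : Set ℤ)) he
  obtain ⟨a, ha, rfl⟩ := Finset.mem_image.1 hβ
  obtain ⟨hst, hc, hg⟩ := mem_gapless.1 ha
  have hst' := (mem_incSt.1 hst).1
  refine ⟨image_nonneg hst'.1, by rw [cntS_image p hst'.2.1, hc],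
    fun x hx hxr => hg ((movable_image_iff p a r).1 ⟨x, hx, hxr⟩), ?_⟩
  rw [sum_image' hst'.2.1, hst'.2.2, h3]
  have : (n : ℤ) = (r0 : ℤ) + (p : ℤ) * w := by exact_mod_cast hn
  omega

theorem gapless_card_le [NeZero p] (r : ZMod p) {w r0 : ℕ} {κ : Finset ℤ} (hn : n = r0 + p * w)
    (h1 : ∀ x ∈ κ, 0 ≤ x) (h2 : ∀ x, ¬ Movable p κ x)
    (h3 : ∑ x ∈ κ, x = (r0 : ℤ) + off n) :
    (gapless p n r (cntS p κ)).card ≤ if w = 0 then 1 else (p - 1) * p ^ (w - 1) := by
  rw [← (gapless_image r hn h3).1]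
  exact card_le r h1 h2 w _ (gapless_image r hn h3).2

theorem exists_block_part {K : Type*} [Group K] [Finite K] (hM : Cfsg.IsPModular p M) {θ : K → ℂ}
    (hθ : Cfsg.IsClassFunction K θ) {y : K} (hy : θ y ≠ 0) :
    ∃ b, Cfsg.IsPBlock M b ∧ Cfsg.blockPart b θ y ≠ 0 := by
  classical
  letI := Fintype.ofFinite K
  haveI := Fintype.ofFinite (Cfsg.IrrCharacter K)
  rw [classFun_eq_sum hθ, Finset.sum_apply,
    ← Finset.sum_fiberwise Finset.univ (fun ψ : Cfsg.IrrCharacter K =>
      Cfsg.blockOf M (ψ : K → ℂ))] at hy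
  obtain ⟨b, -, hb⟩ := Finset.exists_ne_zero_of_sum_ne_zero hy
  obtain ⟨ψ, hψ, -⟩ := Finset.exists_ne_zero_of_sum_ne_zero hb
  have hbb : Cfsg.IsPBlock M b := (Finset.mem_filter.1 hψ).2 ▸ isPBlock_blockOf M ψ
  refine ⟨b, hbb, fun h => hb ?_⟩
  rw [← h, Cfsg.blockPart, finsum_mem_def, finsum_eq_sum_of_fintype, Finset.sum_filter]
  refine Finset.sum_congr rfl fun φ _ => ?_
  rw [Set.indicator_apply, Pi.smul_apply, smul_eq_mul]
  refine if_congr ⟨fun e => e ▸ mem_blockOf_self hM φ, fun e => (block_eq_blockOf hM hbb e).symm⟩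
    rfl rfl

theorem typeOf_one (r : ℕ) : typeOf (1 : Perm (Fin r)) = Multiset.replicate r 1 := by
  simp [typeOf, Perm.parts_partition]

/-- The group generated by the cycles of `u`. -/
def cycleSpan (u : Perm (Fin n)) : Subgroup (Perm (Fin n)) :=
  Subgroup.closure (u.cycleFactorsFinset : Set (Perm (Fin n)))

theorem cycleSpan_le_centralizer (u : Perm (Fin n)) :
    cycleSpan u ≤ Subgroup.centralizer ({u} : Set (Perm (Fin n))) :=
  (Subgroup.closure_le _).2 fun _ hc => Subgroup.mem_centralizer_singleton_iff.2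
    (Perm.self_mem_cycle_factors_commute hc)

theorem cycleSpan_comm (u : Perm (Fin n)) :
    ∀ a ∈ cycleSpan u, ∀ b ∈ cycleSpan u, a * b = b * a := by
  intro a ha b hb
  have h : cycleSpan u ≤ Subgroup.centralizer (u.cycleFactorsFinset : Set (Perm (Fin n))) := by
    refine (Subgroup.closure_le _).2 fun c hc d hd => ?_
    rcases eq_or_ne d c with rfl | hne
    · rfl
    · exact u.cycleFactorsFinset_mem_commute hd hc hne
  have h' : cycleSpan u ≤ Subgroup.centralizer ({a} : Set (Perm (Fin n))) :=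
    (Subgroup.closure_le _).2 fun c hc =>
      Subgroup.mem_centralizer_singleton_iff.2 ((Subgroup.mem_centralizer_iff.1 (h ha) c hc))
  exact (Subgroup.mem_centralizer_singleton_iff.1 (h' hb)).symm

theorem cycleSpan_normal (u : Perm (Fin n)) :
    ((cycleSpan u).subgroupOf (Subgroup.centralizer ({u} : Set (Perm (Fin n))))).Normal := by
  refine ⟨fun x hx h => ?_⟩
  rw [Subgroup.mem_subgroupOf] at hx ⊢
  have hh : (h : Perm (Fin n)) * u * (h : Perm (Fin n))⁻¹ = u := by
    rw [Subgroup.mem_centralizer_singleton_iff.1 h.2, mul_inv_cancel_right]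
  have : cycleSpan u ≤ (cycleSpan u).comap (MulAut.conj (h : Perm (Fin n))).toMonoidHom := by
    refine (Subgroup.closure_le _).2 fun c hc => Subgroup.subset_closure ?_
    have := (Perm.mem_cycleFactorsFinset_conj u (h : Perm (Fin n)) c).2 hc
    rw [hh] at this
    exact this
  exact this hx

theorem cycleSpan_pow {u : Perm (Fin n)} {w : ℕ}
    (hu : u.cycleType = Multiset.replicate w p) {a : Perm (Fin n)} (ha : a ∈ cycleSpan u) :
    a ^ p = 1 := by
  induction ha using Subgroup.closure_induction with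
  | mem c hc =>
    have h1 : orderOf c = p := by
      rw [(Perm.mem_cycleFactorsFinset_iff.1 hc).1.orderOf]
      refine Multiset.eq_of_mem_replicate (n := w) ?_
      rw [← hu, Perm.cycleType_def]
      exact Multiset.mem_map_of_mem _ hc
    rw [← h1, pow_orderOf_eq_one]
  | one => exact one_pow p
  | mul x y hx hy h1 h2 =>
    rw [Commute.mul_pow (cycleSpan_comm u x hx y hy), h1, h2, one_mul]
  | inv x _ h1 => rw [inv_pow, h1, inv_one]

theorem cycleSpan_card (u : Perm (Fin n)) : u.cycleType.prod ≤ Nat.card (cycleSpan u) := by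
  classical
  let f : ((c : u.cycleFactorsFinset) → Subgroup.zpowers c.val) → cycleSpan u := fun v =>
    ⟨Subgroup.noncommPiCoprod u.pairwise_commute_of_mem_zpowers v, by
      have h : (Subgroup.noncommPiCoprod u.pairwise_commute_of_mem_zpowers).range ≤ cycleSpan u := by
        rw [Subgroup.noncommPiCoprod_range]
        exact iSup_le fun c => Subgroup.zpowers_le.2 (Subgroup.subset_closure c.2)
      exact h ⟨v, rfl⟩⟩
  have hf : Function.Injective f := by
    intro v w h
    have h' := congrArg Subtype.val h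
    have : Perm.OnCycleFactors.kerParam u (1, v) = Perm.OnCycleFactors.kerParam u (1, w) := by
      simp only [Perm.OnCycleFactors.kerParam, MonoidHom.noncommCoprod_apply, map_one, one_mul]
      exact h'
    exact (Prod.mk.inj (Perm.OnCycleFactors.kerParam_injective u this)).2
  refine le_trans (le_of_eq ?_) (Nat.card_le_card_of_injective f hf)
  rw [Nat.card_pi, Perm.cycleType_def, Finset.prod_map_val, ← Finset.prod_coe_sort]
  refine Finset.prod_congr rfl fun c _ => ?_
  rw [Nat.card_zpowers, (Perm.mem_cycleFactorsFinset_iff.1 c.2).1.orderOf]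
  rfl

/-- A normal `p`-subgroup of the centraliser of a `p`-element where a character of `B` does not
vanish lies in a defect group of `B`. -/
theorem le_defect_of_value {K : Type*} [Group K] [Finite K] (hM : Cfsg.IsPModular p M)
    {B : Set (Cfsg.IrrCharacter K)} (hB : Cfsg.IsPBlock M B) {χ : Cfsg.IrrCharacter K} (hχ : χ ∈ B)
    {u : K} (hord : ∃ k : ℕ, orderOf u = p ^ k) (hne : (χ : K → ℂ) u ≠ 0) {Q : Subgroup K}
    (hQC : Q ≤ Subgroup.centralizer ({u} : Set K))
    (hQn : (Q.subgroupOf (Subgroup.centralizer ({u} : Set K))).Normal) (hQ : IsPGroup p Q) :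
    ∃ E : Subgroup K, Cfsg.IsDefectGroup p M B E ∧ Q ≤ E := by
  classical
  haveI := hQn
  set C := Subgroup.centralizer ({u} : Set K) with hC
  set θ : C → ℂ := fun c => (χ : K → ℂ) (u * (c : K)) with hθ
  have hθc : Cfsg.IsClassFunction C θ := by
    intro g k
    simp only [θ, Subgroup.coe_mul, Subgroup.coe_inv]
    have hk := Subgroup.mem_centralizer_singleton_iff.1 k.2
    rw [show u * ((k : K) * g * (k : K)⁻¹) = (k : K) * (u * g) * (k : K)⁻¹ by
      rw [← mul_assoc, ← mul_assoc, ← hk]; group]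
    exact irr_isClassFunction χ _ _
  obtain ⟨b, hb, hbne⟩ := exists_block_part hM hθc (y := 1) (by simpa [θ] using hne)
  have hind : Cfsg.IsInducedBlock M C b B := by
    by_contra hnot
    exact hbne (blockPart_eq_zero_of_not_induced hM hord hB hχ hb hnot (by simp [hM.1.ne_one]))
  obtain ⟨Db, hDb⟩ := exists_defectGroup hM hb
  obtain ⟨E, hE, hle⟩ := exists_defect_le_of_induced hM hind hDb
  refine ⟨E, hE, le_trans ?_ ((Subgroup.map_mono
    (normal_le_defect hM (isPGroup_subgroupOf hQ hQC) hb hDb)).trans hle)⟩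
  rw [Subgroup.subgroupOf_map_subtype, inf_eq_left.2 hQC]

theorem orderOf_of_cycleType (hp : p.Prime) {u : Perm (Fin n)} {w : ℕ}
    (hu : u.cycleType = Multiset.replicate w p) : ∃ k : ℕ, orderOf u = p ^ k := by
  have hd : orderOf u ∣ p := by
    rw [← Perm.lcm_cycleType, hu]
    exact Multiset.lcm_dvd.2 fun k hk => (Multiset.eq_of_mem_replicate hk).dvd
  rcases (Nat.dvd_prime hp).1 hd with h | h
  · exact ⟨0, by rw [h, pow_zero]⟩
  · exact ⟨1, by rw [h, pow_one]⟩

/-- A character with `w` hooks of length `p` is nonzero at `w` disjoint `p`-cycles, so the defect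
group contains the elementary group they generate. -/
theorem exists_cycleSpan_le (hM : Cfsg.IsPModular p M)
    {B : Set (Cfsg.IrrCharacter (Perm (Fin n)))} (hB : Cfsg.IsPBlock M B)
    {χ : Cfsg.IrrCharacter (Perm (Fin n))} (hχ : χ ∈ B) {w : ℕ} {u : Perm (Fin n)}
    (hu : u.cycleType = Multiset.replicate w p) (hne : (χ : Perm (Fin n) → ℂ) u ≠ 0) :
    ∃ E : Subgroup (Perm (Fin n)), Cfsg.IsDefectGroup p M B E ∧ cycleSpan u ≤ E :=
  le_defect_of_value hM hB hχ (orderOf_of_cycleType hM.1 hu) hne (cycleSpan_le_centralizer u)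
    (cycleSpan_normal u) fun a => ⟨1, by
      rw [pow_one]
      exact Subtype.ext (cycleSpan_pow hu a.2)⟩

/-- The elementary group of `w` disjoint cycles inside the given defect group. -/
theorem exists_elementary [Fact p.Prime] (hM : Cfsg.IsPModular p M)
    {B : Set (Cfsg.IrrCharacter (Perm (Fin n)))} (hB : Cfsg.IsPBlock M B)
    {D : Subgroup (Perm (Fin n))} (hD : Cfsg.IsDefectGroup p M B D)
    {χ : Cfsg.IrrCharacter (Perm (Fin n))} (hχ : χ ∈ B) {w : ℕ} {u : Perm (Fin n)}
    (hu : u.cycleType = Multiset.replicate w p) (hne : (χ : Perm (Fin n) → ℂ) u ≠ 0) :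
    ∃ A : Subgroup D, IsMulCommutative A ∧ (∀ a ∈ A, a ^ p = 1) ∧ p ^ w ≤ Nat.card A := by
  classical
  obtain ⟨E', hE', h1⟩ := exists_cycleSpan_le hM hB hχ hu hne
  obtain ⟨x, hx⟩ := exists_defectGroup_conj_eq hM hB hE' hD
  have h2 : (cycleSpan u).map (MulAut.conj x).toMonoidHom ≤ D := by
    rw [hx]
    exact Subgroup.map_mono h1
  refine ⟨((cycleSpan u).map (MulAut.conj x).toMonoidHom).subgroupOf D,
    ⟨⟨fun a b => ?_⟩⟩, fun a ha => ?_, ?_⟩
  · obtain ⟨a', ha', hae⟩ := Subgroup.mem_subgroupOf.1 a.2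
    obtain ⟨b', hb', hbe⟩ := Subgroup.mem_subgroupOf.1 b.2
    refine Subtype.ext (Subtype.ext ?_)
    simp only [Subgroup.coe_mul, ← hae, ← hbe, ← map_mul, cycleSpan_comm u a' ha' b' hb']
  · obtain ⟨a', ha', hae⟩ := Subgroup.mem_subgroupOf.1 ha
    refine Subtype.ext ?_
    rw [SubmonoidClass.coe_pow, ← hae, ← map_pow, cycleSpan_pow hu ha', map_one]
    rfl
  · rw [Nat.card_congr (Subgroup.subgroupOfEquivOfLe h2).toEquiv,
      Subgroup.card_map_of_injective (MulEquiv.injective _)]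
    refine le_trans (le_of_eq ?_) (cycleSpan_card u)
    rw [hu, Multiset.prod_replicate]

/-- The elementary abelian subgroups of a group of sectional rank at most `s`. -/
theorem card_elementary_le {K : Type*} [Group K] {s : ℕ} (hs : Cfsg.SectionalPRankLE p s K)
    (A : Subgroup K) (hA : IsMulCommutative A) (hA' : ∀ x ∈ A, x ^ p = 1) :
    Nat.card A ≤ p ^ s := by
  set f : K →* (↥(⊤ : Subgroup K) ⧸ (⊥ : Subgroup ↥(⊤ : Subgroup K))) :=
    (QuotientGroup.mk' ⊥).comp Subgroup.topEquiv.symm.toMonoidHom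
  have hf : Function.Injective f := by
    intro x y h
    simp only [f, MonoidHom.comp_apply, QuotientGroup.mk'_apply, QuotientGroup.eq,
      Subgroup.mem_bot, inv_mul_eq_one] at h
    exact Subgroup.topEquiv.symm.injective h
  rw [← Subgroup.card_map_of_injective (K := A) hf]
  refine hs ⊤ ⊥ (A.map f) ⟨⟨fun x y => ?_⟩⟩ ?_
  · obtain ⟨x', hx', hxe⟩ := x.2
    obtain ⟨y', hy', hye⟩ := y.2
    refine Subtype.ext ?_
    simp only [Subgroup.coe_mul, ← hxe, ← hye, ← map_mul]
    exact congrArg f (congrArg Subtype.val (hA.is_comm.comm ⟨x', hx'⟩ ⟨y', hy'⟩))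
  · rintro _ ⟨x, hx, rfl⟩
    rw [← map_pow, hA' x hx, map_one]

/-- A nontrivial finite `p`-group has positive sectional rank. -/
theorem one_le_rank [Fact p.Prime] {K : Type*} [Group K] [Finite K] {D : Subgroup K}
    (hD : IsPGroup p D) (hD1 : D ≠ ⊥) {s : ℕ} (hs : Cfsg.SectionalPRankLE p s D) : 1 ≤ s := by
  by_contra hs0
  have hp := (Fact.out : p.Prime)
  haveI : Nontrivial D := (Subgroup.nontrivial_iff_ne_bot D).2 hD1
  obtain ⟨k, hk⟩ := (IsPGroup.iff_card).1 hD
  have hk0 : k ≠ 0 := by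
    rintro rfl
    exact absurd (hk.trans (pow_zero p)) (Finite.one_lt_card (α := D)).ne'
  obtain ⟨x, hx⟩ := exists_prime_orderOf_dvd_card' p (hk ▸ dvd_pow_self p hk0 : p ∣ Nat.card D)
  have := card_elementary_le hs (Subgroup.zpowers x) inferInstance fun y hy => by
    obtain ⟨i, rfl⟩ := Subgroup.mem_zpowers_iff.1 hy
    rw [← zpow_natCast (x ^ i) p, ← zpow_mul, mul_comm, zpow_mul, zpow_natCast, ← hx,
      pow_orderOf_eq_one, one_zpow]
  rw [Nat.card_zpowers, hx, show s = 0 by omega, pow_zero] at this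
  exact absurd this (not_le.2 hp.one_lt)

theorem exists_cycles (hp : p.Prime) {w r : ℕ} (hn : n = r + p * w) :
    ∃ u : Perm (Fin n), u.cycleType = Multiset.replicate w p := by
  refine (Perm.exists_with_cycleType_iff (Fin n)).2 ⟨?_, fun k hk => ?_⟩
  · rw [Multiset.sum_replicate, smul_eq_mul, Fintype.card_fin, mul_comm]
    omega
  · rw [Multiset.eq_of_mem_replicate hk]
    exact hp.two_le

/-- The value at `w` cycles of length `p` of a tuple of weight `w` is not zero. -/
theorem theta_ne_zero (hp : p.Prime) {w r : ℕ} {κ : Finset ℤ} (hn : n = r + p * w)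
    (h1 : ∀ x ∈ κ, 0 ≤ x) (h2 : ∀ x, ¬ Movable p κ x) (h4 : ∑ x ∈ κ, x = (r : ℤ) + off n)
    {a : Fin n → ℤ} (ha : a ∈ incSt n n) (h3 : cnt p a = cntS p κ) {u : Perm (Fin n)}
    (hu : u.cycleType = Multiset.replicate w p) : theta n a u ≠ 0 := by
  obtain ⟨K, v0, hK, hv0, -, -, -, hval⟩ := exists_paths hp.pos
    (ν := Multiset.replicate r 1) (by simp) h1 h2 h4 w a (hn ▸ (mem_incSt.1 ha).1)
    (runnerOrd_of_strictMono p (mem_incSt.1 ha).2) h3
  have hu' : typeOf u = Multiset.replicate w p + Multiset.replicate r 1 := by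
    rw [typeOf, Perm.parts_partition, hu, ← Perm.sum_cycleType, hu, Multiset.sum_replicate,
      Fintype.card_fin, smul_eq_mul]
    congr 2
    rw [mul_comm]
    omega
  have h0 := theta_one_ne_zero (n := r) hv0
  rw [theta, typeOf_one] at h0
  rw [theta, hu', hval, Int.cast_mul]
  exact mul_ne_zero (by exact_mod_cast hK.ne') h0

/-- A block of a symmetric group with nontrivial defect group has rank less than `p ^ s`. -/
theorem blockRank_lt [Fact p.Prime] (hM : Cfsg.IsPModular p M)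
    {B : Set (Cfsg.IrrCharacter (Perm (Fin n)))} (hB : Cfsg.IsPBlock M B)
    {D : Subgroup (Perm (Fin n))} (hD : Cfsg.IsDefectGroup p M B D) (hD1 : D ≠ ⊥) {s : ℕ}
    (hs : Cfsg.SectionalPRankLE p s D) : Cfsg.blockRank p B < p ^ s := by
  classical
  have hp := hM.1
  haveI : NeZero p := ⟨hp.ne_zero⟩
  obtain ⟨χ, hχ⟩ := block_nonempty hM hB
  obtain ⟨a, ε, ha, hε, he⟩ := exists_tuple (le_refl n) χ
  have hχc : χ ∈ coreClass p n (cnt p a) := ⟨a, ε, ha, rfl, he⟩
  obtain ⟨w, r, κ, hn, h1, h2, h3, h4⟩ := exists_core hp.pos (mem_incSt.1 ha).1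
  have hrank : Cfsg.blockRank p B ≤ if w = 0 then 1 else (p - 1) * p ^ (w - 1) := by
    refine le_trans ?_ (gapless_card_le (0 : ZMod p) hn h1 h2 h4)
    rw [← h3]
    exact blockRank_le hp 0 (cnt p a) (block_subset_coreClass hM hB hχ hχc)
  have hs1 : 1 ≤ s := one_le_rank (isPGroup_defect hD) hD1 hs
  rcases Nat.eq_zero_or_pos w with rfl | hw
  · rw [if_pos rfl] at hrank
    exact lt_of_le_of_lt hrank (Nat.one_lt_pow (by omega) hp.one_lt)
  obtain ⟨u, hu⟩ := exists_cycles hp hn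
  have hne : (χ : Perm (Fin n) → ℂ) u ≠ 0 := by
    rw [he, Pi.smul_apply, smul_eq_mul]
    exact mul_ne_zero (by rcases hε with rfl | rfl <;> norm_num)
      (theta_ne_zero hp hn h1 h2 h4 ha h3 hu)
  obtain ⟨A, hA1, hA2, hA3⟩ := exists_elementary hM hB hD hχ hu hne
  have hws : w ≤ s := (Nat.pow_le_pow_iff_right hp.one_lt).1
    (hA3.trans (card_elementary_le hs A hA1 hA2))
  rw [if_neg hw.ne'] at hrank
  refine lt_of_le_of_lt hrank (lt_of_lt_of_le ?_ (Nat.pow_le_pow_right hp.pos hws))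
  have := (pred_mul_pow_lt hp.one_lt w).resolve_right hw.ne'
  rwa [if_neg hw.ne'] at this

end Cfsg.Agent.SymRank
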