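import Cfsg.Agent.Lib.Blocks.SymRank.CountSym
import Cfsg.Agent.Lib.Blocks.SymRank.Main

/-!
# Mirrored bead sets: the product with the sign character
-/

namespace Cfsg.Agent.SymRank

open Equiv

variable {N n p : ℕ}

/-- The complement, reflected in `[0, c]`. -/
noncomputable def mirror (c : ℤ) (β : Finset ℤ) : Finset ℤ := ((Finset.Icc 0 c) \ β).image fun x => c - x

theorem mem_mirror {c x : ℤ} {β : Finset ℤ} : x ∈ mirror c β ↔ 0 ≤ x ∧ x ≤ c ∧ c - x ∉ β := by
  simp only [mirror, Finset.mem_image, Finset.mem_sdiff, Finset.mem_Icc]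
  constructor
  · rintro ⟨y, ⟨⟨h1, h2⟩, h3⟩, rfl⟩
    exact ⟨by omega, by omega, by rwa [show c - (c - y) = y by ring]⟩
  · rintro ⟨h1, h2, h3⟩
    exact ⟨c - x, ⟨⟨by omega, by omega⟩, h3⟩, by ring⟩

theorem card_mirror {c : ℤ} {β : Finset ℤ} (h : ∀ x ∈ β, 0 ≤ x ∧ x ≤ c) :
    (mirror c β).card = (c + 1).toNat - β.card := by
  rw [mirror, Finset.card_image_of_injective _ fun x y h => by simpa using h,
    Finset.card_sdiff_of_subset fun x hx => Finset.mem_Icc.2 (h x hx), Int.card_Icc, sub_zero]

theorem mirror_mirror {c : ℤ} {β : Finset ℤ} (h : ∀ x ∈ β, 0 ≤ x ∧ x ≤ c) :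
    mirror c (mirror c β) = β := by
  ext x
  simp only [mem_mirror, show c - (c - x) = x by ring]
  constructor
  · rintro ⟨h1, h2, h3⟩
    by_contra hx
    exact h3 ⟨by omega, by omega, hx⟩
  · intro hx
    exact ⟨(h x hx).1, (h x hx).2, fun hh => hh.2.2 hx⟩

/-! ## The sign of the ordering -/

/-- The sign of the Vandermonde product. -/
def ord (v : Fin N → ℤ) : ℤ := Int.sign (Matrix.vandermonde v).det

theorem ord_comp (v : Fin N → ℤ) (τ : Perm (Fin N)) :
    ord (v ∘ τ) = (Perm.sign τ : ℤ) * ord v := by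
  have h : Matrix.vandermonde (v ∘ τ) = (Matrix.vandermonde v).submatrix τ id := rfl
  rw [ord, ord, h, Matrix.det_permute, Int.sign_mul, Int.cast_id]
  rcases Int.units_eq_one_or (Perm.sign τ) with e | e <;> simp [e]

theorem ord_mul_self {v : Fin N → ℤ} (hv : Function.Injective v) : ord v * ord v = 1 := by
  rw [ord, ← Int.sign_mul, Int.sign_eq_one_iff_pos]
  exact mul_self_pos.2 (Matrix.det_vandermonde_ne_zero_iff.2 hv)

theorem ord_strictMono {v : Fin N → ℤ} (hv : StrictMono v) : ord v = 1 := by
  rw [ord, Matrix.det_vandermonde, Int.sign_eq_one_iff_pos]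
  exact Finset.prod_pos fun i _ => Finset.prod_pos fun j hj =>
    sub_pos.2 (hv (Finset.mem_Ioi.1 hj))

theorem ord_succ {m : ℕ} (v : Fin (m + 1) → ℤ) :
    ord v = (∏ j : Fin m, Int.sign (v j.succ - v 0)) * ord (v ∘ Fin.succ) := by
  rw [ord, ord, Matrix.det_vandermonde, Matrix.det_vandermonde, Fin.prod_univ_succ, Int.sign_mul,
    Fin.prod_Ioi_zero]
  congr 1
  · exact map_prod ({ toFun := Int.sign, map_one' := rfl, map_mul' := Int.sign_mul } : ℤ →* ℤ) _ _
  · congr 1
    exact Finset.prod_congr rfl fun i _ => Fin.prod_Ioi_succ (fun j => v j - v i.succ) i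

/-- Moving one bead down changes the sign once for each bead jumped over. -/
theorem ord_move {v : Fin N → ℤ} (hv : Function.Injective v) {k : ℤ} (hk : 0 < k) (i : Fin N)
    (hw : Function.Injective (v - Pi.single i k)) :
    ord (v - Pi.single i k) =
      (∏ l, if v i - k < v l ∧ v l < v i then (-1 : ℤ) else 1) * ord v := by
  obtain _ | m := N
  · exact i.elim0
  suffices h0 : ∀ u : Fin (m + 1) → ℤ, Function.Injective u →
      Function.Injective (u - Pi.single 0 k) → ord (u - Pi.single 0 k) =
        (∏ l, if u 0 - k < u l ∧ u l < u 0 then (-1 : ℤ) else 1) * ord u by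
    set τ := Equiv.swap 0 i with hτ
    have he : (v - Pi.single i k) ∘ τ = v ∘ τ - Pi.single 0 k := by
      funext l
      simp only [Function.comp_apply, Pi.sub_apply, Pi.single_apply]
      have : τ l = i ↔ l = 0 := by rw [← τ.injective.eq_iff (b := 0), hτ, Equiv.swap_apply_left]
      simp only [this]
    have h := h0 (v ∘ τ) (hv.comp τ.injective) (he ▸ hw.comp τ.injective)
    rw [← he, ord_comp, ord_comp, Function.comp_apply, hτ, Equiv.swap_apply_left, ← hτ] at h
    rw [← Equiv.prod_comp τ (fun l => if v i - k < v l ∧ v l < v i then (-1 : ℤ) else 1)]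
    refine mul_left_cancel₀ (Units.ne_zero (Perm.sign τ)) (h.trans ?_)
    simp only [Function.comp_apply]
    ring
  intro u hu hu'
  rw [ord_succ, ord_succ, Fin.prod_univ_succ, if_neg fun h => lt_irrefl _ h.2, one_mul, ← mul_assoc,
    ← Finset.prod_mul_distrib]
  have ht : (u - Pi.single 0 k) ∘ Fin.succ = u ∘ Fin.succ := by
    funext l
    simp
  rw [ht]
  congr 1
  refine Finset.prod_congr rfl fun l _ => ?_
  have h1 : u l.succ ≠ u 0 := fun h => Fin.succ_ne_zero l (hu h)
  have h2 : u l.succ ≠ u 0 - k := fun h => Fin.succ_ne_zero l (hu' (by simp [h]))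
  simp only [Pi.sub_apply, Pi.single_eq_same, Pi.single_eq_of_ne (Fin.succ_ne_zero l), sub_zero]
  split_ifs with h
  · rw [Int.sign_eq_one_of_pos (by omega), Int.sign_eq_neg_one_of_neg (by omega)]
    rfl
  · rw [one_mul]
    rcases lt_or_ge (u l.succ) (u 0) with hlt | hge
    · rw [Int.sign_eq_neg_one_of_neg (by omega), Int.sign_eq_neg_one_of_neg (by omega)]
    · rw [Int.sign_eq_one_of_pos (by omega), Int.sign_eq_one_of_pos (by omega)]

/-- The alternant function of a bead set of `N` beads. -/
def setVal (N : ℕ) (μ : Multiset ℕ) (β : Finset ℤ) : ℤ :=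
  if h : β.card = N then val μ (β.orderEmbOfFin h) else 0

theorem setVal_image {μ : Multiset ℕ} {v : Fin N → ℤ} (hv : Function.Injective v) :
    ord v * val μ v = setVal N μ (Finset.univ.image v) := by
  have hc : (Finset.univ.image v).card = N := by
    rw [Finset.card_image_of_injective _ hv, Finset.card_univ, Fintype.card_fin]
  rw [setVal, dif_pos hc]
  have hm := sort_strictMono hv
  rw [← Finset.orderEmbOfFin_unique hc (fun i => Finset.mem_image_of_mem _ (Finset.mem_univ _)) hm,
    show (fun i => v (Tuple.sort v i)) = v ∘ Tuple.sort v from rfl, val_comp]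
  have h := ord_comp v (Tuple.sort v)
  rw [ord_strictMono hm] at h
  congr 1
  rcases Int.units_eq_one_or (Perm.sign (Tuple.sort v)) with e | e <;>
    · rw [e] at h ⊢
      simp at h ⊢
      omega

/-- The beads jumped over. -/
def jumped (β : Finset ℤ) (k : ℕ) (x : ℤ) : Finset ℤ :=
  β.filter fun y => x - (k : ℤ) < y ∧ y < x

/-- Removing a cycle, on bead sets. -/
theorem setVal_cons {μ : Multiset ℕ} {k : ℕ} (hk : 0 < k) {β : Finset ℤ} (hc : β.card = N) :
    setVal N (k ::ₘ μ) β = ∑ x ∈ β.filter (fun x => (k : ℤ) ≤ x ∧ x - (k : ℤ) ∉ β),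
      (-1) ^ (jumped β k x).card * setVal N μ (down k β x) := by
  classical
  set v : Fin N → ℤ := fun i => β.orderEmbOfFin hc i
  have hv : Function.Injective v := (β.orderEmbOfFin hc).injective
  have himg : Finset.univ.image v = β := Finset.image_orderEmbOfFin_univ β hc
  have hord : ord v = 1 := ord_strictMono (β.orderEmbOfFin hc).strictMono
  rw [setVal, dif_pos hc, val_cons]
  set S := (Finset.univ : Finset (Fin N)).filter fun i => (k : ℤ) ≤ v i ∧ v i - (k : ℤ) ∉ β
  rw [← Finset.sum_subset (Finset.subset_univ S) fun i _ hi => ?_]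
  · refine Finset.sum_bij (fun i _ => v i) (fun i hi => ?_) (fun i _ j _ h => hv h)
      (fun x hx => ?_) fun i hi => ?_
    · exact Finset.mem_filter.2 ⟨Finset.orderEmbOfFin_mem β hc i, (Finset.mem_filter.1 hi).2⟩
    · obtain ⟨hx, hx'⟩ := Finset.mem_filter.1 hx
      rw [← himg] at hx
      obtain ⟨i, -, rfl⟩ := Finset.mem_image.1 hx
      exact ⟨i, Finset.mem_filter.2 ⟨Finset.mem_univ _, hx'⟩, rfl⟩
    obtain ⟨h1, h2⟩ := (Finset.mem_filter.1 hi).2
    have hw : Function.Injective (v - Pi.single i (k : ℤ)) := by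
      intro a b hab
      simp only [Pi.sub_apply, Pi.single_apply] at hab
      split_ifs at hab with ha hb hb
      · exact ha.trans hb.symm
      · subst ha
        exact absurd (show v a - (k : ℤ) ∈ β by
          rw [show v a - (k : ℤ) = v b by omega]; exact Finset.orderEmbOfFin_mem β hc b) h2
      · subst hb
        exact absurd (show v b - (k : ℤ) ∈ β by
          rw [show v b - (k : ℤ) = v a by omega]; exact Finset.orderEmbOfFin_mem β hc a) h2
      · exact hv (by omega)
    have himg' : Finset.univ.image (v - Pi.single i (k : ℤ)) = down k β (v i) := by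
      ext y
      simp only [down, Finset.mem_image, Finset.mem_univ, true_and, Finset.mem_insert,
        Finset.mem_erase, Pi.sub_apply, Pi.single_apply]
      constructor
      · rintro ⟨j, rfl⟩
        split_ifs with hj
        · exact Or.inl (by rw [hj])
        · exact Or.inr ⟨fun e => hj (hv (by omega)), by
            rw [sub_zero]; exact Finset.orderEmbOfFin_mem β hc j⟩
      · rintro (rfl | ⟨hy, hyb⟩)
        · exact ⟨i, by rw [if_pos rfl]⟩
        · rw [← himg] at hyb
          obtain ⟨j, -, rfl⟩ := Finset.mem_image.1 hyb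
          exact ⟨j, by rw [if_neg fun e : j = i => hy (by rw [e]), sub_zero]⟩
    have hsign : (∏ l, if v i - (k : ℤ) < v l ∧ v l < v i then (-1 : ℤ) else 1) =
        (-1) ^ (jumped β k (v i)).card := by
      rw [Finset.prod_ite, Finset.prod_const, Finset.prod_const_one, mul_one]
      congr 1
      rw [jumped, ← Finset.card_image_of_injective _ hv]
      congr 1
      conv_rhs => rw [← himg, Finset.filter_image]
    rw [← himg', ← setVal_image hw, ord_move hv (by exact_mod_cast hk) i hw, hsign, hord, mul_one,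
      ← mul_assoc, ← pow_add, Even.neg_one_pow ⟨_, rfl⟩, one_mul]
  · by_contra hne
    refine hi (Finset.mem_filter.2 ⟨Finset.mem_univ _, ?_, fun hm => ?_⟩)
    · have := (val_support μ hne).1 i
      simp only [Pi.sub_apply, Pi.single_eq_same] at this
      exact sub_nonneg.1 this
    · rw [← himg] at hm
      obtain ⟨j, -, hj⟩ := Finset.mem_image.1 hm
      have hji : j ≠ i := fun e => by subst e; omega
      exact hji (val_inj hne (by simp [hji]; exact hj))

theorem setVal_zero {β : Finset ℤ} (h : setVal N 0 β ≠ 0) : β = Finset.Ico 0 (N : ℤ) := by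
  rw [setVal] at h
  split_ifs at h with hc
  · rw [val_zero] at h
    obtain ⟨π, hπ⟩ := base_support h
    rw [← Finset.image_orderEmbOfFin_univ β hc, hπ]
    ext y
    simp only [Finset.mem_image, Finset.mem_univ, true_and, Finset.mem_Ico, Function.comp_apply, low]
    constructor
    · rintro ⟨i, rfl⟩
      omega
    · rintro ⟨h1, h2⟩
      exact ⟨π.symm ⟨y.toNat, by omega⟩, by simp; omega⟩
  · exact absurd rfl h

/-- The mirrored bead set carries the product with the sign character. -/
theorem setVal_mirror : ∀ (μ : Multiset ℕ), (∀ k ∈ μ, 0 < k) → ∀ {β : Finset ℤ},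
    (∀ x ∈ β, 0 ≤ x ∧ x ≤ 2 * (N : ℤ) - 1) → β.card = N →
      setVal N μ (mirror (2 * (N : ℤ) - 1) β) =
        (-1) ^ (μ.sum + Multiset.card μ) * setVal N μ β := by
  classical
  set c : ℤ := 2 * (N : ℤ) - 1 with hcdef
  have hlow : mirror c (Finset.Ico 0 (N : ℤ)) = Finset.Ico 0 (N : ℤ) := by
    ext x
    simp only [mem_mirror, Finset.mem_Ico]
    omega
  have hcm : ∀ {β : Finset ℤ}, (∀ x ∈ β, 0 ≤ x ∧ x ≤ c) → β.card = N →
      (mirror c β).card = N := fun hb hc => by rw [card_mirror hb, hc]; omega
  intro μ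
  induction μ using Multiset.induction_on with
  | empty =>
    intro _ β hb hc
    simp only [Multiset.sum_zero, Multiset.card_zero, add_zero, pow_zero, one_mul]
    by_cases h : β = Finset.Ico 0 (N : ℤ)
    · rw [h, hlow]
    · have h1 : setVal N 0 β = 0 := not_not.1 fun e => h (setVal_zero e)
      rw [h1]
      by_contra e
      have := congrArg (mirror c) (setVal_zero e)
      rw [mirror_mirror hb, hlow] at this
      exact h this
  | cons k μ ih =>
    intro hμ β hb hc
    have hk : 0 < k := hμ k (Multiset.mem_cons_self _ _)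
    rw [setVal_cons hk hc, setVal_cons hk (hcm hb hc), Finset.mul_sum]
    refine (Finset.sum_bij' (fun x _ => c - (x - (k : ℤ))) (fun y _ => c - (y - (k : ℤ)))
      (fun x hx => ?_) (fun y hy => ?_) (fun x _ => by ring) (fun y _ => by ring)
      fun x hx => ?_).symm
    · simp only [Finset.mem_filter, mem_mirror] at hx ⊢
      obtain ⟨hx1, hx2, hx3⟩ := hx
      have := hb x hx1
      refine ⟨⟨by omega, by omega, ?_⟩, by omega, fun hh => hh.2.2 ?_⟩
      · rwa [show c - (c - (x - (k : ℤ))) = x - k by ring]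
      · rwa [show c - (c - (x - (k : ℤ)) - k) = x by ring]
    · simp only [Finset.mem_filter, mem_mirror] at hy ⊢
      obtain ⟨⟨hy1, hy2, hy3⟩, hy4, hy5⟩ := hy
      have hmem : c - (y - (k : ℤ)) ∈ β := by
        by_contra hh
        exact hy5 ⟨by omega, by omega, hh⟩
      exact ⟨hmem, by omega, by rwa [show c - (y - (k : ℤ)) - k = c - y by ring]⟩
    obtain ⟨hx1, hx2, hx3⟩ := Finset.mem_filter.1 hx
    have hxc := hb x hx1
    have hd : mirror c (down k β x) = down k (mirror c β) (c - (x - (k : ℤ))) := by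
      ext y
      simp only [down, mem_mirror, Finset.mem_insert, Finset.mem_erase, not_or, not_and]
      constructor
      · rintro ⟨h1, h2, h3, h4⟩
        by_cases e : c - y = x
        · exact Or.inl (by omega)
        · exact Or.inr ⟨by omega, h1, h2, h4 e⟩
      · rintro (rfl | ⟨h1, h2, h3, h4⟩)
        · exact ⟨by omega, by omega, by omega, fun h => absurd (by ring) h⟩
        · exact ⟨h2, h3, by omega, fun _ => h4⟩
    have hdb : ∀ y ∈ down k β x, 0 ≤ y ∧ y ≤ c := by
      intro y hy
      rcases Finset.mem_insert.1 hy with rfl | hy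
      · exact ⟨by omega, by omega⟩
      · exact hb y (Finset.mem_of_mem_erase hy)
    have hdc : (down k β x).card = N := by
      rw [down, Finset.card_insert_of_notMem fun h => hx3 (Finset.mem_of_mem_erase h),
        Finset.card_erase_add_one hx1, hc]
    have hj : (jumped β k x).card + (jumped (mirror c β) k (c - (x - (k : ℤ)))).card + 1 = k := by
      have he : jumped (mirror c β) k (c - (x - (k : ℤ))) =
          ((Finset.Ioo (x - (k : ℤ)) x).filter fun y => y ∉ β).image fun y => c - y := by
        ext y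
        simp only [jumped, mem_mirror, Finset.mem_filter, Finset.mem_image, Finset.mem_Ioo]
        constructor
        · rintro ⟨⟨h1, h2, h3⟩, h4, h5⟩
          exact ⟨c - y, ⟨⟨by omega, by omega⟩, h3⟩, by ring⟩
        · rintro ⟨z, ⟨⟨h1, h2⟩, h3⟩, rfl⟩
          exact ⟨⟨by omega, by omega, by rwa [show c - (c - z) = z by ring]⟩, by omega, by omega⟩
      have he' : jumped β k x = (Finset.Ioo (x - (k : ℤ)) x).filter fun y => y ∈ β := by
        ext y
        simp only [jumped, Finset.mem_filter, Finset.mem_Ioo]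
        tauto
      rw [he, he', Finset.card_image_of_injective _ fun a b h => by simpa using h,
        Finset.card_filter_add_card_filter_not, Int.card_Ioo]
      omega
    rw [← hd, ih (fun j hj => hμ j (Multiset.mem_cons_of_mem hj)) hdb hdc, Multiset.sum_cons,
      Multiset.card_cons, ← mul_assoc, ← mul_assoc, ← pow_add, ← pow_add]
    congr 1
    rw [neg_one_pow_eq_pow_mod_two, neg_one_pow_eq_pow_mod_two
      (n := (jumped (mirror c β) k (c - (x - (k : ℤ)))).card + _)]
    congr 1
    omega

/-! ## The mirrored tuple -/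

/-- The increasing tuple of the mirrored bead set. -/
noncomputable def star (a : Fin n → ℤ) : Fin n → ℤ :=
  if h : (mirror (2 * (n : ℤ) - 1) (Finset.univ.image a)).card = n then
    (mirror (2 * (n : ℤ) - 1) (Finset.univ.image a)).orderEmbOfFin h
  else a

theorem le_bound {a : Fin n → ℤ} (ha : a ∈ incSt n n) (i : Fin n) :
    0 ≤ a i ∧ a i ≤ 2 * (n : ℤ) - 1 := by
  obtain ⟨⟨h0, -, hs⟩, hm⟩ := mem_incSt.1 ha
  refine ⟨h0 i, ?_⟩
  have h1 : a i - (i : ℤ) ≤ ∑ j, (a j - (j : ℤ)) :=
    Finset.single_le_sum (f := fun j => a j - (j : ℤ))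
      (fun j _ => sub_nonneg.2 (le_of_strictMono hm h0 j)) (Finset.mem_univ i)
  rw [Finset.sum_sub_distrib, hs, off, add_sub_cancel_right] at h1
  have := i.2
  omega

theorem image_bound {a : Fin n → ℤ} (ha : a ∈ incSt n n) :
    ∀ x ∈ Finset.univ.image a, 0 ≤ x ∧ x ≤ 2 * (n : ℤ) - 1 := by
  intro x hx
  obtain ⟨i, -, rfl⟩ := Finset.mem_image.1 hx
  exact le_bound ha i

theorem image_star {a : Fin n → ℤ} (ha : a ∈ incSt n n) :
    StrictMono (star a) ∧
      Finset.univ.image (star a) = mirror (2 * (n : ℤ) - 1) (Finset.univ.image a) := by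
  have h : (mirror (2 * (n : ℤ) - 1) (Finset.univ.image a)).card = n := by
    rw [card_mirror (image_bound ha), Finset.card_image_of_injective _ (mem_incSt.1 ha).2.injective,
      Finset.card_univ, Fintype.card_fin]
    omega
  rw [star, dif_pos h]
  exact ⟨OrderEmbedding.strictMono _, Finset.image_orderEmbOfFin_univ _ _⟩

/-- The mirrored tuple gives the product with the sign character. -/
theorem theta_star {a : Fin n → ℤ} (ha : a ∈ incSt n n) (g : Perm (Fin n)) :
    theta n (star a) g = ((Perm.sign g : ℤ) : ℂ) * theta n a g := by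
  obtain ⟨hm, hi⟩ := image_star ha
  have hm' := (mem_incSt.1 ha).2
  have h1 := setVal_image (μ := typeOf g) hm.injective
  have h2 := setVal_image (μ := typeOf g) hm'.injective
  rw [ord_strictMono hm, one_mul] at h1
  rw [ord_strictMono hm', one_mul] at h2
  have hs : (Perm.sign g : ℤ) = (-1) ^ ((typeOf g).sum + Multiset.card (typeOf g)) := by
    rw [Perm.sign_of_cycleType, Units.val_pow_eq_pow_val, Units.val_neg, Units.val_one, typeOf,
      Perm.parts_partition, Multiset.sum_add, Multiset.card_add, Multiset.sum_replicate,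
      Multiset.card_replicate, neg_one_pow_eq_pow_mod_two,
      neg_one_pow_eq_pow_mod_two (n := _ + _ + _)]
    congr 1
    simp only [smul_eq_mul, mul_one]
    omega
  simp only [theta]
  rw [h1, hi, setVal_mirror (typeOf g) (fun k hk => g.partition.parts_pos hk) (image_bound ha) (by
    rw [Finset.card_image_of_injective _ hm'.injective, Finset.card_univ, Fintype.card_fin]),
    ← h2, ← hs, Int.cast_mul]

theorem star_mem {a : Fin n → ℤ} (ha : a ∈ incSt n n) : star a ∈ incSt n n := by
  have h := theta_star ha 1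
  rw [map_one, Units.val_one, Int.cast_one, one_mul] at h
  have hne : val (typeOf (1 : Perm (Fin n))) (star a) ≠ 0 := fun e => by
    apply theta_one_ne_zero (mem_incSt.1 ha).1
    rw [← h, theta, e, Int.cast_zero]
  have hst := isSt_of_val hne
  rw [typeOf_sum] at hst
  exact mem_incSt.2 ⟨hst, (image_star ha).1⟩

theorem star_star {a : Fin n → ℤ} (ha : a ∈ incSt n n) : star (star a) = a := by
  obtain ⟨hm, hi⟩ := image_star (star_mem ha)
  refine (hm.range_inj (mem_incSt.1 ha).2).1 ?_
  rw [(image_star ha).2, mirror_mirror (image_bound ha)] at hi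
  simpa using congrArg (fun s : Finset ℤ => (s : Set ℤ)) hi

theorem cnt_star {a : Fin n → ℤ} (ha : a ∈ incSt n n) (r : ZMod p) :
    cnt p (star a) r = cntS p (Finset.Icc 0 (2 * (n : ℤ) - 1)) ((2 * (n : ℤ) - 1 : ℤ) - r) -
      cnt p a ((2 * (n : ℤ) - 1 : ℤ) - r) := by
  classical
  rw [← cntS_image p (image_star ha).1.injective, ← cntS_image p (mem_incSt.1 ha).2.injective,
    (image_star ha).2]
  simp only [cntS, mirror]
  rw [Finset.filter_image, Finset.card_image_of_injective _ fun a b h => by simpa using h,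
    ← Finset.card_sdiff_of_subset]
  · congr 1
    ext x
    have e : ((2 * (n : ℤ) - 1 - x : ℤ) : ZMod p) = r ↔
        (x : ZMod p) = ((2 * (n : ℤ) - 1 : ℤ) : ZMod p) - r := by
      rw [Int.cast_sub]
      constructor <;> intro h <;> linear_combination (-1 : ZMod p) * h
    simp only [Finset.mem_filter, Finset.mem_sdiff, e]
    tauto
  · exact Finset.filter_subset_filter _ fun x hx => Finset.mem_Icc.2 (image_bound ha x hx)

/-- Mirroring preserves gaps on the middle runner. -/
theorem hasGap_star {a : Fin n → ℤ} (ha : a ∈ incSt n n) {r : ZMod p}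
    (hr : 2 * r = ((2 * (n : ℤ) - 1 : ℤ) : ZMod p)) (h : HasGap p r (star a)) : HasGap p r a := by
  rw [← movable_image_iff] at h ⊢
  obtain ⟨x, ⟨h1, h2, h3⟩, h4⟩ := h
  rw [(image_star ha).2, mem_mirror] at h1 h3
  refine ⟨2 * (n : ℤ) - 1 - (x - (p : ℤ)), ⟨?_, by omega, ?_⟩, ?_⟩
  · by_contra hh
    exact h3 ⟨by omega, by omega, hh⟩
  · rw [show 2 * (n : ℤ) - 1 - (x - (p : ℤ)) - p = 2 * (n : ℤ) - 1 - x by ring]
    exact h1.2.2
  · rw [Int.cast_sub, ← hr, Int.cast_sub, h4, Int.cast_natCast, ZMod.natCast_self, sub_zero]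
    ring

theorem isSymSet_of_star {a : Fin n → ℤ} (ha : a ∈ incSt n n) (h : star a = a) :
    IsSymSet (2 * (n : ℤ) - 1) (Finset.univ.image a) := by
  refine ⟨image_bound ha, fun x hx0 hxc => ?_⟩
  conv_lhs => rw [← h, (image_star ha).2]
  rw [mem_mirror]
  exact ⟨fun hh => hh.2.2, fun hh => ⟨hx0, hxc, hh⟩⟩

end Cfsg.Agent.SymRank
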