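import Cfsg.Agent.Lib.Blocks.SymRank.Main
import Cfsg.Agent.Lib.Blocks.SymRank.Mirror
import Cfsg.Agent.Lib.Blocks.Covering
import Cfsg.Agent.Lib.Characters.Kernel

/-!
# A core class is a single block
-/

set_option linter.style.haveILetI false

namespace Cfsg.Agent.SymRank

open Equiv Cfsg.Agent.Characters Cfsg.Agent.Blocks Cfsg.Agent.BlockCharsA.NormalSupport
open scoped ComplexConjugate

variable {n p : ℕ} {M : Ideal Cfsg.AlgInt}

/-- An element commuting with the cycles of `u` moves each of their points along its cycle. -/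
theorem pow_apply_eq_self {u g : Perm (Fin n)} {w : ℕ} (hu : u.cycleType = Multiset.replicate w p)
    (hg : ∀ c ∈ cycleSpan u, c * g = g * c) {x : Fin n} (hx : x ∈ u.support) :
    (g ^ p) x = x := by
  classical
  set c := u.cycleOf x with hc
  have hcm : c ∈ u.cycleFactorsFinset := Perm.cycleOf_mem_cycleFactorsFinset_iff.2 hx
  have hcs : c ∈ cycleSpan u := Subgroup.subset_closure hcm
  have hcx : c x ≠ x :=
    Perm.mem_support.1 (Perm.mem_support_cycleOf_iff.2 ⟨Perm.SameCycle.refl _ _, hx⟩)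
  have hcg : c (g x) = g (c x) := Equiv.congr_fun (hg c hcs) x
  have hcgx : c (g x) ≠ g x := by
    rw [hcg]
    exact fun e => hcx (g.injective e)
  obtain ⟨i, hi⟩ := (Perm.mem_cycleFactorsFinset_iff.1 hcm).1.exists_pow_eq hcx hcgx
  have key : ∀ m : ℕ, (g ^ m) x = (c ^ (i * m)) x := by
    intro m
    induction m with
    | zero => simp
    | succ m ih =>
      rw [pow_succ', Perm.mul_apply, ih, Nat.mul_succ, pow_add, Perm.mul_apply, hi]
      exact (Equiv.congr_fun (hg _ (Subgroup.pow_mem _ hcs (i * m))) x).symm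
  rw [key p, mul_comm, pow_mul, cycleSpan_pow hu hcs, one_pow, Perm.one_apply]

/-- A regular element commuting with the cycles fixes their points. -/
theorem fix_of_regular (hp : p.Prime) {u g : Perm (Fin n)} {w : ℕ}
    (hu : u.cycleType = Multiset.replicate w p) (hg : ∀ c ∈ cycleSpan u, c * g = g * c)
    (hreg : ¬ p ∣ orderOf g) {x : Fin n} (hx : x ∈ u.support) : g x = x := by
  obtain ⟨k, hk⟩ := exists_pow_eq_self_of_coprime (show p.Coprime (orderOf g) from
    hp.coprime_iff_not_dvd.2 hreg)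
  rw [← hk]
  exact Perm.pow_apply_eq_self_of_apply_eq_self (pow_apply_eq_self hu hg hx) k

/-- A core tuple vanishes at types with a part divisible by `p`. -/
theorem val_core_eq_zero (hp : 0 < p) {κ : Finset ℤ} (h2 : ∀ x, ¬ Movable p κ x)
    {v : Fin n → ℤ} (hi : Finset.univ.image v = κ) {μ : Multiset ℕ} {k : ℕ}
    (hk : k ∈ μ) (hk0 : 0 < k) (hpk : p ∣ k) : val μ v = 0 := by
  rw [← Multiset.cons_erase hk, val_cons]
  refine Finset.sum_eq_zero fun i _ => ?_
  by_contra hne
  have h0 := (val_support _ hne).1 i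
  simp only [Pi.sub_apply, Pi.single_eq_same] at h0
  have hmem : v i - (k : ℤ) ∈ κ := by
    refine mem_below hp (hi ▸ Finset.mem_image_of_mem v (Finset.mem_univ i)) (fun z _ => h2 z) ?_ h0
      (by omega)
    rw [Int.cast_sub, Int.cast_natCast, (ZMod.natCast_eq_zero_iff k p).2 hpk, sub_zero]
  rw [← hi] at hmem
  obtain ⟨j, -, hj⟩ := Finset.mem_image.1 hmem
  have hji : j ≠ i := fun e => by subst e; omega
  exact hji (val_inj hne (by simp [hji]; exact hj))

theorem card_eq_of_cntS [NeZero p] {κ : Finset ℤ} {a : Fin n → ℤ} (ha : Function.Injective a)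
    (h : cnt p a = cntS p κ) : κ.card = n := by
  rw [Finset.card_eq_sum_card_fiberwise (f := fun x : ℤ => (x : ZMod p))
    fun x _ => Finset.mem_univ _]
  change ∑ r, cntS p κ r = n
  rw [← h]
  change ∑ r, (Finset.univ.filter fun i => (a i : ZMod p) = r).card = n
  rw [← Finset.card_eq_sum_card_fiberwise (f := fun i => (a i : ZMod p))
    fun x _ => Finset.mem_univ _, Finset.card_univ, Fintype.card_fin]

/-- Nakayama: characters with the same core lie in one block. -/
theorem sameBlock_coreClass (hM : Cfsg.IsPModular p M) {w r : ℕ} {κ : Finset ℤ}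
    (hn : n = r + p * w) (h1 : ∀ x ∈ κ, 0 ≤ x) (h2 : ∀ x, ¬ Movable p κ x)
    (h4 : ∑ x ∈ κ, x = (r : ℤ) + off n) {χ χ' : Cfsg.IrrCharacter (Perm (Fin n))}
    (hχ : χ ∈ coreClass p n (cntS p κ)) (hχ' : χ' ∈ coreClass p n (cntS p κ)) :
    Cfsg.SameBlock M (χ : Perm (Fin n) → ℂ) (χ' : Perm (Fin n) → ℂ) := by
  classical
  have hp := hM.1
  haveI : Fact p.Prime := ⟨hp⟩
  haveI : NeZero p := ⟨hp.ne_zero⟩
  obtain ⟨u, hu⟩ := exists_cycles hp hn
  have hsupp : u.support.card = p * w := by
    rw [← Perm.sum_cycleType, hu, Multiset.sum_replicate, smul_eq_mul, mul_comm]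
  have hrc : (u.supportᶜ).card = r := by
    rw [Finset.card_compl, Fintype.card_fin, hsupp]
    omega
  set ι : Fin r ↪ Fin n := ((u.supportᶜ).orderEmbOfFin hrc).toEmbedding with hι
  have hιr : ∀ i, ι i ∉ u.support := fun i =>
    Finset.mem_compl.1 (Finset.orderEmbOfFin_mem _ hrc i)
  have hιs : ∀ x, x ∉ u.support → ∃ i, ι i = x := by
    intro x hx
    have h := Finset.image_orderEmbOfFin_univ (u.supportᶜ) hrc
    obtain ⟨i, -, hi⟩ := Finset.mem_image.1 (h.symm ▸ Finset.mem_compl.2 hx :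
      x ∈ Finset.univ.image ((u.supportᶜ).orderEmbOfFin hrc))
    exact ⟨i, hi⟩
  -- the subgroups
  set C := Subgroup.centralizer ({u} : Set (Perm (Fin n))) with hC
  set Q0 := (cycleSpan u).subgroupOf C with hQ0
  haveI hQn : Q0.Normal := cycleSpan_normal u
  set N := Subgroup.centralizer (Q0 : Set C) with hN
  haveI hNn : N.Normal := by
    refine ⟨fun g hg k => Subgroup.mem_centralizer_iff.2 fun q hq => ?_⟩
    have hq' : k⁻¹ * q * k⁻¹⁻¹ ∈ Q0 := hQn.conj_mem q hq k⁻¹
    have h := Subgroup.mem_centralizer_iff.1 hg _ hq'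
    rw [inv_inv] at h
    calc q * (k * g * k⁻¹) = k * ((k⁻¹ * q * k) * g) * k⁻¹ := by group
      _ = k * (g * (k⁻¹ * q * k)) * k⁻¹ := by rw [h]
      _ = k * g * k⁻¹ * q := by group
  let Y : Subgroup N :=
    { carrier := {g | ∀ i ∈ u.support, ((g : C) : Perm (Fin n)) i = i}
      one_mem' := fun i _ => rfl
      mul_mem' := fun {a b} ha hb i hi => by
        simp only [Subgroup.coe_mul, Perm.mul_apply, hb i hi, ha i hi]
      inv_mem' := fun {a} ha i hi => by
        simp only [Subgroup.coe_inv]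
        exact Perm.inv_eq_iff_eq.2 (ha i hi).symm }
  haveI hYn : Y.Normal := by
    refine ⟨fun g hg k i hi => ?_⟩
    have hk := Subgroup.mem_centralizer_singleton_iff.1 (inv_mem (k : C).2)
    have hki : (((k : C) : Perm (Fin n))⁻¹) i ∈ u.support := by
      rw [Perm.mem_support] at hi ⊢
      have h := Equiv.congr_fun hk i
      simp only [Perm.mul_apply] at h
      rw [← h]
      exact fun e => hi ((((k : C) : Perm (Fin n))⁻¹).injective e)
    simp only [Subgroup.coe_mul, Subgroup.coe_inv, Perm.mul_apply, hg _ hki]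
    simp
  have hNc : ∀ g : N, ∀ c ∈ cycleSpan u,
      c * ((g : C) : Perm (Fin n)) = ((g : C) : Perm (Fin n)) * c := fun g c hc =>
    congrArg Subtype.val (Subgroup.mem_centralizer_iff.1 g.2 ⟨c, cycleSpan_le_centralizer u hc⟩
      (Subgroup.mem_subgroupOf.2 hc))
  have hidx : ∃ k : ℕ, Y.index = p ^ k := by
    have h : IsPGroup p (N ⧸ Y) := fun x => ⟨1, by
      obtain ⟨g, rfl⟩ := QuotientGroup.mk_surjective x
      rw [pow_one, ← QuotientGroup.mk_pow, QuotientGroup.eq_one_iff]
      intro i hi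
      rw [SubgroupClass.coe_pow, SubgroupClass.coe_pow]
      exact pow_apply_eq_self hu (hNc g) hi⟩
    exact IsPGroup.iff_card.1 h
  -- the complement
  set v := Perm.viaEmbeddingHom ι with hv
  have hvs : ∀ (σ : Perm (Fin r)), ∀ i ∈ u.support, v σ i = i := fun σ i hi =>
    Perm.viaEmbedding_apply_of_notMem σ ι i fun ⟨j, hj⟩ => hιr j (hj ▸ hi)
  have hvd : ∀ (σ : Perm (Fin r)) (c : Perm (Fin n)), c ∈ cycleSpan u → c * v σ = v σ * c := by
    intro σ c hc
    have h : cycleSpan u ≤ Subgroup.centralizer ({v σ} : Set (Perm (Fin n))) :=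
      (Subgroup.closure_le _).2 fun d hd => Subgroup.mem_centralizer_singleton_iff.2
        (Perm.Disjoint.commute fun i => by
          by_cases hi : i ∈ u.support
          · exact Or.inr (hvs σ i hi)
          · exact Or.inl (Perm.notMem_support.1 fun hd' =>
              hi (Perm.mem_cycleFactorsFinset_support_le hd hd'))).eq
    exact Subgroup.mem_centralizer_singleton_iff.1 (h hc)
  have hud : ∀ σ, Perm.Disjoint u (v σ) := fun σ i => by
    by_cases hi : i ∈ u.support
    · exact Or.inr (hvs σ i hi)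
    · exact Or.inl (Perm.notMem_support.1 hi)
  have hvC : ∀ σ, v σ ∈ C := fun σ =>
    Subgroup.mem_centralizer_singleton_iff.2 (hud σ).commute.eq.symm
  have hvN : ∀ σ, (⟨v σ, hvC σ⟩ : C) ∈ N := fun σ => Subgroup.mem_centralizer_iff.2 fun q hq =>
    Subtype.ext (hvd σ q (Subgroup.mem_subgroupOf.1 hq))
  let F : Perm (Fin r) →* Y :=
    ((v.codRestrict C hvC).codRestrict N hvN).codRestrict Y fun σ i hi => hvs σ i hi
  have hF : ∀ σ, ((((F σ : Y) : N) : C) : Perm (Fin n)) = v σ := fun σ => rfl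
  have hbij : Function.Bijective F := by
    refine ⟨fun σ τ h => Perm.viaEmbeddingHom_injective ι (?_ : v σ = v τ), fun y => ?_⟩
    · rw [← hF, ← hF, h]
    set g : Perm (Fin n) := (((y : N) : C) : Perm (Fin n)) with hg
    have hmap : ∀ i, ∃ j, ι j = g (ι i) := fun i => hιs _ fun hm =>
      hιr i (by
        have h := y.2 _ hm
        rwa [← g.injective h])
    choose f hf using hmap
    have hfi : Function.Injective f := fun a b h =>
      ι.injective (g.injective (by rw [← hf, ← hf, h]))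
    refine ⟨Equiv.ofBijective f (Finite.injective_iff_bijective.1 hfi),
      Subtype.ext (Subtype.ext (Subtype.ext (Equiv.ext fun x => ?_)))⟩
    rw [hF]
    by_cases hx : x ∈ u.support
    · rw [hvs _ x hx]
      exact (y.2 x hx).symm
    · obtain ⟨i, rfl⟩ := hιs x hx
      exact (Perm.viaEmbedding_apply _ ι i).trans (hf i)
  set e : Perm (Fin r) ≃* Y := MulEquiv.ofBijective F hbij with he
  have hord : ∀ y : Y, orderOf (((y : N) : C)) = orderOf (e.symm y) := fun y => by
    rw [Subgroup.orderOf_coe, Subgroup.orderOf_coe, MulEquiv.orderOf_eq]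
  -- the character of the core
  obtain ⟨a0, ε0, ha0, hc0, -⟩ := id hχ
  have hκn : κ.card = n := card_eq_of_cntS (mem_incSt.1 ha0).2.injective hc0
  set κc : Fin n → ℤ := fun i => κ.orderEmbOfFin hκn i with hκc
  have hκi : Finset.univ.image κc = κ := Finset.image_orderEmbOfFin_univ κ hκn
  have hκm : StrictMono κc := (κ.orderEmbOfFin hκn).strictMono
  have hκst : IsSt r κc := ⟨fun i => h1 _ (Finset.orderEmbOfFin_mem κ hκn i), hκm.injective, by
    rw [← sum_image' hκm.injective, hκi, h4]⟩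
  obtain ⟨χc, εc, hεc, hχc⟩ := theta_irr hκst
  let φ : Cfsg.IrrCharacter Y :=
    ⟨(χc : Perm (Fin r) → ℂ) ∘ e.symm, (isIrrCharacter_comp_mulEquiv e.symm).2 χc.2⟩
  have hεc2 : εc * εc = 1 := by rcases hεc with h | h <;> simp [h]
  have hφ : ∀ σ, (φ : Y → ℂ) (e σ) = εc * theta r κc σ := fun σ => by
    change (χc : Perm (Fin r) → ℂ) (e.symm (e σ)) = _
    rw [e.symm_apply_apply, hχc, Pi.smul_apply, smul_eq_mul, ← mul_assoc, hεc2, one_mul]
  have hφs : ∀ y : Y, p ∣ orderOf (((y : N) : C)) → (φ : Y → ℂ) y = 0 := by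
    intro y hy
    rw [hord] at hy
    obtain ⟨k, hk, hpk⟩ : ∃ k ∈ typeOf (e.symm y), p ∣ k := by
      have := mt (regular_iff hp (e.symm y)).1 fun h => h hy
      simpa [IsRegType] using this
    rw [← e.apply_symm_apply y, hφ, theta,
      val_core_eq_zero hp.pos h2 hκi hk ((e.symm y).partition.parts_pos hk) hpk, Int.cast_zero,
      mul_zero]
  haveI : Fintype Y := Fintype.ofFinite Y
  haveI : Fintype N := Fintype.ofFinite N
  -- each character of the class is induced from a block over the core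
  have key : ∀ χ : Cfsg.IrrCharacter (Perm (Fin n)), χ ∈ coreClass p n (cntS p κ) →
      ∃ ξ : Cfsg.IrrCharacter C,
        Cfsg.IsInducedBlock M C (Cfsg.blockOf M (ξ : C → ℂ))
          (Cfsg.blockOf M (χ : Perm (Fin n) → ℂ)) ∧
        Cfsg.classInner (fun y : Y => (ξ : C → ℂ) ((y : N) : C)) (φ : Y → ℂ) ≠ 0 := by
    intro χ hχ
    obtain ⟨a, ε, ha, hca, hχe⟩ := hχ
    have hst : IsSt (r + p * w) a := hn ▸ (mem_incSt.1 ha).1
    have hro := runnerOrd_of_strictMono p (mem_incSt.1 ha).2
    obtain ⟨K1, v1, -, hv1, hv1c, hv1o, hv1r, -⟩ :=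
      exists_paths hp.pos (ν := Multiset.replicate r 1) (by simp) h1 h2 h4 w a hst hro hca
    have hv1i : Finset.univ.image v1 = κ := closed_unique hp.pos (image_nonneg hv1.1) h1 hv1c h2
      (by rw [cntS_image p hv1.2.1, cnt_congr p hv1r, hca])
    have hθ1 : ∀ σ, theta r v1 σ = (ord v1 : ℂ) * theta r κc σ := by
      intro σ
      have e1 := setVal_image (μ := typeOf σ) hv1.2.1
      have e2 := setVal_image (μ := typeOf σ) hκm.injective
      rw [hv1i] at e1
      rw [hκi, ord_strictMono hκm, one_mul, ← e1] at e2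
      simp only [theta]
      rw [e2, Int.cast_mul, ← mul_assoc, ← Int.cast_mul, ord_mul_self hv1.2.1, Int.cast_one, one_mul]
    set θ : C → ℂ := fun c => (χ : Perm (Fin n) → ℂ) (u * (c : Perm (Fin n))) with hθ
    have hθσ : ∀ σ, ∃ K : ℕ, 0 < K ∧
        θ ((((e σ : Y) : N) : C)) = ε * (ord v1 : ℂ) * ((K : ℂ) * theta r κc σ) := by
      intro σ
      obtain ⟨K, v0, hK, hv0, hv0c, hv0o, hv0r, hval⟩ :=
        exists_paths hp.pos (ν := typeOf σ) (typeOf_sum σ) h1 h2 h4 w a hst hro hca
      have hveq : v0 = v1 := coreTuple_unique hp.pos hv0 hv1 hv0c hv1c hv0o hv1o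
        fun i => (hv0r i).trans (hv1r i).symm
      have htype : typeOf (u * v σ) = Multiset.replicate w p + typeOf σ := by
        have hct : (v σ).cycleType = σ.cycleType := by
          rw [hv, Perm.viaEmbeddingHom_apply, Perm.viaEmbedding]
          convert Perm.cycleType_extendDomain _
        have hsum : (u * v σ).cycleType.sum = p * w + σ.cycleType.sum := by
          rw [(hud σ).cycleType_mul, Multiset.sum_add, hct, Perm.sum_cycleType, hsupp]
        rw [typeOf, typeOf, Perm.parts_partition, Perm.parts_partition, ← Perm.sum_cycleType,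
          ← Perm.sum_cycleType, hsum, (hud σ).cycleType_mul, hct, hu, Fintype.card_fin,
          Fintype.card_fin, add_assoc]
        congr 3
        omega
      refine ⟨K, hK, ?_⟩
      change (χ : Perm (Fin n) → ℂ) (u * v σ) = _
      rw [hχe, Pi.smul_apply, smul_eq_mul, theta, htype, hval, hveq, Int.cast_mul, Int.cast_natCast,
        show ((val (typeOf σ) v1 : ℤ) : ℂ) = theta r v1 σ from rfl, hθ1]
      ring
    have hθc : Cfsg.IsClassFunction C θ := by
      intro g k
      simp only [θ, Subgroup.coe_mul, Subgroup.coe_inv]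
      have hk := Subgroup.mem_centralizer_singleton_iff.1 k.2
      rw [show u * ((k : Perm (Fin n)) * g * (k : Perm (Fin n))⁻¹) =
        (k : Perm (Fin n)) * (u * g) * (k : Perm (Fin n))⁻¹ by
          rw [← mul_assoc, ← mul_assoc, ← hk]; group]
      exact irr_isClassFunction χ _ _
    -- the pairing does not vanish
    have hne : ∑ y : Y, θ ((y : N) : C) * conj ((φ : Y → ℂ) y) ≠ 0 := by
      choose K hK hKv using hθσ
      rw [← e.toEquiv.sum_comp]
      change ∑ σ, θ ((((e σ : Y) : N) : C)) * conj ((φ : Y → ℂ) (e σ)) ≠ 0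
      have hterm : ∀ σ, θ ((((e σ : Y) : N) : C)) * conj ((φ : Y → ℂ) (e σ)) =
          ε * (ord v1 : ℂ) * εc * (((K σ : ℤ) * (val (typeOf σ) κc * val (typeOf σ) κc) : ℤ) : ℂ) := by
        intro σ
        rw [hKv, hφ, map_mul, show conj εc = εc by rcases hεc with h | h <;> simp [h]]
        simp only [theta, map_intCast]
        push_cast
        ring
      refine fun h => ?_
      rw [Finset.sum_congr rfl fun σ _ => hterm σ, ← Finset.mul_sum, ← Int.cast_sum] at h
      rcases mul_eq_zero.1 h with h | h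
      · have hε : ε ≠ 0 := fun e' => irr_one_ne_zero χ.2 (by rw [hχe, e']; simp)
        have ho : ord v1 ≠ 0 := fun e' => by
          have := ord_mul_self hv1.2.1
          simp [e'] at this
        exact mul_ne_zero (mul_ne_zero hε (Int.cast_ne_zero.2 ho))
          (by rcases hεc with h' | h' <;> simp [h']) h
      · refine (Int.cast_ne_zero.2 (Finset.sum_pos' (fun σ _ => ?_) ⟨1, Finset.mem_univ _, ?_⟩).ne') h
        · exact mul_nonneg (Int.natCast_nonneg _) (mul_self_nonneg _)
        · have h0 := theta_one_ne_zero (n := r) hκst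
          rw [theta, Int.cast_ne_zero] at h0
          exact mul_pos (by exact_mod_cast hK 1) (mul_self_pos.2 h0)
    haveI := Fintype.ofFinite (Cfsg.IrrCharacter C)
    letI : Fintype C := Fintype.ofFinite C
    have hordu := orderOf_of_cycleType hp hu
    -- only the blocks inducing that of `χ` count
    set T : Cfsg.IrrCharacter C → Prop := fun ξ =>
      Cfsg.IsInducedBlock M C (Cfsg.blockOf M (ξ : C → ℂ)) (Cfsg.blockOf M (χ : Perm (Fin n) → ℂ))
    have hreg : ∀ c : C, ¬ p ∣ orderOf c → θ c = ∑ ξ ∈ Finset.univ.filter T,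
        Cfsg.classInner θ (ξ : C → ℂ) * (ξ : C → ℂ) c := by
      intro c hc
      conv_lhs => rw [classFun_eq_sum hθc]
      simp only [Finset.sum_apply, Pi.smul_apply, smul_eq_mul]
      rw [← Finset.sum_filter_add_sum_filter_not _ T, add_eq_left,
        ← Finset.sum_fiberwise _ (fun ξ : Cfsg.IrrCharacter C => Cfsg.blockOf M (ξ : C → ℂ))]
      refine Finset.sum_eq_zero fun b _ => ?_
      rcases ((Finset.univ.filter fun ξ => ¬ T ξ).filter fun ξ : Cfsg.IrrCharacter C =>
        Cfsg.blockOf M (ξ : C → ℂ) = b).eq_empty_or_nonempty with h0 | ⟨ξ0, hξ0⟩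
      · rw [h0, Finset.sum_empty]
      obtain ⟨hξT, hξb⟩ := Finset.mem_filter.1 hξ0
      have hbb : Cfsg.IsPBlock M b := hξb ▸ isPBlock_blockOf M ξ0
      have hnot : ¬ Cfsg.IsInducedBlock M C b (Cfsg.blockOf M (χ : Perm (Fin n) → ℂ)) :=
        hξb ▸ (Finset.mem_filter.1 hξT).2
      have h := blockPart_eq_zero_of_not_induced hM hordu (isPBlock_blockOf M χ)
        (mem_blockOf_self hM χ) hbb hnot hc
      rw [Cfsg.blockPart, finsum_mem_def, finsum_eq_sum_of_fintype] at h
      rw [← h, Finset.filter_filter, Finset.sum_filter]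
      refine Finset.sum_congr rfl fun ξ _ => ?_
      rw [Set.indicator_apply]
      refine if_congr ⟨fun hh => hh.2 ▸ mem_blockOf_self hM ξ, fun hh => ?_⟩ ?_ rfl
      · have hb' := (block_eq_blockOf hM hbb hh).symm
        exact ⟨fun hT => hnot (hb' ▸ hT), hb'⟩
      · rfl
    have hsum : ∑ y : Y, θ ((y : N) : C) * conj ((φ : Y → ℂ) y) = ∑ ξ ∈ Finset.univ.filter T,
        Cfsg.classInner θ (ξ : C → ℂ) * ∑ y : Y, (ξ : C → ℂ) ((y : N) : C) * conj ((φ : Y → ℂ) y) := by
      simp only [Finset.mul_sum]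
      rw [Finset.sum_comm]
      refine Finset.sum_congr rfl fun y _ => ?_
      by_cases hy : p ∣ orderOf (((y : N) : C))
      · simp [hφs y hy]
      · rw [hreg _ hy, Finset.sum_mul]
        exact Finset.sum_congr rfl fun ξ _ => mul_assoc _ _ _
    rw [hsum] at hne
    obtain ⟨ξ, hξ, hξne⟩ := Finset.exists_ne_zero_of_sum_ne_zero hne
    refine ⟨ξ, (Finset.mem_filter.1 hξ).2, ?_⟩
    rw [classInner_def]
    exact mul_ne_zero (inv_ne_zero natCard_ne_zero) (right_ne_zero_of_mul hξne)
  -- those blocks coincide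
  obtain ⟨ξ, hξ, hξφ⟩ := key χ hχ
  obtain ⟨ξ', hξ', hξ'φ⟩ := key χ' hχ'
  haveI := Fintype.ofFinite (Cfsg.IrrCharacter N)
  have hmid : ∀ ξ : Cfsg.IrrCharacter C,
      Cfsg.classInner (fun y : Y => (ξ : C → ℂ) ((y : N) : C)) (φ : Y → ℂ) ≠ 0 →
        ∃ η : Cfsg.IrrCharacter N, Cfsg.classInner (fun x : N => (ξ : C → ℂ) x) (η : N → ℂ) ≠ 0 ∧
          Cfsg.classInner (fun y : Y => (η : N → ℂ) y) (φ : Y → ℂ) ≠ 0 := by
    intro ξ h
    have hexp : (fun y : Y => (ξ : C → ℂ) ((y : N) : C)) = ∑ η : Cfsg.IrrCharacter N,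
        Cfsg.classInner (fun x : N => (ξ : C → ℂ) x) (η : N → ℂ) • fun y : Y => (η : N → ℂ) y := by
      funext y
      have := congrFun (classFun_eq_sum (char_isClassFunction
        (isCharacter_restrict N (irr_isCharacter ξ)))) (y : N)
      simpa [Finset.sum_apply] using this
    rw [hexp, classInner_sum_left] at h
    obtain ⟨η, -, hη⟩ := Finset.exists_ne_zero_of_sum_ne_zero h
    rw [classInner_smul_left] at hη
    exact ⟨η, left_ne_zero_of_mul hη, right_ne_zero_of_mul hη⟩
  obtain ⟨η, hη, hηφ⟩ := hmid ξ hξφ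
  obtain ⟨η', hη', hη'φ⟩ := hmid ξ' hξ'φ
  have hs : Cfsg.SameBlock M (η : N → ℂ) (η' : N → ℂ) :=
    sameBlock_of_covers_same hM hidx hηφ hη'φ (sameBlock_refl hM _)
  have hQp : IsPGroup p Q0 := fun q => ⟨1, by
    rw [pow_one]
    exact Subtype.ext (Subtype.ext (cycleSpan_pow hu (Subgroup.mem_subgroupOf.1 q.2)))⟩
  have hb := isPBlock_blockOf M η
  have i1 := isInduced_of_covers hM hQp le_rfl hb (isPBlock_blockOf M ξ) (mem_blockOf_self hM ξ)
    (mem_blockOf_self hM η) hη
  have i2 := isInduced_of_covers hM hQp le_rfl hb (isPBlock_blockOf M ξ') (mem_blockOf_self hM ξ')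
    (show η' ∈ Cfsg.blockOf M (η : N → ℂ) from hs) hη'
  rw [isInduced_unique hM i1 i2] at hξ
  have heq := isInduced_unique hM hξ hξ'
  have hmem := mem_blockOf_self hM χ'
  rw [← heq] at hmem
  exact hmem

end Cfsg.Agent.SymRank
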