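import Cfsg.Agent.Lib.Blocks.SymRank.Pairs

/-!
# Bead sets of largest and of next largest hook exponent
-/

set_option linter.style.haveILetI false

namespace Cfsg.Agent.SymRank

open Equiv

variable {N n p : ℕ}

theorem cast_eq_iff_exists {z b : ℤ} :
    (z : ZMod p) = (b : ZMod p) ↔ ∃ c : ℤ, z = b + (p : ℤ) * c := by
  rw [← sub_eq_zero, ← Int.cast_sub, ZMod.intCast_zmod_eq_zero_iff_dvd]
  exact ⟨fun ⟨c, hc⟩ => ⟨c, by linarith⟩, fun ⟨c, hc⟩ => ⟨c, by linarith⟩⟩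

/-- The runner of a top bead. -/
theorem mem_core_iff (hp : 0 < p) {κ : Finset ℤ} (h2 : ∀ x, ¬ Movable p κ x) {t : ℤ} (ht : t ∈ κ)
    (ht' : t + (p : ℤ) ∉ κ) (ht0 : 0 ≤ t) {c : ℤ} (h0 : 0 ≤ t + (p : ℤ) * c) :
    t + (p : ℤ) * c ∈ κ ↔ c ≤ 0 := by
  have hp' : (0 : ℤ) < p := by exact_mod_cast hp
  constructor
  · intro hz
    by_contra hc
    exact ht' (mem_below hp hz (fun z _ => h2 z) (by simp) (by omega) (by nlinarith))
  · intro hc
    exact mem_below hp ht (fun z _ => h2 z) (by simp) h0 (by nlinarith)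

theorem raise_facts {κ : Finset ℤ} (h1 : ∀ x ∈ κ, 0 ≤ x) {b X : ℤ} (hb : b ∈ κ) (hX : X ∉ κ)
    (hX0 : 0 ≤ X) (hd : (p : ℤ) ∣ X - b) :
    (∀ x ∈ insert X (κ.erase b), 0 ≤ x) ∧ cntS p (insert X (κ.erase b)) = cntS p κ ∧
      (insert X (κ.erase b)).card = κ.card ∧
      ∑ x ∈ insert X (κ.erase b), x = ∑ x ∈ κ, x + (X - b) := by
  have hXe : X ∉ κ.erase b := fun h => hX (Finset.mem_of_mem_erase h)
  have hres : (X : ZMod p) = (b : ZMod p) := by
    rw [← sub_eq_zero, ← Int.cast_sub, ZMod.intCast_zmod_eq_zero_iff_dvd]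
    exact hd
  refine ⟨fun x hx => ?_, funext fun r => ?_, ?_, ?_⟩
  · rcases Finset.mem_insert.1 hx with rfl | h
    · exact hX0
    · exact h1 x (Finset.mem_of_mem_erase h)
  · simp only [cntS, Finset.filter_insert, Finset.filter_erase, hres]
    by_cases hr : (b : ZMod p) = r
    · rw [if_pos hr, Finset.card_insert_of_notMem fun h =>
        hX (Finset.mem_filter.1 (Finset.mem_of_mem_erase h)).1,
        Finset.card_erase_add_one (Finset.mem_filter.2 ⟨hb, hr⟩)]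
    · rw [if_neg hr, Finset.erase_eq_of_notMem (s := κ.filter fun z : ℤ => (z : ZMod p) = r) (a := b)
        fun h => hr (Finset.mem_filter.1 h).2]
  · rw [Finset.card_insert_of_notMem hXe, Finset.card_erase_add_one hb]
  · rw [Finset.sum_insert hXe, ← Finset.add_sum_erase κ _ hb]
    ring

/-- The exponent from a runner with one bead raised. -/
theorem class_sum (hp : p.Prime) {β : Finset ℤ} {b : ℤ} (hb : 0 ≤ b) {e m : ℕ} (he : e < m)
    (hmem : ∀ c : ℤ, 0 ≤ b + (p : ℤ) * c →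
      (b + (p : ℤ) * c ∈ β ↔ c < 0 ∨ (0 < c ∧ c ≤ e) ∨ c = m)) :
    ∑ q ∈ (pairs p β).filter (fun q => (q.1 : ZMod p) = (b : ZMod p)), dv p q =
      fpm p e + (p * m).factorization p + fpm p (m - e - 1) := by
  classical
  have hp' : (0 : ℤ) < p := by exact_mod_cast hp.pos
  set A := (Finset.Ioc 0 e).image fun j : ℕ => (b + (p : ℤ) * j, b) with hA
  set C := (Finset.Ioc 0 (m - e - 1)).image fun j : ℕ =>
    (b + (p : ℤ) * m, b + (p : ℤ) * m - (p : ℤ) * j) with hC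
  have hset : (pairs p β).filter (fun q => (q.1 : ZMod p) = (b : ZMod p)) =
      insert (b + (p : ℤ) * m, b) (A ∪ C) := by
    ext ⟨x, y⟩
    simp only [Finset.mem_filter, mem_pairs, Finset.mem_insert, Finset.mem_union, hA, hC,
      Finset.mem_image, Finset.mem_Ioc, Prod.mk.injEq]
    constructor
    · rintro ⟨⟨h1, h2, h3, h4, h5⟩, h6⟩
      obtain ⟨c, rfl⟩ := cast_eq_iff_exists.1 h6
      obtain ⟨d, hd⟩ := h5
      obtain ⟨c', rfl⟩ : ∃ c', y = b + (p : ℤ) * c' := ⟨c - d, by linarith⟩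
      rw [hmem c (by omega)] at h1
      rw [hmem c' h2] at h4
      have hlt : c' < c := by nlinarith
      rcases h1 with h1 | ⟨h1, h1'⟩ | rfl
      · omega
      · refine Or.inr (Or.inl ⟨c.toNat, ⟨by omega, by omega⟩, by rw [Int.toNat_of_nonneg h1.le], ?_⟩)
        rw [show c' = 0 by omega, mul_zero, add_zero]
      · by_cases hc' : c' = 0
        · exact Or.inl ⟨rfl, by rw [hc', mul_zero, add_zero]⟩
        · refine Or.inr (Or.inr ⟨((m : ℤ) - c').toNat, ⟨by omega, by omega⟩, rfl, ?_⟩)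
          rw [Int.toNat_of_nonneg (by omega)]
          ring
    · rintro (⟨rfl, rfl⟩ | ⟨j, ⟨hj1, hj2⟩, rfl, rfl⟩ | ⟨j, ⟨hj1, hj2⟩, rfl, rfl⟩)
      · refine ⟨⟨(hmem m (by positivity)).2 (Or.inr (Or.inr rfl)), hb, ?_, fun h => ?_,
          ⟨m, by ring⟩⟩, by simp⟩
        · have : (0 : ℤ) < (m : ℤ) := by omega
          nlinarith
        · have h0 := (hmem 0 (by simpa using hb)).1 (by simpa using h)
          omega
      · refine ⟨⟨(hmem j (by positivity)).2 (Or.inr (Or.inl ⟨by omega, by omega⟩)), hb, ?_,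
          fun h => ?_, ⟨j, by ring⟩⟩, by simp⟩
        · have : (0 : ℤ) < (j : ℤ) := by omega
          nlinarith
        · have h0 := (hmem 0 (by simpa using hb)).1 (by simpa using h)
          omega
      · have e1 : b + (p : ℤ) * m - (p : ℤ) * j = b + (p : ℤ) * ((m : ℤ) - j) := by ring
        have h0 : 0 ≤ b + (p : ℤ) * ((m : ℤ) - j) := by
          have : (0 : ℤ) ≤ (m : ℤ) - j := by omega
          positivity
        refine ⟨⟨(hmem m (by positivity)).2 (Or.inr (Or.inr rfl)), e1 ▸ h0, ?_, fun h => ?_,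
          ⟨j, by ring⟩⟩, by simp⟩
        · have : (0 : ℤ) < (j : ℤ) := by omega
          nlinarith
        · rw [e1, hmem _ h0] at h
          omega
  have hnm : (b + (p : ℤ) * m, b) ∉ A ∪ C := by
    simp only [hA, hC, Finset.mem_union, Finset.mem_image, Finset.mem_Ioc, Prod.mk.injEq]
    rintro (⟨j, ⟨h1, h2⟩, h, -⟩ | ⟨j, ⟨h1, h2⟩, -, h⟩)
    · have h' : (j : ℤ) = m := mul_left_cancel₀ hp'.ne' (by linarith)
      omega
    · have h' : (j : ℤ) = m := mul_left_cancel₀ hp'.ne' (by linarith)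
      omega
  have hdis : Disjoint A C := by
    rw [Finset.disjoint_left]
    simp only [hA, hC, Finset.mem_image, Finset.mem_Ioc]
    rintro q ⟨j, ⟨h1, h2⟩, rfl⟩ ⟨i, -, hi⟩
    have h' : (j : ℤ) = m := mul_left_cancel₀ hp'.ne' (by linarith [(Prod.mk.inj hi).1])
    omega
  have hdv : ∀ (x y : ℤ) (j : ℕ), x - y = (p : ℤ) * j → dv p (x, y) = (p * j).factorization p :=
    fun x y j h => by rw [dv, h, Int.natAbs_mul, Int.natAbs_natCast, Int.natAbs_natCast]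
  rw [hset, Finset.sum_insert hnm, Finset.sum_union hdis, hA, hC,
    Finset.sum_image (fun i _ j _ h => by simpa [hp.ne_zero] using (Prod.mk.inj h).1),
    Finset.sum_image (fun i _ j _ h => by simpa [hp.ne_zero] using (Prod.mk.inj h).2),
    hdv _ _ m (by ring), Finset.sum_congr rfl fun (j : ℕ) _ => hdv _ _ j (by ring),
    Finset.sum_congr (s₁ := Finset.Ioc 0 (m - e - 1)) rfl fun (j : ℕ) _ => hdv _ _ j (by ring)]
  simp only [fpm]
  ring

theorem fpm_succ (m : ℕ) : fpm p (m + 1) = fpm p m + (p * (m + 1)).factorization p :=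
  Finset.sum_Ioc_succ_top (Nat.zero_le m) _

theorem pairs_class_empty (hp : 0 < p) {κ β : Finset ℤ} (h2 : ∀ x, ¬ Movable p κ x) {r : ZMod p}
    (h : ∀ z : ℤ, (z : ZMod p) = r → (z ∈ β ↔ z ∈ κ)) : ∀ q ∈ pairs p β, (q.1 : ZMod p) ≠ r := by
  intro q hq he
  obtain ⟨h1, h3, h4, h5, h6⟩ := mem_pairs.1 hq
  have hy : (q.2 : ZMod p) = r := by
    rw [← he, eq_comm, ← sub_eq_zero, ← Int.cast_sub, ZMod.intCast_zmod_eq_zero_iff_dvd]
    exact h6
  exact h5 ((h _ hy).2 (mem_below hp ((h _ he).1 h1) (fun z _ => h2 z) (hy.trans he.symm) h3 h4.le))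

/-! ## Sets that are not symmetric -/

theorem partner_movable {c : ℤ} {β : Finset ℤ} (hs : IsSymSet c β) (hc : Odd c) {x : ℤ}
    (hx : Movable 2 β x) :
    Movable 2 β (c - x + 2) ∧ ((c - x + 2 : ℤ) : ZMod 2) ≠ (x : ZMod 2) := by
  obtain ⟨h1, h2, h3⟩ := hx
  have hb := hs.1 x h1
  push_cast at h2 h3
  refine ⟨⟨?_, by push_cast; omega, ?_⟩, fun he => ?_⟩
  · have h := (hs.mirror (x := x - 2) (by omega) (by omega)).2 h3
    rwa [show c - (x - 2) = c - x + 2 by ring] at h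
  · push_cast
    rw [show c - x + 2 - 2 = c - x by ring]
    exact (hs.2 x hb.1 hb.2).1 h1
  · rw [← sub_eq_zero, ← Int.cast_sub, ZMod.intCast_zmod_eq_zero_iff_dvd] at he
    obtain ⟨t, ht⟩ := he
    obtain ⟨s, rfl⟩ := hc
    omega

theorem not_symm_two {c : ℤ} {β : Finset ℤ} (hc : Odd c) {t1 t2 : ℤ}
    (hne : (t1 : ZMod 2) ≠ (t2 : ZMod 2)) (ht1 : 0 ≤ t1) {e f : ℕ} (he : 2 ≤ e)
    (m1 : ∀ k : ℤ, 0 ≤ t1 + ((2 : ℕ) : ℤ) * k → (t1 + ((2 : ℕ) : ℤ) * k ∈ β ↔ k < 0 ∨ k = e))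
    (m2 : ∀ k : ℤ, 0 ≤ t2 + ((2 : ℕ) : ℤ) * k → (t2 + ((2 : ℕ) : ℤ) * k ∈ β ↔ k < 0 ∨ k = f)) :
    ¬ IsSymSet c β := by
  intro hs
  push_cast at m1 m2
  set x := t1 + 2 * (e : ℤ) with hx
  have hxb : x ∈ β := (m1 e (by omega)).2 (Or.inr rfl)
  have hx2 : x - 2 ∉ β := fun h => by
    rw [show x - 2 = t1 + 2 * ((e : ℤ) - 1) by rw [hx]; ring, m1 _ (by omega)] at h
    omega
  have hx4 : x - 4 ∉ β := fun h => by
    rw [show x - 4 = t1 + 2 * ((e : ℤ) - 2) by rw [hx]; ring, m1 _ (by omega)] at h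
    omega
  obtain ⟨⟨hy1, hy2, hy3⟩, hyne⟩ :=
    partner_movable hs hc (x := x) ⟨hxb, by push_cast; omega, by push_cast; exact hx2⟩
  have hy : ((c - x + 2 : ℤ) : ZMod 2) = (t2 : ZMod 2) := by
    have hxc : (x : ZMod 2) = (t1 : ZMod 2) :=
      (cast_eq_iff_exists (p := 2)).2 ⟨e, by push_cast; omega⟩
    rw [hxc] at hyne
    exact (by decide : ∀ a b d : ZMod 2, a ≠ b → d ≠ b → d = a) _ _ _ hne.symm hyne
  obtain ⟨k, hk⟩ := (cast_eq_iff_exists (p := 2)).1 hy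
  push_cast at hk hy2 hy3
  rw [hk] at hy1 hy3 hy2
  rw [show t2 + 2 * k - 2 = t2 + 2 * (k - 1) by ring] at hy3
  rw [m2 k (by omega)] at hy1
  rw [m2 (k - 1) (by omega)] at hy3
  have hxle := (hs.1 x hxb).2
  have h := (hs.mirror (x := x - 4) (by omega) (by omega)).2 hx4
  rw [show c - (x - 4) = t2 + 2 * (k + 1) by omega, m2 _ (by omega)] at h
  omega

/-! ## The two kinds of sets -/

/-- The sets considered. -/
def IsOver (p : ℕ) (κ : Finset ℤ) (w : ℕ) (β : Finset ℤ) : Prop :=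
  (∀ x ∈ β, 0 ≤ x) ∧ cntS p β = cntS p κ ∧ β.card = κ.card ∧
    ∑ x ∈ β, x = ∑ x ∈ κ, x + (p : ℤ) * w

theorem exists_hook (hp : p.Prime) {κ : Finset ℤ} (h1 : ∀ x ∈ κ, 0 ≤ x)
    (h2 : ∀ x, ¬ Movable p κ x) {t : ℤ} (ht : t ∈ κ) (ht' : t + (p : ℤ) ∉ κ) {e w : ℕ}
    (he : e < w) (hte : (p : ℤ) * e ≤ t) :
    ∃ β, IsOver p κ w β ∧ hw p β = fpm p e + (p * w).factorization p + fpm p (w - e - 1) ∧
      (p = 2 → ∀ c : ℤ, Odd c → ¬ IsSymSet c β) := by
  have hp' : (0 : ℤ) < p := by exact_mod_cast hp.pos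
  set b := t - (p : ℤ) * e with hb
  have hcore : ∀ {c : ℤ}, 0 ≤ b + (p : ℤ) * c → (b + (p : ℤ) * c ∈ κ ↔ c ≤ e) := by
    intro c hc
    have e1 : b + (p : ℤ) * c = t + (p : ℤ) * (c - e) := by rw [hb]; ring
    rw [e1] at hc ⊢
    rw [mem_core_iff hp.pos h2 ht ht' (h1 t ht) hc]
    omega
  have hb0 : 0 ≤ b := by omega
  have hbκ : b ∈ κ := by simpa using (hcore (c := 0) (by simpa using hb0)).2 (by omega)
  have hX0 : 0 ≤ b + (p : ℤ) * w := by positivity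
  have hX : b + (p : ℤ) * w ∉ κ := fun h => by have := (hcore hX0).1 h; omega
  obtain ⟨f1, f2, f3, f4⟩ := raise_facts (p := p) h1 hbκ hX hX0 ⟨w, by ring⟩
  set β := insert (b + (p : ℤ) * w) (κ.erase b) with hβ
  have hoff : ∀ z : ℤ, (z : ZMod p) ≠ (b : ZMod p) → (z ∈ β ↔ z ∈ κ) := by
    intro z hz
    have hz1 : z ≠ b := fun h => hz (by rw [h])
    have hz2 : z ≠ b + (p : ℤ) * w := fun h => hz (by rw [h]; simp)
    simp [hβ, hz1, hz2]
  have hmem : ∀ c : ℤ, 0 ≤ b + (p : ℤ) * c →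
      (b + (p : ℤ) * c ∈ β ↔ c < 0 ∨ (0 < c ∧ c ≤ e) ∨ c = w) := by
    intro c hc
    simp only [hβ, Finset.mem_insert, Finset.mem_erase, ne_eq, hcore hc, add_right_inj,
      add_eq_left, mul_eq_zero, mul_eq_mul_left_iff, Nat.cast_eq_zero, hp.ne_zero, or_false,
      false_or]
    omega
  refine ⟨β, ⟨f1, f2, f3, by rw [f4]; ring⟩, ?_, ?_⟩
  · rw [hw_eq_sum_pairs p, ← class_sum hp hb0 he hmem, Finset.sum_filter_of_ne]
    intro q hq _
    by_contra hne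
    exact pairs_class_empty hp.pos h2 (r := (q.1 : ZMod p))
      (fun z hz => hoff z (by rw [hz]; exact hne)) q hq rfl
  · intro h2p c hc hs
    subst h2p
    obtain ⟨k, hk0, hk1, hk2⟩ : ∃ k : ℤ, 1 ≤ k ∧ ((0 < k ∧ k ≤ e) ∨ k = w) ∧
        ¬ (k - 1 < 0 ∨ (0 < k - 1 ∧ k - 1 ≤ e) ∨ k - 1 = w) := by
      by_cases he0 : e = 0
      · exact ⟨w, by omega, Or.inr rfl, by omega⟩
      · exact ⟨1, le_rfl, Or.inl ⟨one_pos, by omega⟩, by omega⟩
    have hXb : Movable 2 β (b + ((2 : ℕ) : ℤ) * k) := by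
      refine ⟨(hmem k (by push_cast; omega)).2 (Or.inr hk1), by push_cast; omega, fun h => hk2 ?_⟩
      rwa [show b + ((2 : ℕ) : ℤ) * k - ((2 : ℕ) : ℤ) = b + ((2 : ℕ) : ℤ) * (k - 1) by ring,
        hmem _ (by push_cast; omega)] at h
    obtain ⟨hy, hyne⟩ := partner_movable hs hc hXb
    set y := c - (b + ((2 : ℕ) : ℤ) * k) + 2
    have hby : (y : ZMod 2) ≠ (b : ZMod 2) := fun h =>
      hyne (h.trans ((cast_eq_iff_exists (p := 2)).2 ⟨k, rfl⟩).symm)
    have hy2 : ((y - ((2 : ℕ) : ℤ) : ℤ) : ZMod 2) = (y : ZMod 2) :=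
      (cast_eq_iff_exists (p := 2)).2 ⟨-1, by ring⟩
    exact h2 y ⟨(hoff y hby).1 hy.1, hy.2.1,
      fun h => hy.2.2 ((hoff _ (by rw [hy2]; exact hby)).2 h)⟩

theorem exists_split (hp : p.Prime) {κ : Finset ℤ} (h1 : ∀ x ∈ κ, 0 ≤ x)
    (h2 : ∀ x, ¬ Movable p κ x) {t1 t2 : ℤ} (ht1 : t1 ∈ κ) (ht1' : t1 + (p : ℤ) ∉ κ) (ht2 : t2 ∈ κ)
    (ht2' : t2 + (p : ℤ) ∉ κ) (hne : (t1 : ZMod p) ≠ (t2 : ZMod p)) {e f : ℕ} (he : 1 ≤ e)
    (hf : 1 ≤ f) :
    ∃ β, IsOver p κ (e + f) β ∧ hw p β = fpm p e + fpm p f ∧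
      (p = 2 → 3 ≤ e + f → ∀ c : ℤ, Odd c → ¬ IsSymSet c β) := by
  have hp' : (0 : ℤ) < p := by exact_mod_cast hp.pos
  have hr : ∀ (a : ℤ) (k : ℕ), ((a + (p : ℤ) * k : ℤ) : ZMod p) = (a : ZMod p) := fun a k => by simp
  have hX : ∀ {t : ℤ}, t ∈ κ → t + (p : ℤ) ∉ κ → ∀ {k : ℕ}, 1 ≤ k →
      t + (p : ℤ) * k ∉ κ ∧ 0 ≤ t + (p : ℤ) * k := by
    intro t ht ht' k hk
    have h0 : 0 ≤ t + (p : ℤ) * k := by have := h1 t ht; positivity
    refine ⟨fun h => ?_, h0⟩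
    have := (mem_core_iff hp.pos h2 ht ht' (h1 t ht) h0).1 h
    omega
  set X1 := t1 + (p : ℤ) * e with hX1
  set X2 := t2 + (p : ℤ) * f with hX2
  obtain ⟨hX1n, hX10⟩ := hX ht1 ht1' he
  obtain ⟨hX2n, hX20⟩ := hX ht2 ht2' hf
  set γ := insert X1 (κ.erase t1) with hγ
  obtain ⟨g1, g2, g3, g4⟩ := raise_facts (p := p) h1 ht1 hX1n hX10 ⟨e, by ring⟩
  have ht2γ : t2 ∈ γ := Finset.mem_insert_of_mem
    (Finset.mem_erase.2 ⟨fun h => hne (by rw [h]), ht2⟩)
  have hX2γ : X2 ∉ γ := by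
    intro h
    rcases Finset.mem_insert.1 h with h | h
    · exact hne (by rw [← hr t1 e, ← hX1, ← h, hX2, hr])
    · exact hX2n (Finset.mem_of_mem_erase h)
  obtain ⟨f1, f2, f3, f4⟩ := raise_facts (p := p) g1 ht2γ hX2γ hX20 ⟨f, by ring⟩
  set β := insert X2 (γ.erase t2) with hβ
  have hoff : ∀ z : ℤ, (z : ZMod p) ≠ (t1 : ZMod p) → (z : ZMod p) ≠ (t2 : ZMod p) →
      (z ∈ β ↔ z ∈ κ) := by
    intro z hz hz'
    have e1 : z ≠ t1 := fun h => hz (by rw [h])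
    have e2 : z ≠ t2 := fun h => hz' (by rw [h])
    have e3 : z ≠ X1 := fun h => hz (by rw [h, hX1, hr])
    have e4 : z ≠ X2 := fun h => hz' (by rw [h, hX2, hr])
    simp [hβ, hγ, e1, e2, e3, e4]
  have m1 : ∀ c : ℤ, 0 ≤ t1 + (p : ℤ) * c → (t1 + (p : ℤ) * c ∈ β ↔ c < 0 ∨ c = e) := by
    intro c hc
    have hc1 : ((t1 + (p : ℤ) * c : ℤ) : ZMod p) = (t1 : ZMod p) := by simp
    have e2 : t1 + (p : ℤ) * c ≠ t2 := fun h => hne (by rw [← hc1, h])
    have e4 : t1 + (p : ℤ) * c ≠ X2 := fun h => hne (by rw [← hc1, h, hX2, hr])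
    simp only [hβ, hγ, Finset.mem_insert, Finset.mem_erase, ne_eq, e2, e4, not_false_eq_true,
      true_and, false_or, mem_core_iff hp.pos h2 ht1 ht1' (h1 t1 ht1) hc, hX1, add_right_inj,
      add_eq_left, mul_eq_zero, mul_eq_mul_left_iff, Nat.cast_eq_zero, hp.ne_zero, or_false]
    omega
  have m2 : ∀ c : ℤ, 0 ≤ t2 + (p : ℤ) * c → (t2 + (p : ℤ) * c ∈ β ↔ c < 0 ∨ c = f) := by
    intro c hc
    have hc1 : ((t2 + (p : ℤ) * c : ℤ) : ZMod p) = (t2 : ZMod p) := by simp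
    have e2 : t2 + (p : ℤ) * c ≠ t1 := fun h => hne (by rw [← hc1, h])
    have e4 : t2 + (p : ℤ) * c ≠ X1 := fun h => hne (by rw [← hc1, h, hX1, hr])
    simp only [hβ, hγ, Finset.mem_insert, Finset.mem_erase, ne_eq, e2, e4, not_false_eq_true,
      true_and, false_or, mem_core_iff hp.pos h2 ht2 ht2' (h1 t2 ht2) hc, hX2, add_right_inj,
      add_eq_left, mul_eq_zero, mul_eq_mul_left_iff, Nat.cast_eq_zero, hp.ne_zero, or_false]
    omega
  refine ⟨β, ⟨f1, f2.trans g2, f3.trans g3, by rw [f4, g4]; push_cast; linarith⟩, ?_, ?_⟩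
  · have hfull : ∀ {t : ℤ} {k : ℕ}, 0 ≤ t → 1 ≤ k →
        (∀ c : ℤ, 0 ≤ t + (p : ℤ) * c → (t + (p : ℤ) * c ∈ β ↔ c < 0 ∨ c = k)) →
        ∑ q ∈ (pairs p β).filter (fun q => (q.1 : ZMod p) = (t : ZMod p)), dv p q = fpm p k := by
      intro t k ht hk hm
      obtain ⟨k, rfl⟩ : ∃ k', k = k' + 1 := ⟨k - 1, by omega⟩
      rw [class_sum hp ht (e := 0) (m := k + 1) (Nat.succ_pos _) fun c hc => by rw [hm c hc]; omega,
        show k + 1 - 0 - 1 = k by omega, fpm_succ, show fpm p 0 = 0 by simp [fpm], zero_add, add_comm]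
    rw [hw_eq_sum_pairs p,
      ← Finset.sum_filter_add_sum_filter_not _ (fun q : ℤ × ℤ => (q.1 : ZMod p) = (t1 : ZMod p)),
      hfull (h1 t1 ht1) he m1, ← hfull (h1 t2 ht2) hf m2]
    congr 1
    refine Finset.sum_congr (Finset.filter_congr fun q hq => ⟨fun h => ?_, fun h => ?_⟩) fun _ _ => rfl
    · by_contra h'
      exact pairs_class_empty hp.pos h2 (r := (q.1 : ZMod p))
        (fun z hz => hoff z (by rw [hz]; exact h) (by rw [hz]; exact h')) q hq rfl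
    · rw [h]; exact hne.symm
  · rintro rfl h3 c hc
    rcases le_or_gt 2 e with he2 | he2
    · exact not_symm_two hc hne (h1 t1 ht1) he2 m1 m2
    · exact not_symm_two hc hne.symm (h1 t2 ht2) (show 2 ≤ f by omega) m2 m1

/-! ## Tuples -/

theorem exists_tuple_of_set (p : ℕ) {β : Finset ℤ} (h0 : ∀ x ∈ β, 0 ≤ x) (hc : β.card = n)
    (hs : ∑ x ∈ β, x = (n : ℤ) + off n) :
    ∃ a ∈ incSt n n, Finset.univ.image a = β ∧ cnt p a = cntS p β := by
  refine ⟨β.orderEmbOfFin hc, mem_incSt.2 ⟨⟨fun i => h0 _ (Finset.orderEmbOfFin_mem β hc i),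
    (β.orderEmbOfFin hc).injective, ?_⟩, OrderEmbedding.strictMono _⟩,
    Finset.image_orderEmbOfFin_univ β hc, ?_⟩
  · rw [← sum_image' (β.orderEmbOfFin hc).injective, Finset.image_orderEmbOfFin_univ β hc, hs]
  · conv_rhs => rw [← Finset.image_orderEmbOfFin_univ β hc]
    exact (cntS_image p (β.orderEmbOfFin hc).injective).symm

theorem exists_top (hp : 0 < p) {κ : Finset ℤ} (h1 : ∀ x ∈ κ, 0 ≤ x) {r : ZMod p} {k : ℕ}
    (hk : k < cntS p κ r) :
    ∃ t : ℤ, (t : ZMod p) = r ∧ t ∈ κ ∧ t + (p : ℤ) ∉ κ ∧ (p : ℤ) * k ≤ t := by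
  have hp' : (0 : ℤ) < p := by exact_mod_cast hp
  obtain ⟨t, ht, hmax⟩ := (κ.filter fun z : ℤ => (z : ZMod p) = r).exists_max_image id
    (Finset.card_pos.1 (lt_of_le_of_lt (Nat.zero_le k) hk))
  obtain ⟨ht, htr⟩ := Finset.mem_filter.1 ht
  refine ⟨t, htr, ht, fun h => ?_, ?_⟩
  · have := hmax (t + p) (Finset.mem_filter.2 ⟨h, by simp [htr]⟩)
    simp only [id_eq] at this
    omega
  · by_contra hlt
    rw [not_le] at hlt
    refine absurd hk (not_lt.2 ?_)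
    refine le_trans (Finset.card_le_card (t := (Finset.range k).image fun j : ℕ => t - (p : ℤ) * j)
      fun z hz => ?_) (Finset.card_image_le.trans (Finset.card_range k).le)
    have hzt : z ≤ t := hmax z hz
    obtain ⟨hzκ, hzr⟩ := Finset.mem_filter.1 hz
    obtain ⟨c, hc⟩ := cast_eq_iff_exists.1 (hzr.trans htr.symm)
    have hz0 := h1 z hzκ
    have hc0 : c ≤ 0 := by nlinarith
    have hck : -(k : ℤ) < c := by nlinarith
    exact Finset.mem_image.2 ⟨(-c).toNat, Finset.mem_range.2 (by omega),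
      by rw [Int.toNat_of_nonneg (by omega), hc]; ring⟩

theorem exists_runner [NeZero p] {κ : Finset ℤ} {w r0 : ℕ} (hn : n = r0 + p * w)
    (hc : κ.card = n) (hw0 : 1 ≤ w) : ∃ r : ZMod p, w ≤ cntS p κ r := by
  by_contra h
  push Not at h
  have h' := Finset.sum_lt_sum_of_nonempty (s := (Finset.univ : Finset (ZMod p)))
    Finset.univ_nonempty fun r _ => h r
  rw [Finset.sum_const, Finset.card_univ, ZMod.card, smul_eq_mul,
    show ∑ r, cntS p κ r = κ.card from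
      (Finset.card_eq_sum_card_fiberwise (f := fun x : ℤ => (x : ZMod p)) fun x _ => Finset.mem_univ _).symm] at h'
  omega

theorem self_le_off {N : ℕ} (h : 3 ≤ N) : (N : ℤ) ≤ off N := by
  induction N, h using Nat.le_induction with
  | base => simp [off, Fin.sum_univ_three]
  | succ m hm ih =>
    rw [off, Fin.sum_univ_castSucc]
    simp only [Fin.val_castSucc, Fin.val_last]
    rw [show ∑ i : Fin m, ((i : ℕ) : ℤ) = off m from rfl]
    push_cast
    omega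

theorem exists_two_runners (hp : p.Prime) {κ : Finset ℤ} (h1 : ∀ x ∈ κ, 0 ≤ x) {w r0 : ℕ}
    (hn : n = r0 + p * w) (hc : κ.card = n) (h4 : ∑ x ∈ κ, x = (r0 : ℤ) + off n) (hw2 : 2 ≤ w) :
    ∃ t1 t2 : ℤ, t1 ∈ κ ∧ t1 + (p : ℤ) ∉ κ ∧ t2 ∈ κ ∧ t2 + (p : ℤ) ∉ κ ∧
      (t1 : ZMod p) ≠ (t2 : ZMod p) := by
  have hp2 : (2 : ℤ) ≤ p := by exact_mod_cast hp.two_le
  have hn4 : 4 ≤ n := by have := Nat.mul_le_mul hp.two_le hw2; omega
  have hrn : r0 < n := by have := Nat.mul_le_mul hp.two_le hw2; omega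
  obtain ⟨x, hx, y, hy, hxy⟩ : ∃ x ∈ κ, ∃ y ∈ κ, (x : ZMod p) ≠ (y : ZMod p) := by
    by_contra hall
    push Not at hall
    set v : Fin n → ℤ := fun i => κ.orderEmbOfFin hc i
    have hm : StrictMono v := (κ.orderEmbOfFin hc).strictMono
    have hv : ∀ i : Fin n, 2 * (i : ℤ) ≤ v i := by
      rintro ⟨i, hi⟩
      induction i with
      | zero => simpa using h1 _ (Finset.orderEmbOfFin_mem κ hc _)
      | succ k ih =>
        have hk : v ⟨k, by omega⟩ < v ⟨k + 1, hi⟩ := hm (Fin.mk_lt_mk.2 (Nat.lt_succ_self k))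
        obtain ⟨c, hc'⟩ := cast_eq_iff_exists.1 (hall _ (Finset.orderEmbOfFin_mem κ hc ⟨k + 1, hi⟩) _
          (Finset.orderEmbOfFin_mem κ hc ⟨k, by omega⟩))
        change v ⟨k + 1, hi⟩ = v ⟨k, _⟩ + (p : ℤ) * c at hc'
        have hc1 : 1 ≤ c := by nlinarith
        have := ih (by omega)
        simp only [Nat.cast_add, Nat.cast_one] at *
        nlinarith
    have h5 : ∑ i : Fin n, 2 * (i : ℤ) ≤ ∑ i, v i := Finset.sum_le_sum fun i _ => hv i
    rw [← Finset.mul_sum, show ∑ i : Fin n, ((i : ℕ) : ℤ) = off n from rfl,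
      ← sum_image' hm.injective, Finset.image_orderEmbOfFin_univ κ hc, h4] at h5
    have := self_le_off (show 3 ≤ n by omega)
    omega
  have hpos : ∀ z ∈ κ, 0 < cntS p κ (z : ZMod p) := fun z hz =>
    Finset.card_pos.2 ⟨z, Finset.mem_filter.2 ⟨hz, rfl⟩⟩
  obtain ⟨t1, r1, a1, b1, -⟩ := exists_top hp.pos h1 (hpos x hx)
  obtain ⟨t2, r2, a2, b2, -⟩ := exists_top hp.pos h1 (hpos y hy)
  exact ⟨t1, t2, a1, b1, a2, b2, by rw [r1, r2]; exact hxy⟩

/-- A power of `p` dividing a binomial coefficient exactly once. -/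
theorem exists_one_carry (hp : p.Prime) : ∀ M : ℕ, p ≤ M → M % p ≠ p - 1 →
    ∃ e, 1 ≤ e ∧ e < M ∧ e.factorial.factorization p + (M - e).factorial.factorization p + 1 =
      M.factorial.factorization p := by
  haveI : Fact p.Prime := ⟨hp⟩
  have hstep : ∀ a b : ℕ, b < p → (p * a + b).factorial.factorization p =
      a + a.factorial.factorization p := by
    intro a b hb
    rw [Nat.factorization_def _ hp, Nat.factorization_def _ hp, padicValNat_factorial_mul_add a hb,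
      padicValNat_factorial_mul, add_comm]
  intro M
  induction M using Nat.strong_induction_on with
  | _ M ih =>
  intro hM hr
  obtain ⟨q, r, hrp, rfl⟩ : ∃ q r, r < p ∧ M = p * q + r :=
    ⟨M / p, M % p, Nat.mod_lt _ hp.pos, (Nat.div_add_mod M p).symm⟩
  rw [Nat.mul_add_mod, Nat.mod_eq_of_lt hrp] at hr
  have hq : 1 ≤ q := by
    rcases Nat.eq_zero_or_pos q with rfl | h
    · omega
    · exact h
  by_cases hdq : p ∣ q
  · have hp2 := hp.two_le
    obtain ⟨e, he1, he2, he⟩ := ih q (by nlinarith) (Nat.le_of_dvd hq hdq)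
      (by rw [Nat.mod_eq_zero_of_dvd hdq]; omega)
    refine ⟨p * e, Nat.mul_pos hp.pos he1, by nlinarith, ?_⟩
    have e1 : p * q + r - p * e = p * (q - e) + r := by
      rw [Nat.mul_sub]
      have := Nat.mul_le_mul_left p he2.le
      omega
    rw [e1, hstep q r hrp, hstep (q - e) r hrp, ← add_zero (p * e), hstep e 0 hp.pos]
    omega
  · have hmul : p * (q - 1) + p = p * q := by
      rw [← Nat.mul_succ, Nat.succ_eq_add_one, Nat.sub_add_cancel hq]
    refine ⟨r + 1, Nat.succ_pos r, by omega, ?_⟩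
    rw [show p * q + r - (r + 1) = p * (q - 1) + (p - 1) by omega, hstep (q - 1) (p - 1) (by omega),
      hstep q r hrp]
    have e2 : (r + 1).factorial.factorization p = 0 := by
      rw [← zero_add (r + 1), ← mul_zero p, hstep 0 (r + 1) (by omega)]
      simp
    have e3 : q.factorial.factorization p = (q - 1).factorial.factorization p := by
      conv_lhs => rw [← Nat.sub_add_cancel hq, Nat.factorial_succ]
      rw [Nat.factorization_mul (Nat.succ_ne_zero _) (Nat.factorial_ne_zero _), Finsupp.add_apply,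
        Nat.succ_eq_add_one, Nat.sub_add_cancel hq, Nat.factorization_eq_zero_of_not_dvd hdq, zero_add]
    rw [e2, e3]
    omega

/-! ## The tuples of a core class -/

/-- The data of a core. -/
structure IsCore (p n w r0 : ℕ) (κ : Finset ℤ) : Prop where
  deg : n = r0 + p * w
  nonneg : ∀ x ∈ κ, 0 ≤ x
  closed : ∀ x, ¬ Movable p κ x
  sum : ∑ x ∈ κ, x = (r0 : ℤ) + off n
  card : κ.card = n

theorem IsCore.isOver {w r0 : ℕ} {κ : Finset ℤ} (hK : IsCore p n w r0 κ) {a : Fin n → ℤ}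
    (ha : a ∈ incSt n n) (hc : cnt p a = cntS p κ) : IsOver p κ w (Finset.univ.image a) := by
  obtain ⟨⟨h0, hinj, hsum⟩, -⟩ := mem_incSt.1 ha
  refine ⟨image_nonneg h0, by rw [cntS_image p hinj, hc], by
    rw [Finset.card_image_of_injective _ hinj, Finset.card_univ, Fintype.card_fin, hK.card], ?_⟩
  rw [sum_image' hinj, hsum, hK.sum]
  have : (n : ℤ) = (r0 : ℤ) + (p : ℤ) * w := by exact_mod_cast hK.deg
  omega

theorem IsCore.exists_tuple {w r0 : ℕ} {κ β : Finset ℤ} (hK : IsCore p n w r0 κ)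
    (hβ : IsOver p κ w β) : ∃ a ∈ incSt n n, Finset.univ.image a = β ∧ cnt p a = cntS p κ := by
  obtain ⟨h0, hc, hcard, hs⟩ := hβ
  obtain ⟨a, ha, hi, hca⟩ := exists_tuple_of_set p h0 (hcard.trans hK.card) (by
    rw [hs, hK.sum]
    have : (n : ℤ) = (r0 : ℤ) + (p : ℤ) * w := by exact_mod_cast hK.deg
    omega)
  exact ⟨a, ha, hi, hca.trans hc⟩

theorem IsCore.hw_le_max (hp : p.Prime) {w r0 : ℕ} {κ : Finset ℤ} (hK : IsCore p n w r0 κ)
    {a : Fin n → ℤ} (ha : a ∈ incSt n n) (hc : cnt p a = cntS p κ) :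
    hw p (Finset.univ.image a) ≤ fpm p w :=
  have h := hK.isOver ha hc
  hw_le hp hK.nonneg hK.closed h.1 h.2.1 h.2.2.2

theorem odd_two_mul_sub_one (n : ℕ) : Odd (2 * (n : ℤ) - 1) := ⟨(n : ℤ) - 1, by ring⟩

theorem IsCore.hw_lt_max {w r0 : ℕ} {κ : Finset ℤ} (hK : IsCore 2 n w r0 κ) (hw0 : 1 ≤ w)
    {a : Fin n → ℤ} (ha : a ∈ incSt n n) (hc : cnt 2 a = cntS 2 κ) (hs : star a = a) :
    hw 2 (Finset.univ.image a) < fpm 2 w :=
  have h := hK.isOver ha hc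
  hw_lt_of_symm hw0 (isSymSet_of_star ha hs) (odd_two_mul_sub_one n) hK.nonneg hK.closed h.2.1
    h.2.2.2

theorem IsCore.exists_hook_tuple (hp : p.Prime) {w r0 : ℕ} {κ : Finset ℤ}
    (hK : IsCore p n w r0 κ) {e : ℕ} (he : e < w) :
    ∃ a ∈ incSt n n, cnt p a = cntS p κ ∧
      hw p (Finset.univ.image a) = fpm p e + (p * w).factorization p + fpm p (w - e - 1) ∧
      (p = 2 → star a ≠ a) := by
  haveI : NeZero p := ⟨hp.ne_zero⟩
  obtain ⟨r, hr⟩ := exists_runner hK.deg hK.card (show 1 ≤ w by omega)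
  obtain ⟨t, -, ht, ht', hte⟩ := exists_top hp.pos hK.nonneg (lt_of_lt_of_le he hr)
  obtain ⟨β, hβ, hh, hs⟩ := exists_hook hp hK.nonneg hK.closed ht ht' he hte
  obtain ⟨a, ha, hi, hc⟩ := hK.exists_tuple hβ
  exact ⟨a, ha, hc, by rw [hi, hh], fun h2 e => hs h2 _ (odd_two_mul_sub_one n)
    (hi ▸ isSymSet_of_star ha e)⟩

/-- A tuple of largest exponent. -/
theorem IsCore.exists_max (hp : p.Prime) {w r0 : ℕ} {κ : Finset ℤ} (hK : IsCore p n w r0 κ)
    (hw0 : 1 ≤ w) : ∃ a ∈ incSt n n, cnt p a = cntS p κ ∧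
      hw p (Finset.univ.image a) = fpm p w ∧ (p = 2 → star a ≠ a) := by
  obtain ⟨a, ha, hc, hh, hs⟩ := hK.exists_hook_tuple hp (e := 0) (by omega)
  refine ⟨a, ha, hc, hh.trans ?_, hs⟩
  obtain ⟨k, rfl⟩ : ∃ k, w = k + 1 := ⟨w - 1, by omega⟩
  rw [show k + 1 - 0 - 1 = k by omega, fpm_succ, show fpm p 0 = 0 by simp [fpm], zero_add, add_comm]

/-- A tuple of exponent one less than the largest. -/
theorem IsCore.exists_next (hp : p.Prime) {w r0 : ℕ} {κ : Finset ℤ} (hK : IsCore p n w r0 κ)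
    (hwp : p ≤ w) (hw3 : p = 2 → 3 ≤ w) : ∃ a ∈ incSt n n, cnt p a = cntS p κ ∧
      hw p (Finset.univ.image a) + 1 = fpm p w ∧ (p = 2 → star a ≠ a) := by
  have hp2 := hp.two_le
  by_cases hr : w % p = p - 1
  · have hw' : p ≤ w - 1 := by
      by_contra h
      have hwe : w = p := by omega
      rw [hwe, Nat.mod_self] at hr
      omega
    have hr' : (w - 1) % p ≠ p - 1 := by
      have := Nat.div_add_mod w p
      rw [show w - 1 = p * (w / p) + (p - 2) by omega, Nat.mul_add_mod, Nat.mod_eq_of_lt (by omega)]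
      omega
    obtain ⟨e, he1, he2, he⟩ := exists_one_carry hp (w - 1) hw' hr'
    obtain ⟨a, ha, hc, hh, hs⟩ := hK.exists_hook_tuple hp (e := e) (by omega)
    refine ⟨a, ha, hc, ?_, hs⟩
    obtain ⟨k, rfl⟩ : ∃ k, w = k + 1 := ⟨w - 1, by omega⟩
    simp only [Nat.add_sub_cancel] at he he2
    rw [hh, show k + 1 - e - 1 = k - e by omega, fpm_succ, fpm_eq hp, fpm_eq hp, fpm_eq hp]
    omega
  · obtain ⟨e, he1, he2, he⟩ := exists_one_carry hp w hwp hr
    obtain ⟨t1, t2, a1, b1, a2, b2, hne⟩ := exists_two_runners hp hK.nonneg hK.deg hK.card hK.sum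
      (show 2 ≤ w by omega)
    obtain ⟨β, hβ, hh, hs⟩ := exists_split hp hK.nonneg hK.closed a1 b1 a2 b2 hne he1
      (show 1 ≤ w - e by omega)
    rw [show e + (w - e) = w by omega] at hβ hs
    obtain ⟨a, ha, hi, hc⟩ := hK.exists_tuple hβ
    refine ⟨a, ha, hc, ?_, fun h2 he' => hs h2 (hw3 h2) _ (odd_two_mul_sub_one n)
      (hi ▸ isSymSet_of_star ha he')⟩
    rw [hi, hh, fpm_eq hp, fpm_eq hp, fpm_eq hp]
    omega

/-! ## Weight two at the prime two -/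

theorem eq_of_sum {κ β : Finset ℤ} (hp : 0 < p) (h1 : ∀ x ∈ κ, 0 ≤ x)
    (h2 : ∀ x, ¬ Movable p κ x) (h0 : ∀ x ∈ β, 0 ≤ x) (hc : cntS p β = cntS p κ)
    (hs : ∑ x ∈ β, x = ∑ x ∈ κ, x) : β = κ := by
  have h := card_pairs_eq (w := 0) hp h1 h2 h0 hc (by rw [hs]; simp)
  refine closed_unique hp h0 h1 (fun x hx => ?_) h2 hc
  have := card_pairs_down hp hx
  omega

theorem two_steps {κ β : Finset ℤ} (h1 : ∀ x ∈ κ, 0 ≤ x) (h2 : ∀ x, ¬ Movable 2 κ x)
    (hβ : IsOver 2 κ 2 β) (h4 : pairs 4 β = ∅) :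
    ∃ x y : ℤ, (x : ZMod 2) ≠ (y : ZMod 2) ∧ x - 2 ∈ κ ∧ x ∉ κ ∧ y - 2 ∈ κ ∧ y ∉ κ ∧
      ∀ z, z ∈ β ↔ z = x ∨ z = y ∨ (z ∈ κ ∧ z + 2 ≠ x ∧ z + 2 ≠ y) := by
  obtain ⟨h0, hc, -, hs⟩ := hβ
  push_cast at hs
  have hno : ∀ {a b : ℤ}, a ∈ β → 0 ≤ b → b ∉ β → a - b = 4 → False := fun {a b} ha hb hb' hab => by
    have h : (a, b) ∈ pairs 4 β := mem_pairs.2 ⟨ha, hb, by simp only; omega, hb', ⟨1, by simp [hab]⟩⟩
    rw [h4] at h
    exact Finset.notMem_empty _ h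
  obtain ⟨x, hx⟩ : ∃ x, Movable 2 β x := by
    by_contra h
    push Not at h
    rw [closed_unique two_pos h0 h1 h h2 hc] at hs
    omega
  set γ := down 2 β x with hγ
  have g0 := nonneg_down 2 hx h0
  have gc : cntS 2 γ = cntS 2 κ := by rw [hγ, cntS_down 2 hx, hc]
  have gs := sum_down 2 hx
  obtain ⟨y, hy⟩ : ∃ y, Movable 2 γ y := by
    by_contra h
    push Not at h
    rw [closed_unique two_pos g0 h1 h h2 gc, hs] at gs
    omega
  have hκe : down 2 γ y = κ := eq_of_sum two_pos h1 h2 (nonneg_down 2 hy g0)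
    (by rw [cntS_down 2 hy, gc]) (by rw [sum_down 2 hy, gs, hs]; push_cast; ring)
  obtain ⟨hx1, hx2, hx3⟩ := hx
  obtain ⟨hy1, hy2, hy3⟩ := hy
  push_cast at hx2 hx3 hy2 hy3
  have mγ : ∀ z, z ∈ γ ↔ z = x - 2 ∨ (z ≠ x ∧ z ∈ β) := fun z => by simp [hγ, down]
  have mκ : ∀ z, z ∈ κ ↔ z = y - 2 ∨ (z ≠ y ∧ z ∈ γ) := fun z => by simp [← hκe, down]
  have hxy : x ≠ y := by
    intro e
    rw [← e, mγ] at hy1
    rcases hy1 with h | ⟨h, -⟩
    · omega
    · exact h rfl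
  have hne1 : x - 2 ≠ y := by
    intro e
    refine hno hx1 (show 0 ≤ y - 2 by omega) (fun h => hy3 ((mγ _).2 (Or.inr ⟨by omega, h⟩))) (by omega)
  have hne2 : x ≠ y - 2 := by
    intro e
    have hyb : y ∈ β := by
      rcases (mγ _).1 hy1 with h | h
      · omega
      · exact h.2
    exact hno hyb (show 0 ≤ x - 2 by omega) hx3 (by omega)
  have hx2κ : x - 2 ∈ κ := (mκ _).2 (Or.inr ⟨hne1, (mγ _).2 (Or.inl rfl)⟩)
  have hxκ : x ∉ κ := by
    rw [mκ, mγ]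
    rintro (h | ⟨-, h | ⟨h, -⟩⟩)
    · exact hne2 h
    · omega
    · exact h rfl
  have hy2κ : y - 2 ∈ κ := (mκ _).2 (Or.inl rfl)
  have hyκ : y ∉ κ := by
    rw [mκ]
    rintro (h | ⟨h, -⟩)
    · omega
    · exact h rfl
  refine ⟨x, y, fun he => ?_, hx2κ, hxκ, hy2κ, hyκ, fun z => ?_⟩
  · refine hxy (top_unique (p := 2) two_pos he (h0 x hx1) (g0 y hy1) hxκ hyκ (fun z hz h h' => ?_)
      fun z hz h h' => ?_)
    · exact mem_below two_pos hx2κ (fun z _ => h2 z)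
        (by rw [hz, eq_comm]; exact (cast_eq_iff_exists (p := 2)).2 ⟨-1, by push_cast; ring⟩) h
        (by push_cast at h'; omega)
    · exact mem_below two_pos hy2κ (fun z _ => h2 z)
        (by rw [hz, eq_comm]; exact (cast_eq_iff_exists (p := 2)).2 ⟨-1, by push_cast; ring⟩) h
        (by push_cast at h'; omega)
  · constructor
    · intro hz
      rcases eq_or_ne z x with h | h
      · exact Or.inl h
      rcases eq_or_ne z y with h' | h'
      · exact Or.inr (Or.inl h')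
      refine Or.inr (Or.inr ⟨(mκ z).2 (Or.inr ⟨h', (mγ z).2 (Or.inr ⟨h, hz⟩)⟩), ?_, ?_⟩)
      · exact fun e => hx3 (by rwa [show x - 2 = z by omega])
      · exact fun e => hy3 ((mγ _).2 (Or.inr ⟨by omega, by rwa [show y - 2 = z by omega]⟩))
    · rintro (rfl | rfl | ⟨hz, e1, e2⟩)
      · exact hx1
      · rcases (mγ _).1 hy1 with h | h
        · omega
        · exact h.2
      · rcases (mκ z).1 hz with h | ⟨-, h⟩
        · omega
        · rcases (mγ z).1 h with h' | h'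
          · omega
          · exact h'.2

theorem eq_of_pairs_four {κ β γ : Finset ℤ} (h1 : ∀ x ∈ κ, 0 ≤ x) (h2 : ∀ x, ¬ Movable 2 κ x)
    (hβ : IsOver 2 κ 2 β) (hβ4 : pairs 4 β = ∅) (hγ : IsOver 2 κ 2 γ) (hγ4 : pairs 4 γ = ∅) :
    β = γ := by
  obtain ⟨x, y, hxy, a1, a2, a3, a4, hB⟩ := two_steps h1 h2 hβ hβ4
  obtain ⟨u, v, huv, b1, b2, b3, b4, hC⟩ := two_steps h1 h2 hγ hγ4
  have key : ∀ {a b : ℤ}, (a : ZMod 2) = (b : ZMod 2) → a - 2 ∈ κ → a ∉ κ → b - 2 ∈ κ → b ∉ κ →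
      a = b := by
    intro a b he ha ha' hb hb'
    have ha0 := h1 _ ha
    have hb0 := h1 _ hb
    refine top_unique (p := 2) two_pos he (by omega) (by omega) ha' hb' (fun z hz h h' => ?_)
      fun z hz h h' => ?_
    · exact mem_below two_pos ha (fun z _ => h2 z)
        (by rw [hz, eq_comm]; exact (cast_eq_iff_exists (p := 2)).2 ⟨-1, by push_cast; ring⟩) h
        (by push_cast at h'; omega)
    · exact mem_below two_pos hb (fun z _ => h2 z)
        (by rw [hz, eq_comm]; exact (cast_eq_iff_exists (p := 2)).2 ⟨-1, by push_cast; ring⟩) h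
        (by push_cast at h'; omega)
  rcases (show (x : ZMod 2) = (u : ZMod 2) ∧ (y : ZMod 2) = (v : ZMod 2) ∨
      (x : ZMod 2) = (v : ZMod 2) ∧ (y : ZMod 2) = (u : ZMod 2) from
    (by decide : ∀ a b c d : ZMod 2, a ≠ b → c ≠ d → a = c ∧ b = d ∨ a = d ∧ b = c) _ _ _ _ hxy huv)
    with ⟨e1, e2⟩ | ⟨e1, e2⟩
  · obtain rfl := key e1 a1 a2 b1 b2
    obtain rfl := key e2 a3 a4 b3 b4
    ext z
    rw [hB, hC]
  · obtain rfl := key e1 a1 a2 b3 b4
    obtain rfl := key e2 a3 a4 b1 b2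
    ext z
    rw [hB, hC]
    tauto

theorem cntS_Icc_two (n : ℕ) (r : ZMod 2) : cntS 2 (Finset.Icc 0 (2 * (n : ℤ) - 1)) r = n := by
  rw [cntS]
  refine Eq.trans ?_ (Finset.card_range n)
  refine Finset.card_nbij' (fun z : ℤ => (z / 2).toNat) (fun i : ℕ => 2 * (i : ℤ) + r.val)
    (fun z hz => ?_) (fun i hi => ?_) (fun z hz => ?_) fun i hi => ?_
  all_goals simp only [Finset.coe_filter, Set.mem_ofPred_eq, Finset.mem_Icc, Finset.coe_range,
    Set.mem_Iio] at *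
  · omega
  · have := ZMod.val_lt r
    refine ⟨⟨by omega, by omega⟩, ?_⟩
    have h2 : (2 : ZMod 2) = 0 := by decide
    push_cast
    rw [h2, zero_mul, zero_add, ZMod.natCast_zmod_val]
  · obtain ⟨⟨h0, -⟩, rfl⟩ := hz
    have := ZMod.val_intCast (n := 2) z
    push_cast at this
    omega
  · have := ZMod.val_lt r
    omega

theorem cnt_star_two {a : Fin n → ℤ} (ha : a ∈ incSt n n) : cnt 2 (star a) = cnt 2 a := by
  funext r
  rw [cnt_star ha, cntS_Icc_two]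
  have hne : ((2 * (n : ℤ) - 1 : ℤ) : ZMod 2) - r ≠ r := by
    have h2 : (2 : ZMod 2) = 0 := by decide
    push_cast
    rw [h2, zero_mul]
    revert r
    decide
  set s := ((2 * (n : ℤ) - 1 : ℤ) : ZMod 2) - r
  have hsum : cnt 2 a s + cnt 2 a r = n := by
    rw [cnt, cnt, ← Finset.card_union_of_disjoint (Finset.disjoint_filter.2 fun i _ h h' =>
      hne (h.symm.trans h'))]
    conv_rhs => rw [← Fintype.card_fin n, ← Finset.card_univ]
    congr 1
    ext i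
    simp only [Finset.mem_union, Finset.mem_filter, Finset.mem_univ, true_and, iff_true]
    exact (by decide : ∀ x s r : ZMod 2, s ≠ r → x = s ∨ x = r) _ _ _ hne
  omega

/-- At weight two for the prime two the two exponents cannot differ. -/
theorem IsCore.hw_two {r0 : ℕ} {κ : Finset ℤ} (hK : IsCore 2 n 2 r0 κ) {a : Fin n → ℤ}
    (ha : a ∈ incSt n n) (hc : cnt 2 a = cntS 2 κ) :
    hw 2 (Finset.univ.image a) + (if star a = a then 1 else 0) = 3 := by
  have h3 : fpm 2 2 = 3 := by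
    rw [fpm_eq Nat.prime_two, show (2 : ℕ).factorial = 2 by rfl, Nat.prime_two.factorization_self]
  have hover := hK.isOver ha hc
  have hle := hK.hw_le_max Nat.prime_two ha hc
  set β := Finset.univ.image a with hβ
  have hcard := card_pairs_eq two_pos hK.nonneg hK.closed hover.1 hover.2.1 hover.2.2.2
  have hone : ∀ q ∈ pairs 2 β, 1 ≤ dv 2 q := fun q hq => by
    obtain ⟨-, -, hlt, -, hd⟩ := mem_pairs.1 hq
    exact Nat.prime_two.factorization_pos_of_dvd (by omega) (Int.natCast_dvd.1 hd)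
  have hge : 2 ≤ hw 2 β := by
    rw [hw_eq_sum_pairs 2]
    have := Finset.card_nsmul_le_sum (pairs 2 β) (dv 2) 1 hone
    rwa [smul_eq_mul, mul_one, hcard] at this
  by_cases hs : star a = a
  · have := hK.hw_lt_max (by omega) ha hc hs
    rw [if_pos hs, ← hβ] at *
    omega
  rw [if_neg hs, add_zero]
  by_contra hne
  have h2' : hw 2 β = 2 := by omega
  have h4 : pairs 4 β = ∅ := by
    refine Finset.eq_empty_of_forall_notMem fun q hq => ?_
    obtain ⟨h1, h2, hlt, h5, hd⟩ := mem_pairs.1 hq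
    have hd2 : (((2 : ℕ) : ℤ)) ∣ q.1 - q.2 := dvd_trans ⟨2, rfl⟩ hd
    have hmem : q ∈ pairs 2 β := mem_pairs.2 ⟨h1, h2, hlt, h5, hd2⟩
    have h4v : 2 ≤ dv 2 q := (Nat.prime_two.pow_dvd_iff_le_factorization (by omega)).1
      (Int.natCast_dvd.1 hd)
    have hlt' := Finset.sum_lt_sum (f := fun _ => 1) hone ⟨q, hmem, h4v⟩
    rw [← hw_eq_sum_pairs 2, h2', Finset.sum_const, smul_eq_mul, mul_one, hcard] at hlt'
    omega
  obtain ⟨hm, hi⟩ := image_star ha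
  have hover' := hK.isOver (star_mem ha) (by rw [cnt_star_two ha, hc])
  rw [hi, ← hβ] at hover'
  have h4' : pairs 4 (mirror (2 * (n : ℤ) - 1) β) = ∅ := by
    refine Finset.eq_empty_of_forall_notMem fun q hq => ?_
    obtain ⟨h1, h2, h3, h5, h6⟩ := mem_pairs.1 hq
    rw [mem_mirror] at h1 h5
    have h7 : (2 * (n : ℤ) - 1 - q.2, 2 * (n : ℤ) - 1 - q.1) ∈ pairs 4 β := by
      refine mem_pairs.2 ⟨?_, by simp only; omega, by simp only; omega, h1.2.2, ?_⟩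
      · by_contra h
        exact h5 ⟨h2, by omega, h⟩
      · simp only
        rwa [show 2 * (n : ℤ) - 1 - q.2 - (2 * (n : ℤ) - 1 - q.1) = q.1 - q.2 by ring]
    rw [h4] at h7
    exact Finset.notMem_empty _ h7
  have he := eq_of_pairs_four hK.nonneg hK.closed hover' h4' hover h4
  refine hs ((hm.range_inj (mem_incSt.1 ha).2).1 ?_)
  rw [← hi] at he
  simpa [hβ] using congrArg (fun s : Finset ℤ => (s : Set ℤ)) he

end Cfsg.Agent.SymRank
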