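import Cfsg.Agent.Lib.Blocks.SymRank.Pairs
import Cfsg.Agent.Lib.Blocks.Covering
import Cfsg.Agent.Lib.Characters.Kernel
import Cfsg.Agent.Lib.CharTheory.Ito
import Cfsg.Agent.Lib.CharTheory.Basics

/-!
# Sylow subgroups of symmetric and alternating groups with a character of degree `p`
-/

set_option linter.style.haveILetI false

namespace Cfsg.Agent.SymRank

open Equiv Cfsg.Agent.Characters Cfsg.Agent.Blocks Cfsg.Agent.CharTheory

variable {p : ℕ}

/-- A moved linear character of a normal subgroup of index `p` gives a character of degree `p`. -/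
theorem exists_degree_prime {G : Type*} [Group G] [Finite G] (hp : p.Prime) {K : Subgroup G}
    [K.Normal] (hK : K.index = p) (lam : K →* ℂˣ) {g : G} {k : K}
    (hne : lam ⟨g * k * g⁻¹, Subgroup.Normal.conj_mem ‹_› _ k.2 g⟩ ≠ lam k) :
    ∃ χ : Cfsg.IrrCharacter G, Cfsg.charDegree (χ : G → ℂ) = p := by
  classical
  haveI := Fintype.ofFinite G
  haveI := Fintype.ofFinite K
  set θ : K → ℂ := fun x => (lam x : ℂ) with hθ
  have hθi : Cfsg.IsIrrCharacter K θ := isIrrCharacter_linear lam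
  have hθ1 : θ 1 = 1 := by simp [θ]
  have hind : Cfsg.IsCharacter G (Cfsg.indFun K θ) := isCharacter_indFun K (isCharacter_of_isIrr hθi)
  have hI1 : Cfsg.indFun K θ 1 = ((p : ℕ) : ℂ) := by rw [indFun_one, hK, hθ1, mul_one]
  obtain ⟨χ, hχ, hne'⟩ := Ito.exists_constituent hind (by
    rw [hI1]; exact_mod_cast hp.ne_zero)
  have h1 : Cfsg.classInner (fun x : K => χ x) θ ≠ 0 := by
    rw [← frobenius_reciprocity' K θ (char_isClassFunction (isCharacter_of_isIrr hχ)),
      classInner_conj_symm]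
    simpa using hne'
  let T : Subgroup G :=
    { carrier := {x | Clifford.conjBy K x θ = θ}
      one_mem' := Clifford.conjBy_one K _
      mul_mem' := fun {a b} ha hb => by
        simp only [Set.mem_ofPred_eq] at ha hb ⊢
        rw [← Clifford.conjBy_conjBy, ha, hb]
      inv_mem' := fun {a} ha => by
        simp only [Set.mem_ofPred_eq] at ha ⊢
        have := congrArg (Clifford.conjBy K a⁻¹) ha
        rwa [Clifford.conjBy_conjBy, mul_inv_cancel, Clifford.conjBy_one, eq_comm] at this }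
  have hKT : K ≤ T := fun x hx => by
    change Clifford.conjBy K x θ = θ
    funext y
    rw [Clifford.conjBy_apply]
    change (lam ((⟨x, hx⟩ : K) * y * (⟨x, hx⟩ : K)⁻¹) : ℂ) = lam y
    rw [map_mul, map_mul, map_inv, mul_comm (lam ⟨x, hx⟩), mul_inv_cancel_right]
  have hTne : T ≠ ⊤ := fun h => hne (Units.ext (by
    have hg : Clifford.conjBy K g θ = θ := (h ▸ Subgroup.mem_top g : g ∈ T)
    exact congrFun hg k))
  have hTK : T.index = p := by
    have h := Subgroup.index_dvd_of_le hKT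
    rw [hK] at h
    exact ((Nat.dvd_prime hp).1 h).resolve_left fun h1 => hTne (Subgroup.index_eq_one.1 h1)
  have hdeg := Clifford.card_mul_degree K hχ hθi h1 T fun _ => Iff.rfl
  obtain ⟨m, hm⟩ := classInner_char_nat (isCharacter_restrict K (isCharacter_of_isIrr hχ))
    (isCharacter_of_isIrr hθi)
  obtain ⟨d, -, hd⟩ := irr_one_pos hχ
  rw [hm, hθ1, mul_one, ← T.card_mul_index, hTK, hd] at hdeg
  have hdm : d = m * p := by
    have h2 : Nat.card T * d = m * (Nat.card T * p) := by exact_mod_cast hdeg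
    exact Nat.eq_of_mul_eq_mul_left Nat.card_pos (h2.trans (by ring))
  obtain ⟨j, hj⟩ := classInner_char_nat hind (isCharacter_of_isIrr hχ)
  have hle := Basics.degree_le hind hχ hj hI1 hd
  have hj0 : j ≠ 0 := fun h => hne' (by rw [hj, h, Nat.cast_zero])
  have hm0 : m ≠ 0 := fun h => h1 (by rw [hm, h, Nat.cast_zero])
  have hdp : d = p := by
    have h2 : p ≤ d := hdm ▸ Nat.le_mul_of_pos_left p (Nat.pos_of_ne_zero hm0)
    have h3 : d ≤ j * d := Nat.le_mul_of_pos_left d (Nat.pos_of_ne_zero hj0)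
    omega
  refine ⟨⟨χ, hχ⟩, ?_⟩
  have h := (charDegree_cast (⟨χ, hχ⟩ : Cfsg.IrrCharacter G)).trans hd
  exact hdp ▸ (by exact_mod_cast h)

/-! ## Monomial permutations -/

variable {w : ℕ}

/-- The monomial permutation `(i, a) ↦ (π i, a + f i)`. -/
def wp (π : Perm (Fin w)) (f : Fin w → ZMod p) : Perm (Fin w × ZMod p) :=
  Equiv.prodShear π fun i => Equiv.addRight (f i)

theorem wp_apply (π : Perm (Fin w)) (f : Fin w → ZMod p) (q : Fin w × ZMod p) :
    wp π f q = (π q.1, q.2 + f q.1) := rfl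

theorem wp_mul (π σ : Perm (Fin w)) (f g : Fin w → ZMod p) :
    wp π f * wp σ g = wp (π * σ) (g + f ∘ σ) := by
  ext q <;> simp [wp_apply, add_assoc]

theorem wp_one : wp (1 : Perm (Fin w)) (0 : Fin w → ZMod p) = 1 := by
  ext q <;> simp [wp_apply]

theorem wp_inv (π : Perm (Fin w)) (f : Fin w → ZMod p) :
    (wp π f)⁻¹ = wp π⁻¹ (-(f ∘ (π⁻¹ : Perm (Fin w)))) := by
  refine inv_eq_of_mul_eq_one_left ?_
  rw [wp_mul, inv_mul_cancel, ← wp_one]
  congr 1
  funext i
  simp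

theorem wp_injective {π σ : Perm (Fin w)} {f g : Fin w → ZMod p} (h : wp π f = wp σ g) :
    π = σ ∧ f = g := by
  refine ⟨Equiv.ext fun i => ?_, funext fun i => ?_⟩
  · exact congrArg Prod.fst (Equiv.congr_fun h (i, 0))
  · simpa [wp_apply] using congrArg Prod.snd (Equiv.congr_fun h (i, (0 : ZMod p)))

/-- The monomial group with permutations in `Q` and shifts in `L`. -/
def monGroup (Q : Subgroup (Perm (Fin w))) (L : AddSubgroup (Fin w → ZMod p))
    (hL : ∀ π ∈ Q, ∀ f ∈ L, f ∘ ⇑(π : Perm (Fin w)) ∈ L) : Subgroup (Perm (Fin w × ZMod p)) where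
  carrier := {x | ∃ π ∈ Q, ∃ f ∈ L, x = wp π f}
  one_mem' := ⟨1, Q.one_mem, 0, L.zero_mem, wp_one.symm⟩
  mul_mem' := by
    rintro _ _ ⟨π, hπ, f, hf, rfl⟩ ⟨σ, hσ, g, hg, rfl⟩
    exact ⟨π * σ, Q.mul_mem hπ hσ, _, L.add_mem hg (hL σ hσ f hf), wp_mul π σ f g⟩
  inv_mem' := by
    rintro _ ⟨π, hπ, f, hf, rfl⟩
    exact ⟨π⁻¹, Q.inv_mem hπ, _, L.neg_mem (hL _ (Q.inv_mem hπ) f hf), wp_inv π f⟩

variable {Q : Subgroup (Perm (Fin w))} {L : AddSubgroup (Fin w → ZMod p)}
  {hL : ∀ π ∈ Q, ∀ f ∈ L, f ∘ ⇑(π : Perm (Fin w)) ∈ L}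

/-- The permutation part. -/
def topPart (x : Perm (Fin w × ZMod p)) (i : Fin w) : Fin w := (x (i, 0)).1

/-- The shift part. -/
def shiftPart (x : Perm (Fin w × ZMod p)) : Fin w → ZMod p := fun i => (x (i, 0)).2

theorem shiftPart_wp (π : Perm (Fin w)) (f : Fin w → ZMod p) : shiftPart (wp π f) = f := by
  funext i
  simp [shiftPart, wp_apply]

theorem topPart_wp (π : Perm (Fin w)) (f : Fin w → ZMod p) : topPart (wp π f) = π := by
  funext i
  simp [topPart, wp_apply]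

theorem card_monGroup : Nat.card (monGroup Q L hL) = Nat.card Q * Nat.card L := by
  rw [← Nat.card_prod]
  refine (Nat.card_eq_of_bijective
    (fun q : Q × L => (⟨wp q.1.1 q.2.1, q.1.1, q.1.2, q.2.1, q.2.2, rfl⟩ : monGroup Q L hL))
    ⟨fun a b h => ?_, ?_⟩).symm
  · obtain ⟨h1, h2⟩ := wp_injective (congrArg Subtype.val h)
    exact Prod.ext (Subtype.ext h1) (Subtype.ext h2)
  · rintro ⟨x, π, hπ, f, hf, rfl⟩
    exact ⟨(⟨π, hπ⟩, ⟨f, hf⟩), rfl⟩

/-- The projection to the permutation part. -/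
theorem exists_topHom : ∃ t : monGroup Q L hL →* Q, Function.Surjective t ∧
    ∀ (π : Perm (Fin w)) (hπ : π ∈ Q) (f : Fin w → ZMod p) (hf : f ∈ L),
      t ⟨wp π f, π, hπ, f, hf, rfl⟩ = ⟨π, hπ⟩ := by
  have h : ∀ x : monGroup Q L hL, ∃ π : Q, ∃ f, (x : Perm (Fin w × ZMod p)) = wp π.1 f := by
    rintro ⟨x, π, hπ, f, -, rfl⟩
    exact ⟨⟨π, hπ⟩, f, rfl⟩
  choose π f hπ using h
  let t : monGroup Q L hL →* Q := MonoidHom.mk' π fun x y => by
    have e := hπ (x * y)
    rw [Subgroup.coe_mul, hπ x, hπ y, wp_mul] at e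
    exact Subtype.ext (wp_injective e).1.symm
  have ht : ∀ (σ : Perm (Fin w)) (hσ : σ ∈ Q) (g : Fin w → ZMod p) (hg : g ∈ L),
      t ⟨wp σ g, σ, hσ, g, hg, rfl⟩ = ⟨σ, hσ⟩ := fun σ hσ g hg => by
    exact Subtype.ext (wp_injective (hπ ⟨wp σ g, σ, hσ, g, hg, rfl⟩)).1.symm
  exact ⟨t, fun σ => ⟨_, ht σ σ.2 0 L.zero_mem⟩, ht⟩

theorem exists_maximal_over [Fact p.Prime] {G : Type*} [Group G] [Finite G] (hG : IsPGroup p G)
    {S : Subgroup G} (hS : S ≠ ⊤) : ∃ H : Subgroup G, S ≤ H ∧ H.index = p ∧ H.Normal := by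
  have hp : p.Prime := Fact.out
  obtain ⟨N, hN⟩ := IsPGroup.iff_card.1 hG
  obtain ⟨k, hk⟩ := IsPGroup.iff_card.1 (hG.to_subgroup S)
  have hkN : k < N := by
    refine lt_of_le_of_ne ((Nat.pow_le_pow_iff_right hp.one_lt).1 (hk ▸ hN ▸ S.card_le_card_group))
      fun e => hS (Subgroup.eq_top_of_card_eq S ?_)
    rw [hk, hN, e]
  obtain ⟨H, hH, hle⟩ := Sylow.exists_subgroup_card_pow_prime_le p (n := k) (m := N - 1)
    (hN ▸ Nat.pow_dvd_pow p (Nat.sub_le N 1)) S hk (by omega)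
  have hidx : H.index = p := by
    have h := H.card_mul_index
    rw [hH, hN, ← Nat.sub_add_cancel (show 1 ≤ N by omega), pow_succ] at h
    simpa [hp.ne_zero] using h
  refine ⟨H, hle, hidx, Subgroup.normal_of_index_eq_minFac_card ?_⟩
  rw [hidx, hN, Nat.pow_minFac (by omega), hp.minFac_eq]

/-- A character of degree `p` of a monomial group. -/
theorem monGroup_degree [Fact p.Prime] (hQ : IsPGroup p Q) {a0 : Fin w} (q0 : Q)
    (hq0 : (q0 : Perm (Fin w)) a0 ≠ a0)
    (hfun : ∀ Δ Δ' : Finset (Fin w), a0 ∈ Δ → Δ.card = Δ'.card → Disjoint Δ Δ' →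
      ∃ f ∈ L, ∑ i ∈ Δ, f i ≠ ∑ i ∈ Δ', f i) :
    ∃ φ : Cfsg.IrrCharacter (monGroup Q L hL), Cfsg.charDegree (φ : monGroup Q L hL → ℂ) = p := by
  classical
  have hp : p.Prime := Fact.out
  haveI : NeZero p := ⟨hp.ne_zero⟩
  haveI := Fintype.ofFinite Q
  let St : Subgroup Q :=
    { carrier := {π | (π : Perm (Fin w)) a0 = a0}
      one_mem' := rfl
      mul_mem' := fun {x y} hx hy => by
        simp only [Set.mem_ofPred_eq, Subgroup.coe_mul, Perm.mul_apply] at *
        rw [hy, hx]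
      inv_mem' := fun {x} hx => by
        simp only [Set.mem_ofPred_eq, Subgroup.coe_inv] at *
        exact Perm.inv_eq_iff_eq.2 hx.symm }
  have hSt : St ≠ ⊤ := fun h => hq0 (show q0 ∈ St from h ▸ Subgroup.mem_top _)
  obtain ⟨H, hle, hidx, hHn⟩ := exists_maximal_over hQ hSt
  obtain ⟨g, hg⟩ : ∃ g, g ∉ H := by
    by_contra h
    push Not at h
    rw [(Subgroup.eq_top_iff' H).2 h, Subgroup.index_top] at hidx
    exact hp.one_lt.ne hidx
  set Δ : Finset (Fin w) := (Finset.univ.filter fun h => h ∈ H).image fun h : Q => (h : Perm (Fin w)) a0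
  set Δ' : Finset (Fin w) := Δ.map (g : Perm (Fin w)).toEmbedding
  have ha0 : a0 ∈ Δ := Finset.mem_image.2 ⟨1, by simp, rfl⟩
  have hinv : ∀ h : Q, h ∈ H → ∀ i, ((h : Perm (Fin w)) i ∈ Δ ↔ i ∈ Δ) := by
    intro h hh i
    simp only [Δ, Finset.mem_image, Finset.mem_filter, Finset.mem_univ, true_and]
    constructor
    · rintro ⟨k, hk, he⟩
      exact ⟨h⁻¹ * k, H.mul_mem (H.inv_mem hh) hk, by simp [he]⟩
    · rintro ⟨k, hk, rfl⟩
      exact ⟨h * k, H.mul_mem hh hk, rfl⟩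
  have hdis : Disjoint Δ Δ' := by
    rw [Finset.disjoint_left]
    intro i hi hi'
    obtain ⟨j, hj, rfl⟩ := Finset.mem_map.1 hi'
    obtain ⟨h, hh, rfl⟩ := Finset.mem_image.1 hj
    obtain ⟨k, hk, he⟩ := Finset.mem_image.1 hi
    simp only [Finset.mem_filter, Finset.mem_univ, true_and] at hh hk
    have hst : k⁻¹ * g * h ∈ St := by
      change ((k⁻¹ * g * h : Q) : Perm (Fin w)) a0 = a0
      simp only [Subgroup.coe_mul, Subgroup.coe_inv, Perm.mul_apply]
      exact Perm.inv_eq_iff_eq.2 he.symm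
    have h3 := H.mul_mem (H.mul_mem hk (hle hst)) (H.inv_mem hh)
    rw [show k * (k⁻¹ * g * h) * h⁻¹ = g by group] at h3
    exact hg h3
  obtain ⟨f, hf, hfne⟩ := hfun Δ Δ' ha0 (by simp [Δ']) hdis
  obtain ⟨t, hts, ht⟩ := exists_topHom (Q := Q) (L := L) (hL := hL)
  set K := H.comap t with hK
  haveI : K.Normal := hHn.comap t
  have hKi : K.index = p := by rw [hK, Subgroup.index_comap_of_surjective _ hts, hidx]
  let ψ : Multiplicative (ZMod p) →* ℂˣ := (ZMod.stdAddChar (N := p)).toMonoidHom.toHomUnits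
  let val : K → ZMod p := fun x => ∑ i ∈ Δ, shiftPart (x : monGroup Q L hL).1 i
  have hval : ∀ x y : K, val (x * y) = val x + val y := by
    rintro ⟨⟨_, π, hπ, a, ha, rfl⟩, hx⟩ ⟨⟨_, σ, hσ, b, hb, rfl⟩, hy⟩
    have hσH : (⟨σ, hσ⟩ : Q) ∈ H := by rw [← ht σ hσ b hb]; exact hy
    simp only [val, Subgroup.coe_mul, wp_mul, shiftPart_wp, Pi.add_apply, Function.comp_apply,
      Finset.sum_add_distrib]
    rw [add_comm]
    congr 1
    exact Finset.sum_equiv σ (fun i => (hinv _ hσH i).symm) fun i _ => rfl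
  let lam : K →* ℂˣ := ψ.comp (MonoidHom.mk' (fun x => Multiplicative.ofAdd (val x))
    fun x y => by rw [hval]; rfl)
  -- the shift, carried to the first orbit
  set f' : Fin w → ZMod p := f ∘ (g : Perm (Fin w)) with hf'
  have hf'L : f' ∈ L := hL _ g.2 f hf
  set k : monGroup Q L hL := ⟨wp 1 f', 1, Q.one_mem, f', hf'L, rfl⟩ with hk
  have hkK : k ∈ K := by
    rw [hK, Subgroup.mem_comap, hk, ht 1 Q.one_mem f' hf'L]
    exact H.one_mem
  set G : monGroup Q L hL := ⟨wp g.1 0, g.1, g.2, 0, L.zero_mem, rfl⟩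
  refine exists_degree_prime hp hKi lam (g := G) (k := ⟨k, hkK⟩) fun h => hfne ?_
  have hc : G.1 * k.1 * G.1⁻¹ = wp 1 f := by
    change wp g.1 0 * wp 1 f' * (wp g.1 0)⁻¹ = wp 1 f
    rw [wp_inv, wp_mul, wp_mul, mul_one, mul_inv_cancel]
    congr 1
    funext i
    simp [hf']
  have h1 : ψ (Multiplicative.ofAdd (∑ i ∈ Δ, shiftPart (G.1 * k.1 * G.1⁻¹) i)) =
      ψ (Multiplicative.ofAdd (∑ i ∈ Δ, shiftPart k.1 i)) := h
  rw [hc, hk, shiftPart_wp, shiftPart_wp] at h1
  have h2 := ZMod.injective_stdAddChar (congrArg Units.val h1 :)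
  rw [Multiplicative.ofAdd.injective h2, hf']
  simp [Δ']

theorem isPGroup_monGroup [Fact p.Prime] (hQ : IsPGroup p Q) :
    IsPGroup p (monGroup Q L hL) := by
  obtain ⟨a, ha⟩ := IsPGroup.iff_card.1 hQ
  have hL' : ∃ b, Nat.card L = p ^ b := by
    have h : Nat.card L ∣ p ^ w := by
      have := L.card_addSubgroup_dvd_card
      rwa [Nat.card_fun, Nat.card_zmod, Nat.card_fin] at this
    obtain ⟨b, -, hb⟩ := (Nat.dvd_prime_pow Fact.out).1 h
    exact ⟨b, hb⟩
  obtain ⟨b, hb⟩ := hL'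
  exact IsPGroup.of_card (n := a + b) (by rw [card_monGroup, ha, hb, pow_add])

theorem exists_moved {w : ℕ} {Q : Subgroup (Perm (Fin w))} (h : Nat.card Q ≠ 1) :
    ∃ (q : Q) (a : Fin w), (q : Perm (Fin w)) a ≠ a := by
  by_contra hne
  push Not at hne
  refine h ((Subgroup.card_eq_one).2 (Subgroup.eq_bot_iff_forall _ |>.2 fun x hx => ?_))
  exact Equiv.ext fun i => hne ⟨x, hx⟩ i

theorem exists_sylow (p w : ℕ) [Fact p.Prime] : ∃ Q : Subgroup (Perm (Fin w)), IsPGroup p Q ∧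
    Nat.card Q = p ^ w.factorial.factorization p := by
  obtain ⟨P⟩ : Nonempty (Sylow p (Perm (Fin w))) := inferInstance
  exact ⟨P, P.isPGroup', by
    rw [P.card_eq_multiplicity, Nat.card_perm, Nat.card_eq_fintype_card, Fintype.card_fin]⟩

/-- A Sylow subgroup of the symmetric group of degree `p w`. -/
theorem exists_sym_group [Fact p.Prime] (hwp : p ≤ w) :
    ∃ W : Subgroup (Perm (Fin w × ZMod p)), IsPGroup p W ∧ Nat.card W = p ^ fpm p w ∧
      ∃ φ : Cfsg.IrrCharacter W, Cfsg.charDegree (φ : W → ℂ) = p := by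
  classical
  have hp : p.Prime := Fact.out
  obtain ⟨Q, hQ, hQc⟩ := exists_sylow p w
  have hQ1 : Nat.card Q ≠ 1 := by
    rw [hQc]
    refine (Nat.one_lt_pow (Nat.pos_iff_ne_zero.1 ?_) hp.one_lt).ne'
    exact hp.factorization_pos_of_dvd (Nat.factorial_ne_zero w) (hp.dvd_factorial.2 hwp)
  obtain ⟨q, a, hqa⟩ := exists_moved hQ1
  refine ⟨monGroup Q (⊤ : AddSubgroup (Fin w → ZMod p)) fun _ _ _ _ => AddSubgroup.mem_top _,
    isPGroup_monGroup hQ, ?_, monGroup_degree hQ q hqa fun Δ Δ' ha _ hd => ?_⟩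
  · rw [card_monGroup, AddSubgroup.card_top, Nat.card_fun, Nat.card_zmod, Nat.card_fin, hQc,
      fpm_eq hp, pow_add, mul_comm]
  · refine ⟨Pi.single a 1, AddSubgroup.mem_top _, ?_⟩
    rw [Finset.sum_pi_single', Finset.sum_pi_single', if_pos ha,
      if_neg (Finset.disjoint_left.1 hd ha)]
    exact one_ne_zero

/-- The shifts of total zero. -/
def zeroSum (w p : ℕ) : AddSubgroup (Fin w → ZMod p) where
  carrier := {f | ∑ i, f i = 0}
  zero_mem' := by simp
  add_mem' := fun {f g} hf hg => by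
    simp only [Set.mem_ofPred_eq] at *
    simp [Finset.sum_add_distrib, hf, hg]
  neg_mem' := fun {f} hf => by
    simp only [Set.mem_ofPred_eq] at *
    simp [hf]

theorem mem_zeroSum {f : Fin w → ZMod p} : f ∈ zeroSum w p ↔ ∑ i, f i = 0 := Iff.rfl

theorem comp_mem_zeroSum (π : Perm (Fin w)) {f : Fin w → ZMod p} (hf : f ∈ zeroSum w p) :
    f ∘ π ∈ zeroSum w p := mem_zeroSum.2 ((Equiv.sum_comp π f).trans hf)

theorem card_zeroSum [NeZero p] (hw0 : 1 ≤ w) : Nat.card (zeroSum w p) * p = p ^ w := by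
  let s : (Fin w → ZMod p) →+ ZMod p :=
    { toFun := fun f => ∑ i, f i
      map_zero' := by simp
      map_add' := fun f g => by simp [Finset.sum_add_distrib] }
  have hs : Function.Surjective s := fun c => ⟨Pi.single ⟨0, hw0⟩ c, by
    show ∑ i, (Pi.single ⟨0, hw0⟩ c : Fin w → ZMod p) i = c
    simp⟩
  have h := s.ker.card_mul_index
  rw [AddSubgroup.index_ker, Set.range_eq_univ.2 hs |> fun e => (show Nat.card s.range = p by
    rw [AddMonoidHom.range_eq_top.2 hs, AddSubgroup.card_top, Nat.card_zmod]),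
    Nat.card_fun, Nat.card_zmod, Nat.card_fin] at h
  exact h

theorem sign_wp {π : Perm (Fin w)} {f : Fin w → ZMod 2} (hf : ∑ i, f i = 0) :
    Perm.sign (wp π f) = 1 := by
  have h : wp π f = Equiv.prodCongrLeft (fun _ : ZMod 2 => π) *
      Equiv.prodCongrRight fun i => Equiv.addRight (f i) := by
    ext q <;> simp [wp_apply]
  rw [h, map_mul, Perm.sign_prodCongrLeft, Perm.sign_prodCongrRight, Finset.prod_const,
    Finset.card_univ, ZMod.card, sq, Int.units_mul_self, one_mul]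
  let sgn : Multiplicative (ZMod 2) →* ℤˣ := MonoidHom.mk'
    (fun z => Perm.sign (Equiv.addRight z.toAdd)) (by decide)
  change ∏ i, sgn (Multiplicative.ofAdd (f i)) = 1
  rw [← map_prod, ← ofAdd_sum, hf, ofAdd_zero, map_one]

/-- A Sylow subgroup of the alternating group of degree `2 w`. -/
theorem exists_alt_group (hw3 : 3 ≤ w) :
    ∃ W : Subgroup (Perm (Fin w × ZMod 2)), (∀ x ∈ W, Perm.sign x = 1) ∧ IsPGroup 2 W ∧
      Nat.card W * 2 = 2 ^ fpm 2 w ∧
      ∃ φ : Cfsg.IrrCharacter W, Cfsg.charDegree (φ : W → ℂ) = 2 := by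
  classical
  have hz : ∀ {Q : Subgroup (Perm (Fin w))}, ∀ π ∈ Q, ∀ f ∈ zeroSum w 2,
      f ∘ ⇑(π : Perm (Fin w)) ∈ zeroSum w 2 := fun π _ _ hf => comp_mem_zeroSum π hf
  have hcard : ∀ {Q : Subgroup (Perm (Fin w))}, Nat.card Q = 2 ^ w.factorial.factorization 2 →
      Nat.card (monGroup Q (zeroSum w 2) hz) * 2 = 2 ^ fpm 2 w := fun {Q} hQ => by
    rw [card_monGroup, mul_assoc, card_zeroSum (by omega), hQ, fpm_eq Nat.prime_two, pow_add,
      mul_comm]
  have hsgn : ∀ {Q : Subgroup (Perm (Fin w))}, ∀ x ∈ monGroup Q (zeroSum w 2) hz,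
      Perm.sign x = 1 := by
    rintro Q _ ⟨π, -, f, hf, rfl⟩
    exact sign_wp hf
  rcases Nat.even_or_odd w with ⟨v, hv⟩ | hodd
  · -- the permutation part has such a character
    obtain ⟨W, hW, hWc, φ, hφ⟩ := exists_sym_group (p := 2) (show 2 ≤ v by omega)
    obtain ⟨e⟩ : Nonempty (Fin v × ZMod 2 ≃ Fin w) :=
      Fintype.card_eq.1 (by rw [Fintype.card_prod, Fintype.card_fin, Fintype.card_fin, ZMod.card]; omega)
    set ε := e.permCongrHom
    set Q := W.map ε.toMonoidHom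
    set m : W ≃* Q := W.equivMapOfInjective ε.toMonoidHom ε.injective
    have hQc : Nat.card Q = 2 ^ w.factorial.factorization 2 := by
      rw [Subgroup.card_map_of_injective ε.injective, hWc, fpm_eq_factorial Nat.prime_two,
        show 2 * v = w by omega]
    have hQ : IsPGroup 2 Q := hW.of_equiv m
    obtain ⟨t, hts, -⟩ := exists_topHom (Q := Q) (L := zeroSum w 2) (hL := hz)
    refine ⟨monGroup Q (zeroSum w 2) hz, hsgn, isPGroup_monGroup hQ, hcard hQc,
      ⟨_, isIrrCharacter_comp_surjective (m.symm.toMonoidHom.comp t) (m.symm.surjective.comp hts) φ.2⟩,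
      ?_⟩
    refine Eq.trans ?_ hφ
    simp [Cfsg.charDegree, MonoidHom.comp_apply]
  · obtain ⟨Q, hQ, hQc⟩ := exists_sylow 2 w
    have hQ1 : Nat.card Q ≠ 1 := by
      rw [hQc]
      refine (Nat.one_lt_pow (Nat.pos_iff_ne_zero.1 ?_) one_lt_two).ne'
      exact Nat.prime_two.factorization_pos_of_dvd (Nat.factorial_ne_zero w)
        (Nat.prime_two.dvd_factorial.2 (by omega))
    obtain ⟨q, a, hqa⟩ := exists_moved hQ1
    refine ⟨monGroup Q (zeroSum w 2) hz, hsgn, isPGroup_monGroup hQ, hcard hQc,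
      monGroup_degree hQ q hqa fun Δ Δ' ha hc hd => ?_⟩
    obtain ⟨b, hb⟩ : ∃ b, b ∉ Δ ∪ Δ' := by
      by_contra h
      push Not at h
      have h1 : (Δ ∪ Δ').card = w := by rw [Finset.eq_univ_iff_forall.2 h]; simp
      rw [Finset.card_union_of_disjoint hd, ← hc] at h1
      obtain ⟨k, hk⟩ := hodd
      omega
    rw [Finset.mem_union, not_or] at hb
    refine ⟨Pi.single a 1 + Pi.single b 1, mem_zeroSum.2 ?_, ?_⟩
    · simp only [Pi.add_apply, Finset.sum_add_distrib, Finset.sum_pi_single', Finset.mem_univ,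
        if_true]
      decide
    · simp only [Pi.add_apply, Finset.sum_add_distrib, Finset.sum_pi_single', if_pos ha,
        if_neg hb.1, if_neg hb.2, if_neg (Finset.disjoint_left.1 hd ha), add_zero]
      exact one_ne_zero

end Cfsg.Agent.SymRank
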