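import Cfsg.Agent.Lib.Blocks.SymRank.AltMain
import Cfsg.Agent.Lib.Blocks.SymRank.States
import Cfsg.Agent.Lib.Blocks.SymRank.Nakayama
import Cfsg.Agent.Lib.Blocks.SymRank.Wreath

/-!
# Heights in the blocks of the alternating groups
-/

set_option linter.style.haveILetI false

namespace Cfsg.Agent.SymRank

open Equiv Cfsg.Agent.Characters Cfsg.Agent.Blocks Cfsg.Agent.BlockCharsA.NormalSupport
open Cfsg.Agent.CharTheory
open scoped ComplexConjugate

variable {n p : ℕ} {M : Ideal Cfsg.AlgInt}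

local notation "Sₙ" => Perm (Fin n)
local notation "Aₙ" => alternatingGroup (Fin n)

/-- The exponent lost at a self-mirrored tuple. -/
noncomputable def lost (p : ℕ) (a : Fin n → ℤ) : ℕ := if star a = a then (2 : ℕ).factorization p else 0

theorem charDegree_theta {a : Fin n → ℤ} (ha : a ∈ incSt n n) {χ : Cfsg.IrrCharacter Sₙ} {ε : ℂ}
    (he : (χ : Sₙ → ℂ) = ε • theta n a) :
    Cfsg.charDegree (χ : Sₙ → ℂ) = (val (Multiset.replicate n 1) a).natAbs := by
  have h1 : Cfsg.classInner (χ : Sₙ → ℂ) (χ : Sₙ → ℂ) = 1 := classInner_isIrr_self χ.2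
  rw [he, classInner_smul_left, classInner_smul_right, classInner_theta,
    gram_eq n a a (mem_incSt.1 ha).1 (mem_incSt.1 ha).1, del_self (mem_incSt.1 ha).2.injective] at h1
  simp only [Int.cast_one, Rat.cast_one, mul_one] at h1
  have hd : (Cfsg.charDegree (χ : Sₙ → ℂ) : ℂ) = ε * (val (Multiset.replicate n 1) a : ℂ) := by
    rw [charDegree_cast, he, Pi.smul_apply, smul_eq_mul, theta, typeOf_one]
  have h2 : ((Cfsg.charDegree (χ : Sₙ → ℂ) : ℤ) ^ 2 : ℤ) = (val (Multiset.replicate n 1) a) ^ 2 := by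
    have h3 := congrArg (starRingEnd ℂ) hd
    rw [map_natCast, map_mul, map_intCast] at h3
    have h4 : ((Cfsg.charDegree (χ : Sₙ → ℂ) : ℂ)) ^ 2 =
        ((val (Multiset.replicate n 1) a : ℤ) : ℂ) ^ 2 := by
      rw [sq]
      nth_rw 1 [hd]
      rw [h3]
      linear_combination ((val (Multiset.replicate n 1) a : ℂ)) ^ 2 * h1
    exact_mod_cast h4
  have := Int.natAbs_eq_iff_sq_eq.2 h2
  rwa [Int.natAbs_natCast] at this

/-- The exponent of `p` in the degree of a character under a tuple. -/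
theorem under_factorization [Nontrivial (Fin n)] {a : Fin n → ℤ} (ha : a ∈ incSt n n)
    {ψ : Cfsg.IrrCharacter Aₙ} (h : Under a ψ) :
    (Cfsg.charDegree (ψ : Aₙ → ℂ)).factorization p + hw p (Finset.univ.image a) + lost p a =
      n.factorial.factorization p := by
  rw [← degree_add_hw p (mem_incSt.1 ha).1 (mem_incSt.1 ha).2]
  obtain ⟨χ, ε, he, hc⟩ := h
  rw [← charDegree_theta ha he, lost]
  by_cases hs : star a = a
  · have hdeg := degree_of_eq ha hs he hc
    rw [← charDegree_cast, ← charDegree_cast] at hdeg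
    have hdeg' : Cfsg.charDegree (χ : Sₙ → ℂ) = 2 * Cfsg.charDegree (ψ : Aₙ → ℂ) := by
      exact_mod_cast hdeg
    rw [if_pos hs, hdeg', Nat.factorization_mul two_ne_zero (charDegree_pos ψ).ne',
      Finsupp.add_apply]
    omega
  · have hn1 : Cfsg.classInner (resA n (χ : Sₙ → ℂ)) (resA n (χ : Sₙ → ℂ)) = 1 := by
      have h1 : Cfsg.classInner (χ : Sₙ → ℂ) (χ : Sₙ → ℂ) = 1 := classInner_isIrr_self χ.2
      rw [he, classInner_smul_left, classInner_smul_right, classInner_theta,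
        gram_eq n a a (mem_incSt.1 ha).1 (mem_incSt.1 ha).1,
        del_self (mem_incSt.1 ha).2.injective] at h1
      rw [he, map_smul, classInner_smul_left, classInner_smul_right, norm_resA ha, if_neg hs]
      simpa using h1
    have hi := isIrr_of_isCharacter_of_norm_one (isCharacter_restrict Aₙ (irr_isCharacter χ)) hn1
    have heq : (fun g : Aₙ => (χ : Sₙ → ℂ) g) = (ψ : Aₙ → ℂ) := by
      by_contra hne
      exact hc (classInner_isIrr_ne hi ψ.2 hne)
    have h1 := congrFun heq 1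
    simp only [OneMemClass.coe_one] at h1
    rw [← charDegree_cast, ← charDegree_cast] at h1
    rw [if_neg hs, add_zero, show Cfsg.charDegree (χ : Sₙ → ℂ) = Cfsg.charDegree (ψ : Aₙ → ℂ) by
      exact_mod_cast h1]

theorem card_alt_factorization [Nontrivial (Fin n)] (p : ℕ) :
    (Nat.card Aₙ).factorization p + (2 : ℕ).factorization p = n.factorial.factorization p := by
  have h := two_mul_card_alternatingGroup (α := Fin n)
  rw [Fintype.card_perm, Fintype.card_fin] at h
  rw [← h, Nat.card_eq_fintype_card,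
    Nat.factorization_mul two_ne_zero Fintype.card_ne_zero, Finsupp.add_apply, add_comm]

theorem factorization_two_of_ne {p : ℕ} (hp : p.Prime) (h : p ≠ 2) : (2 : ℕ).factorization p = 0 :=
  Nat.factorization_eq_zero_of_not_dvd fun hd => h ((Nat.prime_dvd_prime_iff_eq hp Nat.prime_two).1 hd)

/-- Each tuple of the core class lies under the block. -/
theorem exists_under_in_block (hM : Cfsg.IsPModular p M) {w r0 : ℕ} {κ : Finset ℤ}
    (hK : IsCore p n w r0 κ) {B : Set (Cfsg.IrrCharacter Aₙ)} (hB : Cfsg.IsPBlock M B)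
    {a0 : Fin n → ℤ} (ha0 : a0 ∈ incSt n n) (hc0 : cnt p a0 = cntS p κ)
    {ψ0 : Cfsg.IrrCharacter Aₙ} (hψ0 : ψ0 ∈ B) (h0 : Under a0 ψ0) {a : Fin n → ℤ}
    (ha : a ∈ incSt n n) (hc : cnt p a = cntS p κ) : ∃ ψ ∈ B, Under a ψ := by
  obtain ⟨χ0, ε0, he0, hi0⟩ := h0
  obtain ⟨ψ1, χ, ε, he, hi⟩ := exists_constituent ha
  have hs := sameBlock_coreClass hM hK.deg hK.nonneg hK.closed hK.sum
    (χ := χ0) (χ' := χ) ⟨a0, ε0, ha0, hc0, he0⟩ ⟨a, ε, ha, hc, he⟩
  obtain ⟨g, hg⟩ := constituents_conj_block hM hs hi0 hi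
  refine ⟨conjIrr g⁻¹ ψ1, mem_of_sameBlock hM hB hψ0 ?_, χ, ε, he, ?_⟩
  · have := sameBlock_conjIrr g⁻¹ hg
    rwa [conjIrr_conjIrr, mul_inv_cancel, conjIrr_one] at this
  · rwa [constituent_conjIrr]

/-- For odd `p` the defect groups contain the elementary group of `w` cycles. -/
theorem exists_span_le_odd [Fact p.Prime] (hM : Cfsg.IsPModular p M) (hpo : Odd p)
    {B : Set (Cfsg.IrrCharacter Aₙ)} (hB : Cfsg.IsPBlock M B)
    {χ : Cfsg.IrrCharacter Sₙ} {ψ0 : Cfsg.IrrCharacter Aₙ} (hψ0 : ψ0 ∈ B)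
    (hc : Cfsg.classInner (fun x : Aₙ => (χ : Sₙ → ℂ) x) (ψ0 : Aₙ → ℂ) ≠ 0)
    {w : ℕ} {u : Sₙ} (hu : u.cycleType = Multiset.replicate w p) (hne : (χ : Sₙ → ℂ) u ≠ 0) :
    ∃ (v : Sₙ) (E : Subgroup Aₙ), v.cycleType = Multiset.replicate w p ∧ cycleSpan v ≤ Aₙ ∧
      Cfsg.IsDefectGroup p M B E ∧ (cycleSpan v).subgroupOf Aₙ ≤ E := by
  classical
  obtain ⟨k, hk⟩ := orderOf_of_cycleType hM.1 hu
  have huA : u ∈ Aₙ := mem_of_pow_odd (hpo.pow (n := k)) (hk ▸ pow_orderOf_eq_one u)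
  obtain ⟨θ, hθ, g, v, hv, hvne⟩ := exists_value_conj hM hB hψ0 hc huA hne
  have hv' : (v : Sₙ).cycleType = Multiset.replicate w p := by rw [hv, Perm.cycleType_conj, hu]
  have hspan : cycleSpan (v : Sₙ) ≤ Aₙ := fun a ha => mem_of_pow_odd hpo (cycleSpan_pow hv' ha)
  set Q := (cycleSpan (v : Sₙ)).subgroupOf Aₙ with hQ
  have hQp : ∀ a ∈ Q, a ^ p = 1 := fun a ha => Subtype.ext (by
    rw [SubmonoidClass.coe_pow, cycleSpan_pow hv' (Subgroup.mem_subgroupOf.1 ha)]; rfl)
  obtain ⟨E, hE, hQE⟩ := le_defect_of_value hM hB hθ (u := v) (by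
      rw [← Subgroup.orderOf_coe]; exact orderOf_of_cycleType hM.1 hv') hvne (Q := Q)
    (fun a ha => Subgroup.mem_centralizer_singleton_iff.2 (Subtype.ext
      (Subgroup.mem_centralizer_singleton_iff.1
        (cycleSpan_le_centralizer _ (Subgroup.mem_subgroupOf.1 ha)))))
    (⟨fun a ha b => by
      rw [Subgroup.mem_subgroupOf, Subgroup.mem_subgroupOf] at ha ⊢
      have hb : (b : Aₙ).1 ∈ Subgroup.centralizer ({(v : Sₙ)} : Set Sₙ) :=
        Subgroup.mem_centralizer_singleton_iff.2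
          (congrArg Subtype.val (Subgroup.mem_centralizer_singleton_iff.1 b.2))
      exact (cycleSpan_normal (v : Sₙ)).conj_mem
        ⟨_, cycleSpan_le_centralizer _ ha⟩ ha ⟨_, hb⟩⟩)
    (fun a => ⟨1, by rw [pow_one]; exact Subtype.ext (hQp a a.2)⟩)
  exact ⟨v, E, hv', hspan, hE, hQE⟩

/-- Some element with a unit coefficient fixes `p w` points. -/
theorem exists_coeff_fix [Fact p.Prime] [Nontrivial (Fin n)] (hM : Cfsg.IsPModular p M)
    {B : Set (Cfsg.IrrCharacter Aₙ)} (hB : Cfsg.IsPBlock M B)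
    {χ : Cfsg.IrrCharacter Sₙ} {ψ0 : Cfsg.IrrCharacter Aₙ} (hψ0 : ψ0 ∈ B)
    (hc : Cfsg.classInner (fun x : Aₙ => (χ : Sₙ → ℂ) x) (ψ0 : Aₙ → ℂ) ≠ 0)
    {w : ℕ} {u : Sₙ} (hu : u.cycleType = Multiset.replicate w p) (hne : (χ : Sₙ → ℂ) u ≠ 0) :
    ∃ (h : Aₙ) (S : Finset (Fin n)), S.card = p * w ∧ (∀ x ∈ S, (h : Sₙ) x = x) ∧
      ¬ Cfsg.MemLocalIdeal M (Cfsg.blockCoeff B h) := by
  rcases hM.1.eq_two_or_odd' with rfl | hodd
  · exact exists_coeff hM hB hψ0 hc hu hne
  obtain ⟨v, E, hv, -, hE, hQE⟩ := exists_span_le_odd hM hodd hB hψ0 hc hu hne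
  obtain ⟨g, hg, hs⟩ := isDefectGroup_iff.1 hE
  refine ⟨g, v.support, by rw [← Perm.sum_cycleType, hv, Multiset.sum_replicate, smul_eq_mul, mul_comm],
    fun x hx => fix_of_regular hM.1 hv (fun c hc => ?_) ?_ hx, hg.2.1⟩
  · have hcA : c ∈ Aₙ := mem_of_pow_odd hodd (cycleSpan_pow hv hc)
    exact congrArg Subtype.val (Subgroup.mem_centralizer_iff.1 (isSylCent_mem hs) ⟨c, hcA⟩
      (hQE (Subgroup.mem_subgroupOf.2 hc)))
  · rw [Subgroup.orderOf_coe]
    exact defectClass_regular hM hB hg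

/-- A character of degree `p` passes to the defect group. -/
theorem defect_degree [Fact p.Prime] (hM : Cfsg.IsPModular p M) {w : ℕ}
    {B : Set (Cfsg.IrrCharacter Aₙ)} (hB : Cfsg.IsPBlock M B) {D : Subgroup Aₙ}
    (hD : Cfsg.IsDefectGroup p M B D) {h : Aₙ} {S : Finset (Fin n)} (hS : S.card = p * w)
    (hfix : ∀ x ∈ S, (h : Sₙ) x = x) (hcoef : ¬ Cfsg.MemLocalIdeal M (Cfsg.blockCoeff B h))
    {W : Subgroup (Perm (Fin w × ZMod p))} (hsgn : ∀ x ∈ W, Perm.sign x = 1) (hW : IsPGroup p W)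
    (hcard : Nat.card W = Nat.card D)
    (hφ : ∃ φ : Cfsg.IrrCharacter W, Cfsg.charDegree (φ : W → ℂ) = p) :
    ∃ φ : Cfsg.IrrCharacter D, Cfsg.charDegree (φ : D → ℂ) = p := by
  classical
  haveI : NeZero p := ⟨hM.1.ne_zero⟩
  obtain ⟨e⟩ : Nonempty (Fin w × ZMod p ≃ S) := Fintype.card_eq.1 (by
    rw [Fintype.card_prod, Fintype.card_fin, ZMod.card, Fintype.card_coe, hS, mul_comm])
  set ι := e.toEmbedding.trans (Function.Embedding.subtype _)
  have hsgn' : ∀ x : W, (Perm.viaEmbeddingHom ι).comp W.subtype x ∈ Aₙ := fun x => by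
    rw [Perm.mem_alternatingGroup, MonoidHom.comp_apply, Perm.viaEmbeddingHom_apply,
      Perm.viaEmbedding, Perm.sign_extendDomain]
    exact hsgn x x.2
  let F : W →* Aₙ := ((Perm.viaEmbeddingHom ι).comp W.subtype).codRestrict Aₙ hsgn'
  have hF : Function.Injective F := fun x y h' =>
    Subtype.ext (Perm.viaEmbeddingHom_injective ι (congrArg Subtype.val h' :))
  have hhP : h ∈ Subgroup.centralizer (F.range : Set Aₙ) := by
    rintro _ ⟨a, rfl⟩
    refine Subtype.ext (Perm.Disjoint.commute (fun x => ?_)).eq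
    by_cases hx : x ∈ S
    · exact Or.inr (hfix x hx)
    · refine Or.inl (Perm.viaEmbedding_apply_of_notMem _ ι x ?_)
      rintro ⟨y, rfl⟩
      exact hx (e y).2
  have hP : IsPGroup p F.range := hW.of_equiv (MonoidHom.ofInjective hF)
  obtain ⟨x, hx⟩ := le_defect_of_coeff hM hB hD hcoef hP hhP
  have hPc : Nat.card F.range = Nat.card W := (Nat.card_congr (MonoidHom.ofInjective hF).toEquiv).symm
  have heq := eq_of_le_of_card_le hx (by rw [card_map_conj, hPc, hcard])
  obtain ⟨φ, hdeg⟩ := hφ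
  let m : D ≃* W := ((D.equivMapOfInjective (MulAut.conj x).toMonoidHom
    (MulAut.conj x).injective).trans (MulEquiv.subgroupCongr heq.symm)).trans
    (MonoidHom.ofInjective hF).symm
  refine ⟨⟨_, (isIrrCharacter_comp_mulEquiv m).2 φ.2⟩, Eq.trans ?_ hdeg⟩
  simp [Cfsg.charDegree]

theorem le_hw (hp : p.Prime) {κ β : Finset ℤ} {w : ℕ} (h1 : ∀ x ∈ κ, 0 ≤ x)
    (h2 : ∀ x, ¬ Movable p κ x) (hβ : IsOver p κ w β) : w ≤ hw p β := by
  obtain ⟨h0, hc, -, hs⟩ := hβ
  rw [hw_eq_sum_pairs p, ← card_pairs_eq hp.pos h1 h2 h0 hc hs, Finset.card_eq_sum_ones]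
  refine Finset.sum_le_sum fun q hq => ?_
  obtain ⟨-, -, hlt, -, hd⟩ := mem_pairs.1 hq
  exact hp.factorization_pos_of_dvd (by omega) (Int.natCast_dvd.1 hd)

theorem fpm_of_lt (hp : p.Prime) {w : ℕ} (h : w < p) : fpm p w = w := by
  rw [fpm_eq hp, Nat.factorization_eq_zero_of_not_dvd fun hd => not_le.2 h (hp.dvd_factorial.1 hd),
    add_zero]

theorem isMulCommutative_of_card_le {K : Type*} [Group K] [Finite K] [Fact p.Prime] {D : Subgroup K}
    {e : ℕ} (hc : Nat.card D = p ^ e) (he : e ≤ 2) : IsMulCommutative D := by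
  interval_cases e
  · rw [pow_zero] at hc
    haveI : Subsingleton D := (Nat.card_eq_one_iff_unique.1 hc).1
    exact ⟨⟨fun a b => Subsingleton.elim _ _⟩⟩
  · rw [pow_one] at hc
    haveI := isCyclic_of_prime_card hc
    exact IsCyclic.isMulCommutative
  · exact IsPGroup.isMulCommutative_of_card_eq_prime_sq hc

/-- The least positive height and the least positive exponent in the defect group. -/
theorem height_one_or_none [Fact p.Prime] (hM : Cfsg.IsPModular p M)
    {B : Set (Cfsg.IrrCharacter Aₙ)} (hB : Cfsg.IsPBlock M B) {D : Subgroup Aₙ}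
    (hD : Cfsg.IsDefectGroup p M B D) :
    ((∃ χ : Cfsg.IrrCharacter Aₙ, χ ∈ B ∧ Cfsg.blockHeight p B (χ : Aₙ → ℂ) = 1) ∧
        ∃ φ : Cfsg.IrrCharacter D, Cfsg.charDegree (φ : D → ℂ) = p) ∨
      ((∀ χ : Cfsg.IrrCharacter Aₙ, χ ∈ B → Cfsg.blockHeight p B (χ : Aₙ → ℂ) = 0) ∧
        IsMulCommutative D) := by
  classical
  have hp := hM.1
  haveI : NeZero p := ⟨hp.ne_zero⟩
  set S := (fun ψ : Cfsg.IrrCharacter Aₙ => (Cfsg.charDegree (ψ : Aₙ → ℂ)).factorization p) '' B
    with hSdef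
  have hS : ∀ ψ : Cfsg.IrrCharacter Aₙ, Cfsg.blockHeight p B (ψ : Aₙ → ℂ) =
      (Cfsg.charDegree (ψ : Aₙ → ℂ)).factorization p - sInf S := fun ψ => rfl
  have hdef : Cfsg.blockDefect p B = (Nat.card Aₙ).factorization p - sInf S := rfl
  have hDc := card_defectGroup hM hB hD
  rcases subsingleton_or_nontrivial (Fin n) with hn1 | hn1
  · refine Or.inr ⟨fun ψ _ => ?_, ⟨⟨fun a b => Subsingleton.elim _ _⟩⟩⟩
    have h1 : Nat.card Aₙ = 1 := Nat.card_eq_one_iff_unique.2 ⟨inferInstance, ⟨1⟩⟩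
    have h2 := char_degree_dvd_card ψ
    rw [h1] at h2
    rw [hS, Nat.dvd_one.1 h2]
    simp
  obtain ⟨ψ0, hψ0⟩ := block_nonempty hM hB
  obtain ⟨a0, ha0, h0⟩ := exists_under_tuple ψ0
  obtain ⟨χ, ε, he, hc⟩ := id h0
  obtain ⟨w, r0, κ, hn, h1, h2, h3, h4⟩ := exists_core hp.pos (mem_incSt.1 ha0).1
  have hK : IsCore p n w r0 κ := ⟨hn, h1, h2, h4, card_eq_of_cntS (mem_incSt.1 ha0).2.injective h3⟩
  have hA := card_alt_factorization (n := n) p
  -- every member lies under a tuple of the class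
  have hmem : ∀ ψ ∈ B, ∃ a ∈ incSt n n, cnt p a = cntS p κ ∧
      (Cfsg.charDegree (ψ : Aₙ → ℂ)).factorization p + hw p (Finset.univ.image a) + lost p a =
        n.factorial.factorization p := fun ψ hψ => by
    obtain ⟨a, ha, hac, hu⟩ := exists_tuple_over hM hB ha0 hψ0 h0 hψ
    exact ⟨a, ha, hac.trans h3, under_factorization ha hu⟩
  rcases Nat.eq_zero_or_pos w with hw0 | hw0
  · -- weight zero
    have hsame : ∀ a ∈ incSt n n, cnt p a = cntS p κ → a = a0 := by
      intro a ha hac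
      have e1 : ∀ b ∈ incSt n n, cnt p b = cntS p κ → Finset.univ.image b = κ := fun b hb hbc => by
        obtain ⟨g1, g2, -, g4⟩ := hK.isOver hb hbc
        exact eq_of_sum hp.pos h1 h2 g1 g2 (by rw [g4, hw0]; simp)
      refine ((mem_incSt.1 ha).2.range_inj (mem_incSt.1 ha0).2).1 ?_
      simpa using congrArg (fun s : Finset ℤ => (s : Set ℤ))
        ((e1 a ha hac).trans (e1 a0 ha0 h3).symm)
    have hall : ∀ ψ ∈ B, (Cfsg.charDegree (ψ : Aₙ → ℂ)).factorization p + lost p a0 =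
        n.factorial.factorization p := fun ψ hψ => by
      obtain ⟨a, ha, hac, hv⟩ := hmem ψ hψ
      have hle := hK.hw_le_max hp ha hac
      rw [hsame a ha hac] at hv hle
      rw [show fpm p w = 0 by simp [fpm, hw0]] at hle
      omega
    have hinf : sInf S + lost p a0 = n.factorial.factorization p := by
      obtain ⟨ψ, hψ, he'⟩ := Nat.sInf_mem (s := S) ⟨_, Set.mem_image_of_mem _ hψ0⟩
      rw [← he']
      exact hall ψ hψ
    refine Or.inr ⟨fun ψ hψ => ?_, isMulCommutative_of_card_le hDc ?_⟩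
    · rw [hS]
      have := hall ψ hψ
      omega
    · have : lost p a0 ≤ 1 := by
        rw [lost]
        split_ifs
        · rcases eq_or_ne p 2 with rfl | h
          · rw [Nat.prime_two.factorization_self]
          · rw [factorization_two_of_ne hp h]; exact zero_le_one
        · exact zero_le_one
      omega
  -- positive weight
  have hup : ∀ a ∈ incSt n n, cnt p a = cntS p κ →
      hw p (Finset.univ.image a) + lost p a ≤ fpm p w := by
    intro a ha hac
    have hle := hK.hw_le_max hp ha hac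
    rw [lost]
    split_ifs with hs
    · rcases eq_or_ne p 2 with rfl | h
      · rw [Nat.prime_two.factorization_self]
        exact hK.hw_lt_max hw0 ha hac hs
      · rw [factorization_two_of_ne hp h]; omega
    · omega
  have hns : ∀ a : Fin n → ℤ, (p = 2 → star a ≠ a) → lost p a = 0 := fun a h => by
    rw [lost]
    split_ifs with hs
    · exact factorization_two_of_ne hp fun e => h e hs
    · rfl
  obtain ⟨am, ham, hamc, hamw, hams⟩ := hK.exists_max hp hw0
  obtain ⟨ψm, hψm, hum⟩ := exists_under_in_block hM hK hB ha0 h3 hψ0 h0 ham hamc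
  have hvm := under_factorization (p := p) ham hum
  rw [hamw, hns am hams, add_zero] at hvm
  have hinf : sInf S + fpm p w = n.factorial.factorization p := by
    rw [← hvm]
    refine congrArg (· + fpm p w) (le_antisymm (Nat.sInf_le (Set.mem_image_of_mem _ hψm))
      (le_csInf ⟨_, Set.mem_image_of_mem _ hψm⟩ ?_))
    rintro _ ⟨ψ, hψ, rfl⟩
    obtain ⟨a, ha, hac, hv⟩ := hmem ψ hψ
    have := hup a ha hac
    simp only
    omega
  have hbd : Cfsg.blockDefect p B + (2 : ℕ).factorization p = fpm p w := by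
    have hle : sInf S ≤ (Nat.card Aₙ).factorization p :=
      (Nat.sInf_le (Set.mem_image_of_mem _ hψm)).trans
        ((Nat.factorization_le_iff_dvd (charDegree_pos ψm).ne' Nat.card_pos.ne').2
          (char_degree_dvd_card ψm) p)
    omega
  have hzero : ∀ {a : Fin n → ℤ} {ψ : Cfsg.IrrCharacter Aₙ},
      (Cfsg.charDegree (ψ : Aₙ → ℂ)).factorization p + hw p (Finset.univ.image a) + lost p a =
        n.factorial.factorization p → hw p (Finset.univ.image a) + lost p a = fpm p w →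
      Cfsg.blockHeight p B (ψ : Aₙ → ℂ) = 0 := fun {a ψ} hv he' => by
    rw [hS]; omega
  obtain ⟨u, hu⟩ := exists_cycles hp hn
  have hne : (χ : Sₙ → ℂ) u ≠ 0 := by
    rw [he, Pi.smul_apply, smul_eq_mul]
    exact mul_ne_zero (fun e => irr_one_ne_zero χ.2 (by rw [he, e]; simp))
      (theta_ne_zero hp hn h1 h2 h4 ha0 h3 hu)
  by_cases hwp : w < p
  · -- elementary abelian defect group
    have hF := fpm_of_lt hp hwp
    refine Or.inr ⟨fun ψ hψ => ?_, ?_⟩
    · obtain ⟨a, ha, hac, hv⟩ := hmem ψ hψ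
      refine hzero hv ?_
      have := hup a ha hac
      have := le_hw hp h1 h2 (hK.isOver ha hac)
      omega
    rcases hp.eq_two_or_odd' with rfl | hodd
    · refine isMulCommutative_of_card_le hDc ?_
      omega
    obtain ⟨v, E, hv, hvA, hE, hQE⟩ := exists_span_le_odd hM hodd hB hψ0 hc hu hne
    have h2f : (2 : ℕ).factorization p = 0 :=
      factorization_two_of_ne hp fun e => by subst e; exact absurd hodd (by decide)
    have hQcard : Nat.card E ≤ Nat.card ((cycleSpan v).subgroupOf Aₙ) := by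
      rw [card_defectGroup hM hB hE, Nat.card_congr (Subgroup.subgroupOfEquivOfLe hvA).toEquiv]
      refine le_trans (le_of_eq ?_) (cycleSpan_card v)
      rw [hv, Multiset.prod_replicate, show Cfsg.blockDefect p B = w by omega]
    have hEQ := eq_of_le_of_card_le hQE hQcard
    obtain ⟨x, hx⟩ := exists_defectGroup_conj_eq hM hB hE hD
    refine ⟨⟨fun a b => ?_⟩⟩
    have key : ∀ y ∈ D, ∀ z ∈ D, y * z = z * y := by
      intro y hy z hz
      rw [hx, ← hEQ] at hy hz
      obtain ⟨y', hy', rfl⟩ := hy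
      obtain ⟨z', hz', rfl⟩ := hz
      rw [← map_mul, ← map_mul]
      exact congrArg _ (Subtype.ext (cycleSpan_comm v _ (Subgroup.mem_subgroupOf.1 hy') _
        (Subgroup.mem_subgroupOf.1 hz')))
    exact Subtype.ext (key a a.2 b b.2)
  rw [not_lt] at hwp
  by_cases hw2 : p = 2 ∧ w = 2
  · obtain ⟨rfl, rfl⟩ := hw2
    have hF : fpm 2 2 = 3 := by
      rw [fpm_eq Nat.prime_two, show (2 : ℕ).factorial = 2 by rfl, Nat.prime_two.factorization_self]
    refine Or.inr ⟨fun ψ hψ => ?_, isMulCommutative_of_card_le hDc ?_⟩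
    · obtain ⟨a, ha, hac, hv⟩ := hmem ψ hψ
      refine hzero hv ?_
      rw [hF, lost, Nat.prime_two.factorization_self]
      exact hK.hw_two ha hac
    · have := Nat.prime_two.factorization_self
      omega
  -- a character of height one
  have hw3 : p = 2 → 3 ≤ w := fun h => by omega
  obtain ⟨an, han, hanc, hanw, hans⟩ := hK.exists_next hp hwp hw3
  obtain ⟨ψn, hψn, hun⟩ := exists_under_in_block hM hK hB ha0 h3 hψ0 h0 han hanc
  have hvn := under_factorization (p := p) han hun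
  rw [hns an hans, add_zero] at hvn
  refine Or.inl ⟨⟨ψn, hψn, by rw [hS]; omega⟩, ?_⟩
  obtain ⟨h, T, hT, hfix, hcoef⟩ := exists_coeff_fix hM hB hψ0 hc hu hne
  rcases hp.eq_two_or_odd' with rfl | hodd
  · obtain ⟨W, hsgn, hW, hWc, hφ⟩ := exists_alt_group (hw3 rfl)
    refine defect_degree hM hB hD hT hfix hcoef hsgn hW ?_ hφ
    rw [hDc]
    rw [← hbd, Nat.prime_two.factorization_self, pow_succ] at hWc
    omega
  · obtain ⟨W, hW, hWc, hφ⟩ := exists_sym_group (p := p) hwp
    refine defect_degree hM hB hD hT hfix hcoef (fun x hx => ?_) hW ?_ hφ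
    · obtain ⟨k, hk⟩ := hW ⟨x, hx⟩
      have h1' : x ^ p ^ k = 1 := congrArg Subtype.val hk
      have h2' := congrArg Perm.sign h1'
      rw [map_pow, map_one] at h2'
      rcases Int.units_eq_one_or (Perm.sign x) with e | e
      · exact e
      · rw [e, (hodd.pow (n := k)).neg_one_pow] at h2'
        exact e.trans h2'
    · rw [hDc, hWc, ← hbd, factorization_two_of_ne hp fun e => by
        subst e; exact absurd hodd (by decide), add_zero]

end Cfsg.Agent.SymRank
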