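import Cfsg.Agent.Lib.Blocks.SymRank.AltChars
import Cfsg.Agent.Lib.Blocks.CentralDefect

/-!
# Blocks of the alternating groups have rank less than `p ^ s`
-/

set_option linter.style.haveILetI false

namespace Cfsg.Agent.SymRank

open Equiv Cfsg.Agent.Characters Cfsg.Agent.Blocks Cfsg.Agent.BlockCharsA.NormalSupport
open Cfsg.Agent.CharTheory
open scoped ComplexConjugate

variable {n p : ℕ} {M : Ideal Cfsg.AlgInt}

local notation "Sₙ" => Perm (Fin n)
local notation "Aₙ" => alternatingGroup (Fin n)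

/-- An elementary abelian subgroup of a defect group, up to conjugation, is small. -/
theorem card_le_of_le_conj {K : Type*} [Group K] [Finite K] {D Q : Subgroup K} {s : ℕ}
    (hs : Cfsg.SectionalPRankLE p s D) (hQc : ∀ a ∈ Q, ∀ b ∈ Q, a * b = b * a)
    (hQp : ∀ a ∈ Q, a ^ p = 1) {x : K} (hle : Q ≤ D.map (MulAut.conj x).toMonoidHom) :
    Nat.card Q ≤ p ^ s := by
  have h2 : Q.map (MulAut.conj x⁻¹).toMonoidHom ≤ D :=
    map_conj_le_iff.2 (by rwa [inv_inv])
  refine le_trans ?_ (card_elementary_le hs ((Q.map (MulAut.conj x⁻¹).toMonoidHom).subgroupOf D)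
    ⟨⟨fun a b => ?_⟩⟩ fun a ha => ?_)
  · rw [Nat.card_congr (Subgroup.subgroupOfEquivOfLe h2).toEquiv,
      Subgroup.card_map_of_injective (MulEquiv.injective _)]
  · obtain ⟨a', ha', hae⟩ := Subgroup.mem_subgroupOf.1 a.2
    obtain ⟨b', hb', hbe⟩ := Subgroup.mem_subgroupOf.1 b.2
    refine Subtype.ext (Subtype.ext ?_)
    simp only [Subgroup.coe_mul, ← hae, ← hbe, ← map_mul, hQc a' ha' b' hb']
  · obtain ⟨a', ha', hae⟩ := Subgroup.mem_subgroupOf.1 ha
    refine Subtype.ext ?_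
    rw [SubmonoidClass.coe_pow, ← hae, ← map_pow, hQp a' ha', map_one]
    rfl

/-- Where a character over a block does not vanish, so does the block, up to conjugation. -/
theorem exists_value_conj (hM : Cfsg.IsPModular p M) {B : Set (Cfsg.IrrCharacter Aₙ)}
    (hB : Cfsg.IsPBlock M B) {χ : Cfsg.IrrCharacter Sₙ} {ψ0 : Cfsg.IrrCharacter Aₙ} (hψ0 : ψ0 ∈ B)
    (hc : Cfsg.classInner (fun x : Aₙ => (χ : Sₙ → ℂ) x) (ψ0 : Aₙ → ℂ) ≠ 0)
    {u : Sₙ} (hu : u ∈ Aₙ) (hne : (χ : Sₙ → ℂ) u ≠ 0) :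
    ∃ θ ∈ B, ∃ (g : Sₙ) (v : Aₙ), (v : Sₙ) = g * u * g⁻¹ ∧ (θ : Aₙ → ℂ) v ≠ 0 := by
  classical
  haveI := Fintype.ofFinite (Cfsg.IrrCharacter Aₙ)
  have hexp := congrFun (classFun_eq_sum (char_isClassFunction
    (isCharacter_restrict Aₙ (irr_isCharacter χ)))) ⟨u, hu⟩
  change (χ : Sₙ → ℂ) u = _ at hexp
  rw [hexp, Finset.sum_apply] at hne
  obtain ⟨θ, -, hθ⟩ := Finset.exists_ne_zero_of_sum_ne_zero hne
  rw [Pi.smul_apply, smul_eq_mul] at hθ
  obtain ⟨g, hg⟩ := constituents_conj_block hM (sameBlock_refl hM (χ : Sₙ → ℂ))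
    (left_ne_zero_of_mul hθ) hc
  refine ⟨conjIrr g θ, mem_of_sameBlock hM hB hψ0 (sameBlock_symm hM hg), g⁻¹,
    ⟨g⁻¹ * u * g⁻¹⁻¹, (inferInstance : (Aₙ).Normal).conj_mem u hu g⁻¹⟩, rfl, ?_⟩
  rw [coe_conjIrr, Clifford.conjBy_apply]
  refine fun e => right_ne_zero_of_mul hθ (Eq.trans ?_ e)
  exact congrArg _ (Subtype.ext (by simp [mul_assoc]))

theorem mem_of_pow_odd {u : Sₙ} {k : ℕ} (hk : Odd k) (h : u ^ k = 1) : u ∈ Aₙ := by
  rw [Perm.mem_alternatingGroup]
  have h1 := congrArg Perm.sign h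
  rw [map_pow, map_one] at h1
  rcases Int.units_eq_one_or (Perm.sign u) with e | e
  · exact e
  · rw [e, hk.neg_one_pow] at h1
    exact e.trans h1

/-- For odd `p`, the rank of a defect group is at least the weight. -/
theorem weight_le_odd [Fact p.Prime] (hM : Cfsg.IsPModular p M) (hpo : Odd p)
    {B : Set (Cfsg.IrrCharacter Aₙ)} (hB : Cfsg.IsPBlock M B) {D : Subgroup Aₙ}
    (hD : Cfsg.IsDefectGroup p M B D) {s : ℕ} (hs : Cfsg.SectionalPRankLE p s D)
    {χ : Cfsg.IrrCharacter Sₙ} {ψ0 : Cfsg.IrrCharacter Aₙ} (hψ0 : ψ0 ∈ B)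
    (hc : Cfsg.classInner (fun x : Aₙ => (χ : Sₙ → ℂ) x) (ψ0 : Aₙ → ℂ) ≠ 0)
    {w : ℕ} {u : Sₙ} (hu : u.cycleType = Multiset.replicate w p) (hne : (χ : Sₙ → ℂ) u ≠ 0) :
    w ≤ s := by
  classical
  obtain ⟨k, hk⟩ := orderOf_of_cycleType hM.1 hu
  have huA : u ∈ Aₙ := mem_of_pow_odd (hpo.pow (n := k)) (hk ▸ pow_orderOf_eq_one u)
  obtain ⟨θ, hθ, g, v, hv, hvne⟩ := exists_value_conj hM hB hψ0 hc huA hne
  have hv' : (v : Sₙ).cycleType = Multiset.replicate w p := by rw [hv, Perm.cycleType_conj, hu]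
  have hspan : cycleSpan (v : Sₙ) ≤ Aₙ := fun a ha => mem_of_pow_odd hpo (cycleSpan_pow hv' ha)
  set Q := (cycleSpan (v : Sₙ)).subgroupOf Aₙ with hQ
  have hQp : ∀ a ∈ Q, a ^ p = 1 := fun a ha => Subtype.ext (by
    rw [SubmonoidClass.coe_pow, cycleSpan_pow hv' (Subgroup.mem_subgroupOf.1 ha)]; rfl)
  obtain ⟨E, hE, hQE⟩ := le_defect_of_value hM hB hθ (u := v) (by
      rw [← Subgroup.orderOf_coe]; exact orderOf_of_cycleType hM.1 hv') hvne (Q := Q)
    (fun a ha => Subgroup.mem_centralizer_singleton_iff.2 (Subtype.ext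
      (Subgroup.mem_centralizer_singleton_iff.1
        (cycleSpan_le_centralizer _ (Subgroup.mem_subgroupOf.1 ha)))))
    (⟨fun a ha b => by
      rw [Subgroup.mem_subgroupOf, Subgroup.mem_subgroupOf] at ha ⊢
      have hb : (b : Aₙ).1 ∈ Subgroup.centralizer ({(v : Sₙ)} : Set Sₙ) :=
        Subgroup.mem_centralizer_singleton_iff.2
          (congrArg Subtype.val (Subgroup.mem_centralizer_singleton_iff.1 b.2))
      exact (cycleSpan_normal (v : Sₙ)).conj_mem
        ⟨_, cycleSpan_le_centralizer _ ha⟩ ha ⟨_, hb⟩⟩)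
    (fun a => ⟨1, by rw [pow_one]; exact Subtype.ext (hQp a a.2)⟩)
  obtain ⟨x, hx⟩ := exists_defectGroup_conj_eq hM hB hD hE
  have hcard := card_le_of_le_conj hs (Q := Q) (fun a ha b hb => Subtype.ext
    (show (a : Sₙ) * (b : Sₙ) = (b : Sₙ) * (a : Sₙ) from
      cycleSpan_comm (v : Sₙ) _ (Subgroup.mem_subgroupOf.1 ha) _ (Subgroup.mem_subgroupOf.1 hb))) hQp
    (hQE.trans hx.le)
  refine (Nat.pow_le_pow_iff_right hM.1.one_lt).1 (le_trans ?_ hcard)
  rw [Nat.card_congr (Subgroup.subgroupOfEquivOfLe hspan).toEquiv]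
  refine le_trans (le_of_eq ?_) (cycleSpan_card (v : Sₙ))
  rw [hv', Multiset.prod_replicate]

/-! ## The prime two -/

theorem card_klein : Nat.card (ZMod 2 × ZMod 2) = 4 := by simp

theorem sign_addRight : ∀ a : ZMod 2 × ZMod 2, Perm.sign (Equiv.addRight a) = 1 := by decide

/-- An elementary abelian group of even permutations on the image of an embedding. -/
theorem exists_klein {m : ℕ} (ι : Fin m × (ZMod 2 × ZMod 2) ↪ Fin n) :
    ∃ Q : Subgroup Aₙ, (∀ a ∈ Q, ∀ b ∈ Q, a * b = b * a) ∧ (∀ a ∈ Q, a ^ 2 = 1) ∧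
      Nat.card Q = 4 ^ m ∧ ∀ a ∈ Q, ∀ x ∉ Set.range ι, (a : Sₙ) x = x := by
  classical
  let f : Multiplicative (Fin m → ZMod 2 × ZMod 2) →* Perm (Fin m × (ZMod 2 × ZMod 2)) :=
    { toFun := fun t => Equiv.prodCongrRight fun i => Equiv.addRight (t.toAdd i)
      map_one' := by ext x <;> simp
      map_mul' := fun t t' => by ext x <;> simp [add_comm, add_left_comm] }
  have hsign : ∀ t, Perm.sign (Perm.viaEmbeddingHom ι (f t)) = 1 := fun t => by
    rw [Perm.viaEmbeddingHom_apply, Perm.viaEmbedding, Perm.sign_extendDomain]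
    change Perm.sign (Equiv.prodCongrRight fun i => Equiv.addRight (t.toAdd i)) = 1
    rw [Perm.sign_prodCongrRight]
    exact Finset.prod_eq_one fun i _ => sign_addRight _
  let F : Multiplicative (Fin m → ZMod 2 × ZMod 2) →* Aₙ :=
    ((Perm.viaEmbeddingHom ι).comp f).codRestrict Aₙ fun t => Perm.mem_alternatingGroup.2 (hsign t)
  have hF : Function.Injective F := by
    intro t t' h
    have h1 : f t = f t' := Perm.viaEmbeddingHom_injective ι (congrArg Subtype.val h :)
    refine Multiplicative.toAdd.injective (funext fun i => ?_)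
    have := congrArg Prod.snd (Equiv.ext_iff.1 h1 (i, 0))
    simpa [f] using this
  refine ⟨F.range, ?_, ?_, ?_, ?_⟩
  · rintro _ ⟨a, rfl⟩ _ ⟨b, rfl⟩
    rw [← map_mul, ← map_mul, mul_comm]
  · rintro _ ⟨a, rfl⟩
    rw [← map_pow, sq, show a * a = 1 from Multiplicative.toAdd.injective (funext fun i => by
      simp only [toAdd_mul, toAdd_one, Pi.add_apply, Pi.zero_apply]
      generalize a.toAdd i = z
      revert z
      decide), map_one]
  · rw [← Nat.card_congr (MonoidHom.ofInjective hF).toEquiv,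
      Nat.card_congr Multiplicative.toAdd, Nat.card_fun, card_klein, Nat.card_fin]
  · rintro _ ⟨t, rfl⟩ x hx
    exact Perm.viaEmbedding_apply_of_notMem _ ι x hx

/-- An element of odd order commuting with a transposition fixes its points. -/
theorem fix_of_commute {g0 u : Sₙ} {w : ℕ} (hu : u.cycleType = Multiset.replicate w 2)
    (hodd : ¬ 2 ∣ orderOf g0) (hcomm : ∀ c ∈ cycleSpan u, c * g0 = g0 * c) :
    ∀ x ∈ u.support, g0 x = x := by
  classical
  intro x hx
  set c := u.cycleOf x with hc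
  have hcm : c ∈ u.cycleFactorsFinset := Perm.cycleOf_mem_cycleFactorsFinset_iff.2 hx
  have hcard : c.support.card = 2 := by
    refine Multiset.eq_of_mem_replicate (n := w) ?_
    rw [← hu, Perm.cycleType_def]
    exact Multiset.mem_map_of_mem _ hcm
  obtain ⟨a, b, hab, habs⟩ := Perm.card_support_eq_two.1 hcard
  have hcomm' : ∀ y, c (g0 y) = g0 (c y) := fun y =>
    Equiv.congr_fun (hcomm c (Subgroup.subset_closure hcm)) y
  have hxs : c x ≠ x := Perm.mem_support.1
    (Perm.mem_support_cycleOf_iff.2 ⟨Perm.SameCycle.refl _ _, hx⟩)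
  have key : ∀ y, c y ≠ y → g0 (g0 y) = y := by
    intro y hy
    have hy' : c (g0 y) ≠ g0 y := by rw [hcomm']; exact fun e => hy (g0.injective e)
    have hy'' : c (g0 (g0 y)) ≠ g0 (g0 y) := by rw [hcomm']; exact fun e => hy' (g0.injective e)
    rw [habs] at hy hy' hy''
    have hm : ∀ z, swap a b z ≠ z → z = a ∨ z = b := fun z hz => by
      by_contra hne
      rw [not_or] at hne
      exact hz (swap_apply_of_ne_of_ne hne.1 hne.2)
    by_cases h1 : g0 y = y
    · rw [h1, h1]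
    have h2 : g0 (g0 y) ≠ g0 y := fun e => h1 (g0.injective e)
    rcases hm y hy with e0 | e0 <;> rcases hm _ hy' with e1 | e1 <;>
      rcases hm _ hy'' with e2 | e2 <;> first
        | exact e2.trans e0.symm
        | exact absurd (e1.trans e0.symm) h1
        | exact absurd (e2.trans e1.symm) h2
  obtain ⟨k, hk⟩ := exists_pow_eq_self_of_coprime (show (2 : ℕ).Coprime (orderOf g0) from
    Nat.prime_two.coprime_iff_not_dvd.2 hodd)
  rw [← hk]
  exact Perm.pow_apply_eq_self_of_apply_eq_self (by rw [sq, Perm.mul_apply]; exact key x hxs) k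

/-- For `p = 2` some conjugate of the block has a unit coefficient at an element fixing `2 w`
points. -/
theorem exists_coeff (hM : Cfsg.IsPModular 2 M) [Nontrivial (Fin n)]
    {B : Set (Cfsg.IrrCharacter Aₙ)} (hB : Cfsg.IsPBlock M B) {χ : Cfsg.IrrCharacter Sₙ}
    {ψ0 : Cfsg.IrrCharacter Aₙ} (hψ0 : ψ0 ∈ B)
    (hc : Cfsg.classInner (fun x : Aₙ => (χ : Sₙ → ℂ) x) (ψ0 : Aₙ → ℂ) ≠ 0)
    {w : ℕ} {u : Sₙ} (hu : u.cycleType = Multiset.replicate w 2) (hne : (χ : Sₙ → ℂ) u ≠ 0) :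
    ∃ (h : Aₙ) (S : Finset (Fin n)), S.card = 2 * w ∧ (∀ x ∈ S, (h : Sₙ) x = x) ∧
      ¬ Cfsg.MemLocalIdeal M (Cfsg.blockCoeff B h) := by
  classical
  haveI := fact_prime_of_pm hM
  have hidx : ∃ k : ℕ, (Aₙ).index = 2 ^ k := ⟨1, by rw [alternatingGroup.index_eq_two, pow_one]⟩
  set BS := Cfsg.blockOf M (χ : Sₙ → ℂ)
  have hBS : Cfsg.IsPBlock M BS := isPBlock_blockOf M χ
  obtain ⟨E, hE, hle⟩ := exists_cycleSpan_le hM hBS (mem_blockOf_self hM χ) hu hne
  obtain ⟨g0, hg0, P, hEP⟩ := hE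
  have hreg := defectClass_regular hM hBS hg0
  have hfix : ∀ x ∈ u.support, g0 x = x := fix_of_commute hu hreg fun c hc => by
    have := hle hc
    rw [hEP] at this
    obtain ⟨y, -, hy⟩ := this
    rw [← hy]
    exact Subgroup.mem_centralizer_singleton_iff.1 y.2
  have hgA : g0 ∈ Aₙ := mem_of_regular hM.1 hidx hreg
  set e := blockIdem BS with he
  have hsupp : BlockCharsA.NormalSupport.push Aₙ (res Aₙ e) = e := push_res fun g hg => by
    rw [he, coeff_blockIdem]
    refine blockCoeff_eq_zero_of_singular hM (intEl_blockIdem hM hBS) ?_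
    by_contra hr
    exact hg (mem_of_regular hM.1 hidx hr)
  have hinv : IsInvEl (res Aₙ e) := isInvEl_res (central_blockIdem _)
  obtain ⟨i, j, hij⟩ := exists_pair_ne (Fin n)
  set σ := Equiv.swap i j with hσ
  have hσA : σ ∉ Aₙ := by
    rw [Perm.mem_alternatingGroup, Perm.sign_swap hij]
    decide
  have hσσ : ∀ θ : Cfsg.IrrCharacter Aₙ, conjIrr σ (conjIrr σ θ) = θ := fun θ => by
    rw [conjIrr_conjIrr, hσ, Equiv.swap_mul_self, conjIrr_one]
  set C : Set (Cfsg.IrrCharacter Aₙ) := {θ | θ ∈ B ∨ conjIrr σ θ ∈ B} with hC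
  have hzC : res Aₙ e = blockIdem C := by
    refine central_omega_ext (central_of_isInvEl hinv) (central_blockIdem C) fun θ => ?_
    obtain ⟨χ', hχ'⟩ := exists_over θ
    rw [omega_blockIdem, ← omega_push_eq χ' θ hχ' hinv, hsupp, he, omega_blockIdem]
    have hiff : χ' ∈ BS ↔ θ ∈ C := by
      refine ⟨fun hm => ?_, fun hm => ?_⟩
      · obtain ⟨g, hg⟩ := constituents_conj_block hM (sameBlock_symm hM hm) hχ' hc
        have hmem := mem_of_sameBlock hM hB hψ0 (sameBlock_symm hM hg)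
        by_cases hgA' : g ∈ Aₙ
        · left
          rwa [show conjIrr g θ = θ from
            Subtype.ext (conjBy_of_mem (irr_isClassFunction θ) hgA')] at hmem
        · right
          rwa [show conjIrr g θ = conjIrr σ θ from
            Subtype.ext (conjBy_of_notMem (irr_isClassFunction θ) hσA hgA')] at hmem
      · rcases hm with hm | hm
        · exact sameBlock_of_covers_same hM hidx hc hχ' (sameBlock_of_mem hM hB hψ0 hm)
        · exact sameBlock_of_covers_same hM hidx hc (χ' := χ') (θ' := conjIrr σ θ)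
            (by rwa [constituent_conjIrr]) (sameBlock_of_mem hM hB hψ0 hm)
    by_cases hm : θ ∈ C
    · rw [if_pos (hiff.2 hm), if_pos hm]
    · rw [if_neg fun h => hm (hiff.1 h), if_neg hm]
  have hcoef : ¬ Cfsg.MemLocalIdeal M (Cfsg.blockCoeff C (⟨g0, hgA⟩ : Aₙ)) := by
    rw [← coeff_blockIdem, ← hzC, coeff_res]
    show ¬ Cfsg.MemLocalIdeal M ((blockIdem BS).coeff g0)
    rw [coeff_blockIdem]
    exact hg0.2.1
  haveI := Fintype.ofFinite (Cfsg.IrrCharacter Aₙ)
  set h' : Aₙ := ⟨σ * g0 * σ⁻¹, (inferInstance : (Aₙ).Normal).conj_mem g0 hgA σ⟩ with hh'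
  have hmirror : Cfsg.blockCoeff {θ | conjIrr σ θ ∈ B} (⟨g0, hgA⟩ : Aₙ) =
      Cfsg.blockCoeff B h' := by
    rw [blockCoeff_eq_sum, blockCoeff_eq_sum]
    congr 1
    refine Fintype.sum_bijective (conjIrr σ) (Function.Involutive.bijective hσσ) _ _ fun θ => ?_
    refine if_congr Iff.rfl ?_ rfl
    rw [coe_conjIrr, Clifford.conjBy_at_one, Clifford.conjBy_apply]
    congr 2
    refine congrArg _ (Subtype.ext ?_)
    simp only [hh', hσ, Equiv.swap_inv]
    rw [show ∀ x : Sₙ, σ * (σ * x * σ) * σ = (σ * σ) * x * (σ * σ) from fun x => by group,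
      hσ, Equiv.swap_mul_self, one_mul, mul_one]
  have hres : ¬ Cfsg.MemLocalIdeal M (Cfsg.blockCoeff B (⟨g0, hgA⟩ : Aₙ)) ∨
      ¬ Cfsg.MemLocalIdeal M (Cfsg.blockCoeff B h') := by
    by_contra hh
    rw [not_or, not_not, not_not] at hh
    refine hcoef ?_
    by_cases hmeet : ∃ θ ∈ B, conjIrr σ θ ∈ B
    · obtain ⟨θ, hθ, hθ'⟩ := hmeet
      have hCB : C = B := Set.ext fun φ => ⟨fun hφ => hφ.elim id fun hφ => by
        have := mem_of_sameBlock hM hB hθ' (sameBlock_conjIrr σ (sameBlock_of_mem hM hB hθ hφ))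
        rwa [hσσ] at this, Or.inl⟩
      rw [hCB]
      exact hh.1
    · push Not at hmeet
      have hsplit : Cfsg.blockCoeff C (⟨g0, hgA⟩ : Aₙ) = Cfsg.blockCoeff B (⟨g0, hgA⟩ : Aₙ) +
          Cfsg.blockCoeff {θ | conjIrr σ θ ∈ B} (⟨g0, hgA⟩ : Aₙ) := by
        rw [blockCoeff_eq_sum, blockCoeff_eq_sum, blockCoeff_eq_sum, ← mul_add,
          ← Finset.sum_add_distrib]
        congr 1
        refine Finset.sum_congr rfl fun θ _ => ?_
        by_cases h1 : θ ∈ B
        · have h2 := hmeet θ h1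
          simp [C, h1, h2]
        · simp [C, h1]
      rw [hsplit, hmirror]
      exact ideal_add hM hh.1 hh.2
  have hS : u.support.card = 2 * w := by
    rw [← Perm.sum_cycleType, hu, Multiset.sum_replicate, smul_eq_mul, mul_comm]
  rcases hres with h | h
  · exact ⟨_, u.support, hS, hfix, h⟩
  · refine ⟨h', u.support.map σ.toEmbedding, by rw [Finset.card_map, hS], fun x hx => ?_, h⟩
    obtain ⟨y, hy, rfl⟩ := Finset.mem_map.1 hx
    simp [hh', hfix y hy]

/-- For `p = 2` the rank of a defect group is at least twice half the weight. -/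
theorem weight_le_two (hM : Cfsg.IsPModular 2 M) [Nontrivial (Fin n)]
    {B : Set (Cfsg.IrrCharacter Aₙ)} (hB : Cfsg.IsPBlock M B) {D : Subgroup Aₙ}
    (hD : Cfsg.IsDefectGroup 2 M B D) {s : ℕ} (hs : Cfsg.SectionalPRankLE 2 s D)
    {χ : Cfsg.IrrCharacter Sₙ} {ψ0 : Cfsg.IrrCharacter Aₙ} (hψ0 : ψ0 ∈ B)
    (hc : Cfsg.classInner (fun x : Aₙ => (χ : Sₙ → ℂ) x) (ψ0 : Aₙ → ℂ) ≠ 0)
    {w : ℕ} {u : Sₙ} (hu : u.cycleType = Multiset.replicate w 2) (hne : (χ : Sₙ → ℂ) u ≠ 0) :
    2 * (w / 2) ≤ s := by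
  classical
  obtain ⟨h, S, hS, hfix, hcoef⟩ := exists_coeff hM hB hψ0 hc hu hne
  obtain ⟨ι⟩ : Nonempty (Fin (w / 2) × (ZMod 2 × ZMod 2) ↪ S) := by
    refine Function.Embedding.nonempty_of_card_le ?_
    rw [Fintype.card_prod, Fintype.card_prod, ZMod.card, Fintype.card_fin, Fintype.card_coe, hS]
    omega
  obtain ⟨Q, hQc, hQp, hQn, hQf⟩ := exists_klein (ι.trans (Function.Embedding.subtype _))
  have hhQ : h ∈ Subgroup.centralizer (Q : Set Aₙ) := by
    intro a ha
    refine Subtype.ext (Perm.Disjoint.commute (fun x => ?_)).eq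
    by_cases hx : x ∈ S
    · exact Or.inr (hfix x hx)
    · refine Or.inl (hQf a ha x ?_)
      rintro ⟨y, rfl⟩
      exact hx (ι y).2
  obtain ⟨x, hx⟩ := le_defect_of_coeff hM hB hD hcoef (Q := Q)
    (fun a => ⟨1, by rw [pow_one]; exact Subtype.ext (hQp a a.2)⟩) hhQ
  have hcard := card_le_of_le_conj hs hQc hQp hx
  rw [hQn, show (4 : ℕ) ^ (w / 2) = 2 ^ (2 * (w / 2)) by rw [pow_mul]; norm_num] at hcard
  exact (Nat.pow_le_pow_iff_right one_lt_two).1 hcard

/-- In weight zero a symmetric tuple gives a block of trivial defect. -/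
theorem defect_eq_bot [Nontrivial (Fin n)] (hM : Cfsg.IsPModular 2 M)
    {B : Set (Cfsg.IrrCharacter Aₙ)} (hB : Cfsg.IsPBlock M B) {D : Subgroup Aₙ}
    (hD : Cfsg.IsDefectGroup 2 M B D) {a : Fin n → ℤ} (ha : a ∈ incSt n n) (hs : star a = a)
    {κ : Finset ℤ} (h1 : ∀ x ∈ κ, 0 ≤ x) (h2 : ∀ x, ¬ Movable 2 κ x)
    (h4 : ∑ x ∈ κ, x = (n : ℤ) + off n) (h3 : cnt 2 a = cntS 2 κ)
    {χ : Cfsg.IrrCharacter Sₙ} {ε : ℂ} (he : (χ : Sₙ → ℂ) = ε • theta n a)
    {ψ : Cfsg.IrrCharacter Aₙ} (hψ : ψ ∈ B)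
    (hc : Cfsg.classInner (resA n (χ : Sₙ → ℂ)) (ψ : Aₙ → ℂ) ≠ 0) : D = ⊥ := by
  classical
  haveI := fact_prime_of_pm hM
  have himg : ∀ b ∈ incSt n n, cnt 2 b = cntS 2 κ → Finset.univ.image b = κ := fun b hb hbc => by
    obtain ⟨⟨h0, hinj, hsum⟩, -⟩ := mem_incSt.1 hb
    refine closed_unique two_pos (image_nonneg h0) h1 (fun x hx => ?_) h2
      (by rw [cntS_image 2 hinj, hbc])
    obtain ⟨t, ht⟩ := exists_weight two_pos h1 h2 _ _ (nonneg_down 2 hx (image_nonneg h0))
      (by rw [cntS_down 2 hx, cntS_image 2 hinj, hbc]) rfl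
    rw [sum_down 2 hx, sum_image' hinj, hsum, h4] at ht
    omega
  have hsingle : coreClass 2 n (cnt 2 a) = {χ} := by
    refine Set.eq_singleton_iff_unique_mem.2 ⟨⟨a, ε, ha, rfl, he⟩, ?_⟩
    rintro χ' ⟨b, ε', hb, hbc, he'⟩
    have hba : b = a := by
      refine ((mem_incSt.1 hb).2.range_inj (mem_incSt.1 ha).2).1 ?_
      have := (himg b hb (hbc.trans h3)).trans (himg a ha h3).symm
      simpa using congrArg (fun s : Finset ℤ => (s : Set ℤ)) this
    subst hba
    by_contra hne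
    have hh := classInner_irr χ' χ
    rw [if_neg hne, he, he', classInner_smul_left, classInner_smul_right, classInner_theta,
      gram_eq n b b (mem_incSt.1 ha).1 (mem_incSt.1 ha).1, del_self (mem_incSt.1 ha).2.injective] at hh
    rcases mul_eq_zero.1 hh with e | e
    · exact irr_one_ne_zero χ'.2 (by rw [he', e]; simp)
    rcases mul_eq_zero.1 e with e | e
    · exact irr_one_ne_zero χ.2 (by rw [he, (map_eq_zero _).1 e]; simp)
    · simp at e
  have hint : IntEl M (blockIdem ({χ} : Set (Cfsg.IrrCharacter Sₙ))) :=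
    hsingle ▸ intEl_coreClass hM (cnt 2 a)
  have hvan : ∀ y : Sₙ, 2 ∣ orderOf y → (χ : Sₙ → ℂ) y = 0 := fun y hy => by
    have h := blockCoeff_eq_zero_of_singular hM hint hy
    rw [Cfsg.blockCoeff, finsum_mem_singleton] at h
    simpa [natCard_ne_zero, irr_one_ne_zero χ.2] using h
  obtain ⟨P⟩ : Nonempty (Sylow 2 Sₙ) := inferInstance
  have hdvd : Nat.card (P : Subgroup Sₙ) ∣ Cfsg.charDegree (χ : Sₙ → ℂ) := by
    refine dvd_of_isIntegral_div Nat.card_pos.ne' ?_
    have h := avg_coset_isIntegral (y := 1) (D := (P : Subgroup Sₙ)) (Subgroup.one_mem _)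
      (irr_isCharacter χ)
    rw [Finset.sum_eq_single (1 : (P : Subgroup Sₙ)) (fun t _ ht => ?_) (by simp),
      OneMemClass.coe_one, mul_one] at h
    · rwa [charDegree_cast, div_eq_inv_mul]
    · rw [one_mul]
      refine hvan _ ?_
      obtain ⟨k, hk⟩ := IsPGroup.iff_orderOf.1 P.isPGroup' t
      rw [Subgroup.orderOf_coe, hk]
      exact dvd_pow_self 2 fun hk0 => ht (orderOf_eq_one_iff.1 (by rw [hk, hk0, pow_zero]))
  rw [P.card_eq_multiplicity] at hdvd
  have hpos := charDegree_pos ψ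
  have hdeg : Cfsg.charDegree (χ : Sₙ → ℂ) = 2 * Cfsg.charDegree (ψ : Aₙ → ℂ) := by
    have h := degree_of_eq ha hs he hc
    rw [← charDegree_cast, ← charDegree_cast] at h
    exact_mod_cast h
  rw [hdeg, Nat.prime_two.pow_dvd_iff_le_factorization (by omega),
    Nat.factorization_mul two_ne_zero hpos.ne', Finsupp.add_apply,
    Nat.prime_two.factorization_self] at hdvd
  have hSA : (Nat.card Sₙ).factorization 2 = 1 + (Nat.card Aₙ).factorization 2 := by
    rw [Nat.card_eq_fintype_card, Nat.card_eq_fintype_card, ← two_mul_card_alternatingGroup,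
      Nat.factorization_mul two_ne_zero Fintype.card_ne_zero, Finsupp.add_apply,
      Nat.prime_two.factorization_self]
  have hle : (Cfsg.charDegree (ψ : Aₙ → ℂ)).factorization 2 ≤ (Nat.card Aₙ).factorization 2 :=
    (Nat.factorization_le_iff_dvd hpos.ne' Nat.card_pos.ne').2 (char_degree_dvd_card ψ) 2
  have hbot := isDefectGroup_of_full_degree hM (D := (⊥ : Subgroup Aₙ)) IsPGroup.of_bot bot_le ψ
    (by rw [Subgroup.index_bot]; omega)
  rw [← block_eq_blockOf hM hB hψ] at hbot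
  obtain ⟨x, hx⟩ := exists_defectGroup_conj_eq hM hB hbot hD
  rw [hx, Subgroup.map_bot]

/-- A block of an alternating group with nontrivial defect group has rank less than `p ^ s`. -/
theorem altRank_lt [Fact p.Prime] (hM : Cfsg.IsPModular p M)
    {B : Set (Cfsg.IrrCharacter Aₙ)} (hB : Cfsg.IsPBlock M B) {D : Subgroup Aₙ}
    (hD : Cfsg.IsDefectGroup p M B D) (hD1 : D ≠ ⊥) {s : ℕ}
    (hs : Cfsg.SectionalPRankLE p s D) : Cfsg.blockRank p B < p ^ s := by
  classical
  have hp := hM.1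
  haveI : NeZero p := ⟨hp.ne_zero⟩
  rcases subsingleton_or_nontrivial (Fin n) with hn1 | hn1
  · exact absurd (Subsingleton.elim D ⊥) hD1
  obtain ⟨ψ0, hψ0⟩ := block_nonempty hM hB
  obtain ⟨a0, ha0, h0⟩ := exists_under_tuple ψ0
  obtain ⟨χ, ε, he, hc⟩ := id h0
  have hε : ε ≠ 0 := fun e => irr_one_ne_zero χ.2 (by rw [he, e]; simp)
  obtain ⟨w, r0, κ, hn, h1, h2, h3, h4⟩ := exists_core hp.pos (mem_incSt.1 ha0).1
  have hs1 : 1 ≤ s := one_le_rank (isPGroup_defect hD) hD1 hs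
  set T := fun r : ZMod p => (gapless p n r (cnt p a0)).card with hT
  have hT' : ∀ r, T r ≤ if w = 0 then 1 else (p - 1) * p ^ (w - 1) := fun r => by
    simp only [T, h3]
    exact gapless_card_le r hn h1 h2 h4
  have hF : (selfSet p n (cnt p a0)).card ≤ symBound p w := h3 ▸ selfSet_card_le hp hn h1 h2 h4
  obtain ⟨u, hu⟩ := exists_cycles hp hn
  have hne : (χ : Sₙ → ℂ) u ≠ 0 := by
    rw [he, Pi.smul_apply, smul_eq_mul]
    exact mul_ne_zero hε (theta_ne_zero hp hn h1 h2 h4 ha0 h3 hu)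
  rcases hp.eq_two_or_odd' with rfl | hodd
  · -- the prime two
    have hl : Cfsg.blockRank 2 B ≤ T 0 + (selfSet 2 n (cnt 2 a0)).card :=
      (altRank_le hM 0 hB ha0 hψ0 h0).trans (Nat.add_le_add_right Finset.card_image_le _)
    have hw := weight_le_two hM hB hD hs hψ0 hc hu hne
    have hT0 := hT' 0
    rcases Nat.eq_zero_or_pos w with rfl | hw1
    · have hF0 : (selfSet 2 n (cnt 2 a0)).card = 0 := by
        rw [Finset.card_eq_zero]
        by_contra hne'
        obtain ⟨b, hb⟩ := Finset.nonempty_iff_ne_empty.2 hne'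
        obtain ⟨hb1, hb2, hb3⟩ := mem_selfSet.1 hb
        have hst : star a0 = a0 := by
          have himg : ∀ d ∈ gapless 2 n 0 (cnt 2 a0), ∀ d' ∈ gapless 2 n 0 (cnt 2 a0), d = d' := by
            have := hT0
            simp only [if_true, T] at this
            exact Finset.card_le_one.1 this
          have hcore : ∀ d ∈ incSt n n, cnt 2 d = cnt 2 a0 → d ∈ gapless 2 n 0 (cnt 2 a0) := by
            intro d hd hdc
            refine mem_gapless.2 ⟨hd, hdc, fun hg => ?_⟩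
            obtain ⟨x, hx, -⟩ := (movable_image_iff 2 d 0).2 hg
            obtain ⟨⟨h0', hinj, hsum⟩, -⟩ := mem_incSt.1 hd
            obtain ⟨t, ht⟩ := exists_weight two_pos h1 h2 _ _ (nonneg_down 2 hx (image_nonneg h0'))
              (by rw [cntS_down 2 hx, cntS_image 2 hinj, hdc, h3]) rfl
            rw [sum_down 2 hx, sum_image' hinj, hsum, h4] at ht
            push_cast at ht
            omega
          rw [himg a0 (hcore a0 ha0 rfl) b (hcore b hb1 hb2), hb3]
        refine hD1 (defect_eq_bot hM hB hD ha0 hst h1 h2 ?_ h3 he hψ0 hc)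
        rw [h4, show r0 = n by omega]
      rw [if_pos rfl] at hT0
      exact lt_of_le_of_lt (by omega) (Nat.one_lt_pow (by omega) one_lt_two)
    rw [if_neg hw1.ne', show (2 : ℕ) - 1 = 1 from rfl, one_mul] at hT0
    rcases Nat.even_or_odd w with ⟨m, hm⟩ | ⟨m, hm⟩
    · have hs' : w ≤ s := by omega
      have hb : symBound 2 w = 3 ^ (m - 1) := by
        rw [symBound, if_pos rfl, if_neg (by omega), if_neg (by omega), show w / 2 = m by omega]
      have h34 : 3 ^ (m - 1) < 2 ^ (w - 1) :=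
        calc 3 ^ (m - 1) ≤ 4 ^ (m - 1) := Nat.pow_le_pow_left (by norm_num) _
          _ = 2 ^ (2 * (m - 1)) := by rw [pow_mul]; norm_num
          _ < 2 ^ (w - 1) := Nat.pow_lt_pow_right one_lt_two (by omega)
      have h2w : 2 ^ w = 2 ^ (w - 1) + 2 ^ (w - 1) := by
        rw [← two_mul, ← pow_succ', Nat.sub_add_cancel hw1]
      exact lt_of_lt_of_le (by omega) (Nat.pow_le_pow_right two_pos hs')
    · have hb : symBound 2 w = 0 := by rw [symBound, if_pos rfl, if_pos (by omega)]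
      rcases Nat.eq_zero_or_pos m with rfl | hm1
      · rw [show w - 1 = 0 by omega, pow_zero] at hT0
        exact lt_of_le_of_lt (by omega) (Nat.one_lt_pow (by omega) one_lt_two)
      have hT3 : T 0 ≤ 3 * 2 ^ (w - 3) := by
        simp only [T, h3]
        rw [← (gapless_image (p := 2) 0 hn h4).1]
        exact card_le_two 0 h1 h2 w (by omega) _ (gapless_image (p := 2) 0 hn h4).2
      have h4w : 2 ^ (w - 1) = 4 * 2 ^ (w - 3) := by
        rw [show w - 1 = w - 3 + 2 by omega, pow_add]; ring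
      have := Nat.two_pow_pos (w - 3)
      exact lt_of_lt_of_le (by omega) (Nat.pow_le_pow_right two_pos (show w - 1 ≤ s by omega))
  · -- odd primes
    have hp3 : 3 ≤ p := by
      rcases hp.two_le.eq_or_lt with h | h
      · subst h; exact absurd hodd (by decide)
      · exact h
    obtain ⟨q, hq⟩ := id hodd
    set r : ZMod p := ((q + n : ℕ) : ZMod p) with hrdef
    have hr : 2 * r = ((2 * (n : ℤ) - 1 : ℤ) : ZMod p) := by
      have hz : ((2 * q + 1 : ℕ) : ZMod p) = 0 := by rw [← hq]; exact ZMod.natCast_self p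
      simp only [r]
      push_cast at hz ⊢
      linear_combination hz
    have hl := altRank_le hM r hB ha0 hψ0 h0
    have hsw : w ≤ s := weight_le_odd hM hodd hB hD hs hψ0 hc hu hne
    have hTr := hT' r
    have hb : symBound p w = p ^ (w - 1) := by rw [symBound, if_neg (by omega)]
    rcases (selfSet p n (cnt p a0)).eq_empty_or_nonempty with hempty | ⟨b, hbm⟩
    · rw [hempty, Finset.card_empty, add_zero] at hl
      have hl' := hl.trans (Finset.card_image_le.trans hTr)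
      rcases Nat.eq_zero_or_pos w with rfl | hw1
      · exact lt_of_le_of_lt hl' (Nat.one_lt_pow (by omega) hp.one_lt)
      · refine lt_of_le_of_lt hl' (lt_of_lt_of_le ?_ (Nat.pow_le_pow_right hp.pos hsw))
        exact (pred_mul_pow_lt hp.one_lt w).resolve_right hw1.ne'
    have h2l := two_card_altVec_le hr hbm
    simp only [T] at hTr
    rcases Nat.eq_zero_or_pos w with rfl | hw1
    · rw [if_pos rfl] at hTr
      rw [hb, Nat.zero_sub, pow_zero] at hF
      have := Nat.le_self_pow (show s ≠ 0 by omega) p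
      omega
    rw [if_neg hw1.ne'] at hTr
    rw [hb] at hF
    refine lt_of_lt_of_le ?_ (Nat.pow_le_pow_right hp.pos hsw)
    have hpw : p ^ w = p * p ^ (w - 1) := by rw [← pow_succ', Nat.sub_add_cancel hw1]
    have hsplit : (p - 1) * p ^ (w - 1) + p ^ (w - 1) = p ^ w := by
      rw [hpw]
      nth_rw 2 [← one_mul (p ^ (w - 1))]
      rw [← add_mul, Nat.sub_add_cancel hp.one_le]
    have h3p : 3 * p ^ (w - 1) ≤ p ^ w := by rw [hpw]; exact Nat.mul_le_mul_right _ hp3
    have hpos := pow_pos hp.pos (w - 1)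
    omega

end Cfsg.Agent.SymRank
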