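import Cfsg.Agent.Lib.Blocks.SymRank.Orth

/-!
# Completeness of the alternant functions
-/

namespace Cfsg.Agent.SymRank

open Equiv

variable {N : ℕ}

/-- All bead tuples of degree `n`. -/
noncomputable def allSt (N n : ℕ) : Finset (Fin N → ℤ) :=
  (Fintype.piFinset fun _ : Fin N => Finset.Icc 0 ((n : ℤ) + off N)).filter fun v => IsSt n v

theorem mem_allSt {n : ℕ} {v : Fin N → ℤ} : v ∈ allSt N n ↔ IsSt n v := by
  refine ⟨fun h => (Finset.mem_filter.1 h).2, fun h => Finset.mem_filter.2 ⟨?_, h⟩⟩
  refine Fintype.mem_piFinset.2 fun i => Finset.mem_Icc.2 ⟨h.1 i, ?_⟩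
  rw [← h.2.2]
  exact Finset.single_le_sum (fun j _ => h.1 j) (Finset.mem_univ i)

/-- The increasing bead tuples of degree `n`. -/
noncomputable def incSt (N n : ℕ) : Finset (Fin N → ℤ) :=
  (allSt N n).filter fun v => StrictMono v

theorem mem_incSt {n : ℕ} {v : Fin N → ℤ} : v ∈ incSt N n ↔ IsSt n v ∧ StrictMono v := by
  rw [incSt, Finset.mem_filter, mem_allSt]

theorem perm_eq_of_strictMono {a b : Fin N → ℤ} (ha : StrictMono a) (hb : StrictMono b)
    {σ τ : Perm (Fin N)} (h : a ∘ σ = b ∘ τ) : a = b ∧ σ = τ := by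
  have hab : a = b := by
    refine (ha.range_inj hb).1 ?_
    rw [← σ.surjective.range_comp a, h, τ.surjective.range_comp b]
  subst hab
  exact ⟨rfl, Equiv.ext fun i => ha.injective (congrFun h i)⟩

/-- A symmetric function summed over all tuples. -/
theorem sum_allSt {R : Type*} [CommRing R] (n : ℕ) (φ : (Fin N → ℤ) → R)
    (hsym : ∀ v (τ : Perm (Fin N)), φ (v ∘ τ) = φ v) :
    ∑ v ∈ allSt N n, φ v = (N.factorial : R) * ∑ a ∈ incSt N n, φ a := by
  classical
  have h : ∑ v ∈ allSt N n, φ v = ∑ x ∈ incSt N n ×ˢ (Finset.univ : Finset (Perm (Fin N))),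
      φ x.1 := by
    refine Finset.sum_bij' (fun v _ => (v ∘ Tuple.sort v, (Tuple.sort v)⁻¹))
      (fun x _ => x.1 ∘ x.2) (fun v hv => ?_) (fun x hx => ?_) (fun v _ => ?_) (fun x hx => ?_)
      fun v _ => (hsym v _).symm
    · refine Finset.mem_product.2 ⟨mem_incSt.2 ⟨isSt_comp (mem_allSt.1 hv) _, ?_⟩, Finset.mem_univ _⟩
      exact sort_strictMono (mem_allSt.1 hv).2.1
    · exact mem_allSt.2 (isSt_comp (mem_incSt.1 (Finset.mem_product.1 hx).1).1 _)
    · funext i
      simp
    · obtain ⟨ha, hm⟩ := mem_incSt.1 (Finset.mem_product.1 hx).1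
      obtain ⟨a, σ⟩ := x
      have hm' := sort_strictMono (ha.2.1.comp σ.injective)
      obtain ⟨he, hs⟩ := perm_eq_of_strictMono hm' hm
        (σ := (Tuple.sort (a ∘ σ))⁻¹) (τ := σ) (by funext i; simp)
      exact Prod.ext he hs
  rw [h, Finset.sum_product, Finset.mul_sum]
  refine Finset.sum_congr rfl fun a _ => ?_
  simp only
  rw [Finset.sum_const, Finset.card_univ, Fintype.card_perm, Fintype.card_fin, nsmul_eq_mul]

/-- The parts of a partition, padded with zeros and sorted. -/
def padded {n : ℕ} (N : ℕ) (μ : n.Partition) : List ℕ :=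
  List.replicate (N - μ.parts.card) 0 ++ μ.parts.sort (· ≤ ·)

theorem card_parts_le {n : ℕ} (μ : n.Partition) : μ.parts.card ≤ n := by
  have h := Multiset.card_nsmul_le_sum (s := μ.parts) (a := 1) fun x hx => μ.parts_pos hx
  rw [smul_eq_mul, mul_one, μ.parts_sum] at h
  exact h

theorem padded_length {n : ℕ} (hn : n ≤ N) (μ : n.Partition) : (padded N μ).length = N := by
  have := card_parts_le μ
  simp [padded]
  omega

theorem padded_sorted {n : ℕ} (μ : n.Partition) : (padded N μ).Pairwise (· ≤ ·) := by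
  rw [padded, List.pairwise_append]
  refine ⟨List.pairwise_replicate.2 (Or.inr le_rfl), Multiset.pairwise_sort _ _, fun a ha b _ => ?_⟩
  rw [List.eq_of_mem_replicate ha]
  exact Nat.zero_le _

theorem padded_sum {n : ℕ} (μ : n.Partition) : (padded N μ).sum = n := by
  rw [padded, List.sum_append, List.sum_replicate, smul_zero, zero_add]
  conv_rhs => rw [← μ.parts_sum, ← Multiset.sort_eq μ.parts (· ≤ ·)]
  rw [Multiset.sum_coe]

theorem padded_filter {n : ℕ} (μ : n.Partition) :
    ((padded N μ : Multiset ℕ).filter fun x => x ≠ 0) = μ.parts := by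
  rw [padded, ← Multiset.coe_add, Multiset.sort_eq, Multiset.filter_add,
    Multiset.coe_replicate, Multiset.filter_eq_nil.2 fun a ha => by
      simp [Multiset.eq_of_mem_replicate ha], zero_add,
    Multiset.filter_eq_self.2 fun a ha => (μ.parts_pos ha).ne']

theorem card_partition_le {n : ℕ} (hn : n ≤ N) :
    Fintype.card n.Partition ≤ (incSt N n).card := by
  classical
  let f : n.Partition → (Fin N → ℤ) := fun μ i =>
    (((padded N μ).get (i.cast (padded_length hn μ).symm) : ℕ) : ℤ) + (i : ℤ)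
  refine Finset.card_le_card_of_injOn f (fun μ _ => ?_) fun μ _ ν _ h => ?_
  · have hm : StrictMono (f μ) := by
      intro i j hij
      have := (padded_sorted (N := N) μ).rel_get_of_lt (a := i.cast (padded_length hn μ).symm)
        (b := j.cast (padded_length hn μ).symm) hij
      simp only [f]
      have hij' : (i : ℕ) < j := hij
      omega
    refine Finset.mem_coe.2 (mem_incSt.2 ⟨⟨fun i => ?_, hm.injective, ?_⟩, hm⟩)
    · simp only [f]; omega
    · simp only [f, Finset.sum_add_distrib, off]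
      congr 1
      rw [← Nat.cast_sum]
      congr 1
      conv_rhs => rw [← padded_sum (N := N) μ, ← Fin.sum_univ_getElem]
      exact Fintype.sum_equiv (finCongr (padded_length hn μ).symm) _ _ fun i => rfl
  · have hl : padded N μ = padded N ν := by
      refine List.ext_get (by rw [padded_length hn, padded_length hn]) fun k h1 h2 => ?_
      have := congrFun h ⟨k, by rwa [padded_length hn] at h1⟩
      simp only [f, Fin.cast_mk] at this
      omega
    exact Nat.Partition.ext (by rw [← padded_filter (N := N) μ, hl, padded_filter])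

/-- The second orthogonality relation. -/
theorem col_orth {n : ℕ} (hn : n ≤ N) (μ ν : n.Partition) :
    ∑ a ∈ incSt N n, (val μ.parts a : ℚ) * (val ν.parts a : ℚ) =
      if μ = ν then (zz μ.parts : ℚ) else 0 := by
  classical
  set A : Matrix ↥(incSt N n) n.Partition ℚ :=
    Matrix.of fun a μ => (val μ.parts a.1 : ℚ) / (zz μ.parts : ℚ) with hA
  set B : Matrix n.Partition ↥(incSt N n) ℚ :=
    Matrix.of fun μ a => (val μ.parts a.1 : ℚ) with hB
  have hAB : A * B = 1 := by
    ext a b
    obtain ⟨ha, ham⟩ := mem_incSt.1 a.2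
    obtain ⟨hb, hbm⟩ := mem_incSt.1 b.2
    have h := gram_eq n a.1 b.1 ha hb
    rw [del_strictMono ham hbm, gram, avg] at h
    simp only [Matrix.mul_apply, A, B, Matrix.of_apply, Matrix.one_apply]
    rw [Finset.sum_congr rfl fun μ _ => div_mul_eq_mul_div (val μ.parts a.1 : ℚ) _ _, h]
    simp only [Subtype.ext_iff]
    split_ifs <;> simp
  have hle : (incSt N n).card ≤ Fintype.card n.Partition := by
    have h := Matrix.rank_mul_le_right A B
    rw [hAB, Matrix.rank_one, Fintype.card_coe] at h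
    exact h.trans B.rank_le_card_height
  have hcard : Fintype.card ↥(incSt N n) = Fintype.card n.Partition := by
    rw [Fintype.card_coe]
    exact le_antisymm hle (card_partition_le hn)
  have hBA : B * A = 1 :=
    (Matrix.mul_eq_one_comm_of_equiv (Fintype.equivOfCardEq hcard)).1 hAB
  have h := congrFun (congrFun hBA μ) ν
  simp only [Matrix.mul_apply, A, B, Matrix.of_apply, Matrix.one_apply] at h
  rw [← Finset.sum_coe_sort]
  have hz : (zz ν.parts : ℚ) ≠ 0 := by exact_mod_cast (zz_pos fun _ => ν.parts_pos).ne'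
  have h2 : ∑ a : ↥(incSt N n), (val μ.parts a.1 : ℚ) * (val ν.parts a.1 : ℚ) =
      (zz ν.parts : ℚ) * ∑ a : ↥(incSt N n), (val μ.parts a.1 : ℚ) *
        ((val ν.parts a.1 : ℚ) / (zz ν.parts : ℚ)) := by
    rw [Finset.mul_sum]
    exact Finset.sum_congr rfl fun a _ => by field_simp
  rw [h2, h]
  split_ifs with he
  · rw [he, mul_one]
  · rw [mul_zero]

/-- Removing a part is adjoint to adding a bead shift. -/
theorem adjoint {n k : ℕ} (hk : k ≤ n) {ν : Multiset ℕ} (hν : ν.sum = n - k)
    {h : (Fin N → ℤ) → ℚ} (hz : ∀ v, ¬ Function.Injective v → h v = 0) :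
    ∑ b ∈ allSt N n, h b * (val (k ::ₘ ν) b : ℚ) =
      ∑ e ∈ allSt N (n - k), (val ν e : ℚ) * ∑ i, h (e + Pi.single i (k : ℤ)) := by
  classical
  simp only [val_cons, Int.cast_sum, Finset.mul_sum]
  rw [Finset.sum_comm, Finset.sum_comm (s := allSt N (n - k))]
  refine Finset.sum_congr rfl fun i _ => ?_
  refine Finset.sum_bij_ne_zero (fun b _ _ => b - Pi.single i (k : ℤ))
    (fun b _ hne => mem_allSt.2 (hν ▸ isSt_of_val (by exact_mod_cast right_ne_zero_of_mul hne)))
    (fun b _ _ c _ _ h' => sub_left_injective h') (fun e he hne => ?_) fun b _ _ => ?_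
  · have h1 := right_ne_zero_of_mul hne
    have h2 : Function.Injective (e + Pi.single i (k : ℤ)) := not_not.1 fun hh => h1 (hz _ hh)
    refine ⟨e + Pi.single i (k : ℤ), mem_allSt.2 ⟨fun l => ?_, h2, ?_⟩, ?_, add_sub_cancel_right _ _⟩
    · have := (mem_allSt.1 he).1 l
      simp only [Pi.add_apply, Pi.single_apply]
      split_ifs <;> omega
    · simp only [Pi.add_apply, Finset.sum_add_distrib, Finset.sum_pi_single', Finset.mem_univ,
        if_true, (mem_allSt.1 he).2.2]
      omega
    · rw [add_sub_cancel_right, mul_comm]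
      exact hne
  · rw [sub_add_cancel, mul_comm]

/-- Expansion of an alternating function in the alternant functions. -/
theorem expand {n : ℕ} {h : (Fin N → ℤ) → ℚ}
    (halt : ∀ v (τ : Perm (Fin N)), h (v ∘ τ) = ((Perm.sign τ : ℤ) : ℚ) * h v) {d : Fin N → ℤ}
    (hd : IsSt n d) :
    h d = avg n fun ν => (val ν d : ℚ) * ∑ e ∈ incSt N n, h e * (val ν e : ℚ) := by
  classical
  have h1 : avg n (fun ν => (val ν d : ℚ) * ∑ e ∈ incSt N n, h e * (val ν e : ℚ)) =
      ∑ e ∈ incSt N n, h e * (del e d : ℚ) := by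
    rw [avg]
    simp only [Finset.mul_sum, Finset.sum_div]
    rw [Finset.sum_comm]
    refine Finset.sum_congr rfl fun e he => ?_
    rw [← gram_eq n e d (mem_incSt.1 he).1 hd, gram, avg, Finset.mul_sum]
    exact Finset.sum_congr rfl fun ν _ => by ring
  rw [h1]
  set s := Tuple.sort d
  have hs : d ∘ s ∈ incSt N n :=
    mem_incSt.2 ⟨isSt_comp hd s, sort_strictMono hd.2.1⟩
  rw [Finset.sum_eq_single_of_mem _ hs fun e he hne => ?_]
  · rw [halt, del_comp_left, del_self hd.2.1, mul_one]
    have h2 : ((Perm.sign s : ℤ) : ℚ) * ((Perm.sign s : ℤ) : ℚ) = 1 := by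
      rw [← Int.cast_mul, ← Units.val_mul, Int.units_mul_self, Units.val_one, Int.cast_one]
    rw [mul_right_comm, h2, one_mul]
  · have hd0 : del e d = 0 := by
      by_contra hh
      obtain ⟨π, hπ⟩ := del_ne_zero hh
      refine hne ?_
      exact (perm_eq_of_strictMono (mem_incSt.1 he).2 (mem_incSt.1 hs).2
        (σ := π * s) (τ := 1) (by funext l; simp [hπ])).1
    rw [hd0, Int.cast_zero, mul_zero]

/-- Adding a cycle of absent length to all beads in turn gives zero. -/
theorem shift_relation {n k : ℕ} (hn : n ≤ N) (hk : 1 ≤ k) (μ : n.Partition) (hμ : k ∉ μ.parts)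
    (d : Fin N → ℤ) (hd : ∀ i, 0 ≤ d i) : ∑ i, val μ.parts (d + Pi.single i (k : ℤ)) = 0 := by
  classical
  set h : (Fin N → ℤ) → ℚ := fun v => ∑ i, (val μ.parts (v + Pi.single i (k : ℤ)) : ℚ) with hh
  have halt : ∀ v (τ : Perm (Fin N)), h (v ∘ τ) = ((Perm.sign τ : ℤ) : ℚ) * h v := by
    intro v τ
    simp only [h, Finset.mul_sum]
    refine Fintype.sum_equiv τ _ _ fun i => ?_
    rw [← Int.cast_mul, ← val_comp]
    congr 2
    funext j
    simp only [Pi.add_apply, Function.comp_apply, Pi.single_apply, τ.injective.eq_iff]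
  suffices hgoal : h d = 0 by simp only [h] at hgoal; exact_mod_cast hgoal
  by_contra hne
  obtain ⟨i, -, hi⟩ := Finset.exists_ne_zero_of_sum_ne_zero hne
  have hinj : Function.Injective d := not_not.1 fun hh' => hne (alt_eq_zero halt hh')
  have hsum := (val_support μ.parts (Int.cast_ne_zero.1 hi)).2
  simp only [Pi.add_apply, Finset.sum_add_distrib, Finset.sum_pi_single', Finset.mem_univ,
    if_true, μ.parts_sum] at hsum
  have hkn : k ≤ n := by
    have := off_le_sum hinj hd
    omega
  have hst : IsSt (n - k) d := ⟨hd, hinj, by omega⟩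
  refine hne ?_
  rw [expand halt hst, avg]
  refine Finset.sum_eq_zero fun ν _ => ?_
  suffices h0 : ∑ e ∈ incSt N (n - k), h e * (val ν.parts e : ℚ) = 0 by rw [h0, mul_zero, zero_div]
  have hN : (N.factorial : ℚ) ≠ 0 := by exact_mod_cast N.factorial_ne_zero
  refine (mul_eq_zero.1 ?_).resolve_left hN
  rw [← sum_allSt (n - k) _ (fun v τ => by
    simp only [halt, val_comp, Int.cast_mul]
    have h2 : ((Perm.sign τ : ℤ) : ℚ) * ((Perm.sign τ : ℤ) : ℚ) = 1 := by
      rw [← Int.cast_mul, ← Units.val_mul, Int.units_mul_self, Units.val_one, Int.cast_one]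
    linear_combination (h v * (val ν.parts v : ℚ)) * h2)]
  rw [Finset.sum_congr rfl fun e _ => mul_comm (h e) _,
    ← adjoint hkn ν.parts_sum (h := fun v => (val μ.parts v : ℚ))
      fun v hv => by
        rw [Int.cast_eq_zero]
        exact not_not.1 fun hh' => hv (val_inj hh')]
  rw [sum_allSt n _ fun v τ => by
    simp only [val_comp, Int.cast_mul]
    have h2 : ((Perm.sign τ : ℤ) : ℚ) * ((Perm.sign τ : ℤ) : ℚ) = 1 := by
      rw [← Int.cast_mul, ← Units.val_mul, Int.units_mul_self, Units.val_one, Int.cast_one]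
    linear_combination ((val μ.parts v : ℚ) * (val (k ::ₘ ν.parts) v : ℚ)) * h2]
  have hc := col_orth hn μ ⟨k ::ₘ ν.parts, fun hx => by
      rcases Multiset.mem_cons.1 hx with rfl | hx
      · omega
      · exact ν.parts_pos hx, by rw [Multiset.sum_cons, ν.parts_sum]; omega⟩
  rw [hc, if_neg fun he => hμ (by rw [he]; exact Multiset.mem_cons_self _ _), mul_zero]

end Cfsg.Agent.SymRank
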