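import Cfsg.Agent.Lib.Blocks.SymRank.Count

/-!
# Symmetric bead sets, and a sharper bound for `p = 2`
-/

namespace Cfsg.Agent.SymRank

variable {p : ℕ}

/-- The bead set is carried to its complement by `x ↦ c - x` on the interval `[0, c]`. -/
def IsSymSet (c : ℤ) (β : Finset ℤ) : Prop :=
  (∀ x ∈ β, 0 ≤ x ∧ x ≤ c) ∧ ∀ x, 0 ≤ x → x ≤ c → (x ∈ β ↔ c - x ∉ β)

/-- The symmetric bead sets of weight `w` over `κ`. -/
def IsSymOf (p : ℕ) (c : ℤ) (κ : Finset ℤ) (w : ℕ) (β : Finset ℤ) : Prop :=
  IsSymSet c β ∧ cntS p β = cntS p κ ∧ ∑ x ∈ β, x = ∑ x ∈ κ, x + (p : ℤ) * w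

theorem IsSymOf.nonneg {c : ℤ} {κ β : Finset ℤ} {w : ℕ} (h : IsSymOf p c κ w β) :
    ∀ x ∈ β, 0 ≤ x := fun x hx => (h.1.1 x hx).1

theorem IsSymSet.mirror {c : ℤ} {β : Finset ℤ} (h : IsSymSet c β) {x : ℤ} (hx0 : 0 ≤ x)
    (hxc : x ≤ c) : (c - x ∈ β ↔ x ∉ β) := by
  have := h.2 x hx0 hxc
  tauto

/-- The central move keeps symmetry. -/
theorem symSet_down (hp : 0 < p) {c : ℤ} {β : Finset ℤ} (h : IsSymSet c β) {b : ℤ}
    (hb : Movable p β b) (hc : 2 * b = c + p) : IsSymSet c (down p β b) := by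
  obtain ⟨hb1, hb2, hb3⟩ := hb
  have hp' : (0 : ℤ) < p := by exact_mod_cast hp
  refine ⟨fun x hx => ?_, fun x hx0 hxc => ?_⟩
  · rcases Finset.mem_insert.1 hx with rfl | hx
    · have := (h.1 b hb1).2
      omega
    · exact h.1 x (Finset.mem_of_mem_erase hx)
  · simp only [down, Finset.mem_insert, Finset.mem_erase]
    have := h.2 x hx0 hxc
    rcases eq_or_ne x b with rfl | hxb
    · constructor
      · rintro (h1 | h1)
        · omega
        · exact absurd rfl h1.1
      · intro h1
        exact absurd (Or.inl (by omega)) h1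
    rcases eq_or_ne x (b - p) with rfl | hxb'
    · constructor
      · rintro - (h1 | h1)
        · omega
        · exact h1.1 (by omega)
      · intro _
        exact Or.inl rfl
    · constructor
      · rintro (h1 | h1)
        · exact absurd h1 hxb'
        · rintro (h2 | h2)
          · omega
          · exact (this.1 h1.2) h2.2
      · intro h1
        refine Or.inr ⟨hxb, this.2 fun h2 => h1 (Or.inr ⟨by omega, h2⟩)⟩

/-- The bead mirrored to the move of `b`. -/
def partner (p : ℕ) (c b : ℤ) : ℤ := c - b + (p : ℤ)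

/-- Moving a pair of mirrored beads. -/
def downPair (p : ℕ) (c : ℤ) (β : Finset ℤ) (b : ℤ) : Finset ℤ :=
  down p (down p β b) (partner p c b)

/-- The data of the paired move at the least movable bead. -/
theorem pair_facts (hp : 0 < p) {c : ℤ} {β : Finset ℤ} (h : IsSymSet c β) {b : ℤ}
    (hb : Movable p β b) (hmin : ∀ y, Movable p β y → b ≤ y) (hne : 2 * b ≠ c + p) :
    b < partner p c b ∧ partner p c b - (p : ℤ) ≠ b ∧ Movable p β (partner p c b) ∧
      Movable p (down p β b) (partner p c b) ∧ IsSymSet c (downPair p c β b) := by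
  obtain ⟨hb1, hb2, hb3⟩ := hb
  have hp' : (0 : ℤ) < p := by exact_mod_cast hp
  have hbc := (h.1 b hb1).2
  set m := partner p c b with hm
  have hmd : m = c - b + p := rfl
  have hm1 : m ∈ β := by
    have := (h.mirror (x := b - p) (by omega) (by omega)).2 hb3
    rwa [show c - (b - p) = m by omega] at this
  have hm3 : m - (p : ℤ) ∉ β := fun hh =>
    ((h.mirror (x := b) (by omega) hbc).1 (by rwa [show c - b = m - p by omega])) hb1
  have hmov : Movable p β m := ⟨hm1, by omega, hm3⟩
  have hbm : b < m := lt_of_le_of_ne (hmin m hmov) (by omega)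
  have hmb : m - (p : ℤ) ≠ b := fun hh => hm3 (hh ▸ hb1)
  refine ⟨hbm, hmb, hmov, ⟨?_, by omega, ?_⟩, fun x hx => ?_, fun x hx0 hxc => ?_⟩
  · exact Finset.mem_insert_of_mem (Finset.mem_erase.2 ⟨by omega, hm1⟩)
  · intro hh
    rcases Finset.mem_insert.1 hh with hh | hh
    · omega
    · exact hm3 (Finset.mem_of_mem_erase hh)
  · simp only [downPair, down, Finset.mem_insert, Finset.mem_erase, ← hm] at hx
    rcases hx with rfl | ⟨-, rfl | ⟨-, hx⟩⟩
    · omega
    · omega
    · exact h.1 x hx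
  · have hx' := h.2 x hx0 hxc
    simp only [downPair, down, Finset.mem_insert, Finset.mem_erase, ← hm]
    rcases eq_or_ne x (m - p) with rfl | h1
    · refine iff_of_true (Or.inl rfl) ?_
      rintro (h2 | ⟨-, h2 | ⟨h2, -⟩⟩) <;> omega
    rcases eq_or_ne x (b - p) with rfl | h2
    · refine iff_of_true (Or.inr ⟨by omega, Or.inl rfl⟩) ?_
      rintro (h3 | ⟨h3, -⟩) <;> omega
    rcases eq_or_ne x m with rfl | h3
    · refine iff_of_false ?_ (fun h4 => h4 (Or.inr ⟨by omega, Or.inl (by omega)⟩))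
      rintro (h5 | ⟨h5, -⟩)
      · exact h1 h5
      · exact h5 rfl
    rcases eq_or_ne x b with rfl | h4
    · refine iff_of_false ?_ (fun h5 => h5 (Or.inl (by omega)))
      rintro (h5 | ⟨-, h5 | ⟨h5, -⟩⟩)
      · exact h1 h5
      · exact h2 h5
      · exact h5 rfl
    constructor
    · rintro (h5 | ⟨-, h5 | ⟨-, h5⟩⟩)
      · exact absurd h5 h1
      · exact absurd h5 h2
      · rintro (h6 | ⟨-, h6 | ⟨-, h6⟩⟩)
        · omega
        · omega
        · exact hx'.1 h5 h6
    · intro h5
      refine Or.inr ⟨h3, Or.inr ⟨h4, hx'.2 fun h6 => h5 (Or.inr ⟨by omega, Or.inr ⟨by omega, h6⟩⟩)⟩⟩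

theorem sum_downPair (p : ℕ) (c : ℤ) {β : Finset ℤ} {b : ℤ} (hb : Movable p β b)
    (hm : Movable p (down p β b) (partner p c b)) :
    ∑ y ∈ downPair p c β b, y = (∑ y ∈ β, y) - 2 * (p : ℤ) := by
  rw [downPair, sum_down p hm, sum_down p hb]
  ring

theorem recover_pair (p : ℕ) (c : ℤ) {β : Finset ℤ} {b : ℤ} (hb : Movable p β b)
    (hm : Movable p (down p β b) (partner p c b)) :
    β = insert b ((insert (partner p c b)
      ((downPair p c β b).erase (partner p c b - (p : ℤ)))).erase (b - (p : ℤ))) := by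
  rw [downPair, down, Finset.erase_insert fun h => hm.2.2 (Finset.mem_of_mem_erase h),
    Finset.insert_erase hm.1, down, Finset.erase_insert fun h => hb.2.2 (Finset.mem_of_mem_erase h),
    Finset.insert_erase hb.1]

/-- The facts that locate the least bead inside the paired move. -/
theorem pair_locate (hp : 0 < p) {c : ℤ} {β : Finset ℤ} (h : IsSymSet c β) {b : ℤ}
    (hb : Movable p β b) (hmin : ∀ y, Movable p β y → b ≤ y) (hne : 2 * b ≠ c + p) :
    (∀ x, Movable p (downPair p c β b) x → b - (p : ℤ) ≤ x) ∧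
      (¬ Movable p (downPair p c β b) (b - (p : ℤ)) → b ∉ downPair p c β b ∧
        ∀ z : ℤ, (z : ZMod p) = (b : ZMod p) → 0 ≤ z → z ≤ b - (p : ℤ) →
          z ∈ downPair p c β b) := by
  obtain ⟨hbm, hmb, hmov, hmov', -⟩ := pair_facts hp h hb hmin hne
  set m := partner p c b
  have hp' : (0 : ℤ) < p := by exact_mod_cast hp
  refine ⟨fun x hx => ?_, fun hnm => ⟨?_, fun z hz hz0 hzb => ?_⟩⟩
  · by_contra hlt
    rw [not_le] at hlt
    obtain ⟨h1, h2, h3⟩ := hx
    simp only [downPair, down, Finset.mem_insert, Finset.mem_erase, not_or, not_and] at h1 h3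
    rcases h1 with h1 | ⟨-, h1 | ⟨-, h1⟩⟩
    · omega
    · omega
    · exact absurd (hmin x ⟨h1, h2, fun hh => (h3.2 (by omega)).2 (by omega) hh⟩) (by omega)
  · simp only [downPair, down, Finset.mem_insert, Finset.mem_erase]
    rintro (h1 | ⟨-, h1 | ⟨h1, -⟩⟩)
    · exact hmb h1.symm
    · omega
    · exact h1 rfl
  · have hmem0 : b - (p : ℤ) ∈ downPair p c β b :=
      Finset.mem_insert_of_mem (Finset.mem_erase.2 ⟨by omega, Finset.mem_insert_self _ _⟩)
    rcases eq_or_lt_of_le hzb with rfl | hlt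
    · exact hmem0
    obtain ⟨d, hd⟩ : (p : ℤ) ∣ b - p - z := by
      rw [← ZMod.intCast_zmod_eq_zero_iff_dvd]
      simp [hz]
    have hd1 : 1 ≤ d := by nlinarith
    have hp2 : (p : ℤ) ≤ b - p := by nlinarith
    have hmem : b - p - p ∈ downPair p c β b := by
      by_contra hh
      exact hnm ⟨hmem0, hp2, hh⟩
    have hmβ : b - p - p ∈ β := by
      simp only [downPair, down, Finset.mem_insert, Finset.mem_erase] at hmem
      rcases hmem with h1 | ⟨-, h1 | ⟨-, h1⟩⟩
      · omega
      · omega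
      · exact h1
    have hz' := mem_below hp hmβ (fun y hy hmy => by have := hmin y hmy; omega)
      (y := z) (by simp [hz]) hz0 (by nlinarith)
    simp only [downPair, down, Finset.mem_insert, Finset.mem_erase]
    exact Or.inr ⟨by omega, Or.inr ⟨by omega, hz'⟩⟩

/-- The top of a runner below a free place is unique. -/
theorem top_unique (hp : 0 < p) {γ : Finset ℤ} {x y : ℤ} (hres : (x : ZMod p) = (y : ZMod p))
    (hx0 : 0 ≤ x) (hy0 : 0 ≤ y) (hx : x ∉ γ) (hy : y ∉ γ)
    (hxz : ∀ z : ℤ, (z : ZMod p) = (x : ZMod p) → 0 ≤ z → z ≤ x - (p : ℤ) → z ∈ γ)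
    (hyz : ∀ z : ℤ, (z : ZMod p) = (y : ZMod p) → 0 ≤ z → z ≤ y - (p : ℤ) → z ∈ γ) : x = y := by
  have hp' : (0 : ℤ) < p := by exact_mod_cast hp
  obtain ⟨d, hd⟩ : (p : ℤ) ∣ y - x := by
    rw [← ZMod.intCast_zmod_eq_zero_iff_dvd, Int.cast_sub, hres, sub_self]
  rcases lt_trichotomy x y with hlt | heq | hgt
  · have : 1 ≤ d := by nlinarith
    exact absurd (hyz x hres hx0 (by nlinarith)) hx
  · exact heq
  · have : d ≤ -1 := by nlinarith
    exact absurd (hxz y hres.symm hy0 (by nlinarith)) hy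

open scoped Classical in
/-- The colour of a paired step. -/
noncomputable def pairTag (p : ℕ) (c : ℤ) (β : Finset ℤ) : Option (ZMod p) :=
  if Movable p (downPair p c β (least p β)) (least p β - (p : ℤ)) then none
  else some ((least p β : ℤ) : ZMod p)

/-- The bound on the symmetric bead sets. -/
def symBound (p w : ℕ) : ℕ :=
  if p = 2 then (if w % 2 = 1 then 0 else if w = 0 then 1 else 3 ^ (w / 2 - 1))
  else p ^ (w - 1)

theorem symBound_step {p w : ℕ} (hp2 : p = 2 ∨ 3 ≤ p) (hw : 1 ≤ w) :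
    (if p = 2 then 0 else symBound p (w + 1)) + (p + 1) * symBound p w ≤ symBound p (w + 2) := by
  rcases hp2 with rfl | hp
  · simp only [symBound, if_pos, zero_add]
    rcases Nat.mod_two_eq_zero_or_one w with h | h
    · rw [if_neg (by omega), if_neg (by omega), if_neg (by omega), if_neg (by omega),
        show (w + 2) / 2 - 1 = w / 2 - 1 + 1 by omega, pow_succ, mul_comm]
    · rw [if_pos h, mul_zero]
      exact Nat.zero_le _
  · simp only [symBound, if_neg (show p ≠ 2 by omega), Nat.add_sub_cancel,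
      show w + 2 - 1 = w + 1 by omega]
    obtain ⟨v, rfl⟩ : ∃ v, w = v + 1 := ⟨w - 1, by omega⟩
    rw [Nat.add_sub_cancel, pow_succ p (v + 1), pow_succ p v]
    have h1 : p + (p + 1) ≤ p * p := by nlinarith
    calc p ^ v * p + (p + 1) * p ^ v = (p + (p + 1)) * p ^ v := by ring
      _ ≤ p * p * p ^ v := Nat.mul_le_mul_right _ h1
      _ = p ^ v * p * p := by ring

/-- Symmetric bead sets of weight `w` are few. -/
theorem card_sym_le [NeZero p] (hp2 : p = 2 ∨ 3 ≤ p) {N : ℕ} (hpo : p = 2 ∨ Odd p) {κ : Finset ℤ}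
    (hκ : ∀ x ∈ κ, 0 ≤ x) (hκc : ∀ x, ¬ Movable p κ x) :
    ∀ (w : ℕ) (T : Finset (Finset ℤ)), (∀ β ∈ T, IsSymOf p (2 * (N : ℤ) - 1) κ w β) →
      T.card ≤ symBound p w := by
  classical
  have hp : 0 < p := NeZero.pos p
  have hp' : (0 : ℤ) < p := by exact_mod_cast hp
  set c : ℤ := 2 * (N : ℤ) - 1 with hc
  have hlow : ∀ γ : Finset ℤ, (∀ x ∈ γ, 0 ≤ x) → cntS p γ = cntS p κ →
      ∃ u : ℕ, ∑ x ∈ γ, x = ∑ x ∈ κ, x + (p : ℤ) * u :=
    fun γ h0 hcn => exists_weight hp hκ hκc _ γ h0 hcn rfl
  intro w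
  induction w using Nat.strong_induction_on with
  | _ w ih =>
  intro T hT
  have hclosed : ∀ β ∈ T, (∀ x, ¬ Movable p β x) → w = 0 ∧ β = κ := fun β hβ hcl => by
    have he := closed_unique hp (hT β hβ).nonneg hκ hcl hκc (hT β hβ).2.1
    refine ⟨?_, he⟩
    have hs := (hT β hβ).2.2
    rw [he] at hs
    by_contra hw
    have : (0 : ℤ) < (p : ℤ) * w := mul_pos hp' (by exact_mod_cast Nat.pos_of_ne_zero hw)
    omega
  set T1 := T.filter fun β => ∃ b, 2 * b = c + p ∧ Movable p β b with hT1
  set T2 := T.filter fun β => ¬ ∃ b, 2 * b = c + p ∧ Movable p β b with hT2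
  have hcard : T.card = T1.card + T2.card := (Finset.card_filter_add_card_filter_not _).symm
  have hmov : ∀ β ∈ T2, 0 < w → Movable p β (least p β) := fun β hβ hw => by
    by_contra hno
    obtain ⟨h0, -⟩ := hclosed β (Finset.mem_filter.1 hβ).1 fun x hx => hno (least_spec hx).1
    omega
  have hpf : ∀ β ∈ T2, 0 < w → IsSymOf p c κ (w - 2) (downPair p c β (least p β)) ∧ 2 ≤ w ∧
      2 * least p β ≠ c + p := by
    intro β hβ hw
    have hb := hmov β hβ hw
    obtain ⟨hβT, hnc⟩ := Finset.mem_filter.1 hβ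
    have hne : 2 * least p β ≠ c + p := fun h => hnc ⟨_, h, hb⟩
    obtain ⟨-, -, -, hm', hsym⟩ := pair_facts hp (hT β hβT).1 hb (least_spec hb).2 hne
    have hcn : cntS p (downPair p c β (least p β)) = cntS p κ := by
      rw [downPair, cntS_down p hm', cntS_down p hb, (hT β hβT).2.1]
    have hs := sum_downPair p c hb hm'
    rw [(hT β hβT).2.2] at hs
    obtain ⟨u, hu⟩ := hlow _ (fun x hx => (hsym.1 x hx).1) hcn
    have h2 : (w : ℤ) = (u : ℤ) + 2 := by
      have : (p : ℤ) * w = (p : ℤ) * ((u : ℤ) + 2) := by linarith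
      exact mul_left_cancel₀ hp'.ne' this
    have hw2 : w = u + 2 := by exact_mod_cast h2
    refine ⟨⟨hsym, hcn, ?_⟩, by omega, hne⟩
    rw [hu, show w - 2 = u by omega]
  rcases Nat.eq_zero_or_pos w with rfl | hw
  · rw [show symBound p 0 = 1 by unfold symBound; split_ifs <;> simp_all, Finset.card_le_one]
    have : ∀ β ∈ T, β = κ := fun β hβ => by
      refine closed_unique hp (hT β hβ).nonneg hκ (fun x hx => ?_) hκc (hT β hβ).2.1
      obtain ⟨u, hu⟩ := hlow (down p β x) (nonneg_down p hx (hT β hβ).nonneg)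
        (by rw [cntS_down p hx, (hT β hβ).2.1])
      have h1 := sum_down p hx
      have h2 := (hT β hβ).2.2
      have : (0 : ℤ) ≤ (p : ℤ) * u := by positivity
      simp only [Nat.cast_zero, mul_zero, add_zero] at h2
      omega
    exact fun a ha b hb => (this a ha).trans (this b hb).symm
  -- the central moves
  have hT1c : T1.card ≤ if p = 2 then 0 else symBound p (w - 1) := by
    split_ifs with h2
    · rw [Nat.le_zero, Finset.card_eq_zero, Finset.filter_eq_empty_iff]
      rintro β - ⟨b, hb, -⟩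
      subst h2
      push_cast at hb
      omega
    · rcases T1.eq_empty_or_nonempty with he | ⟨β0, hβ0⟩
      · simp [he]
      obtain ⟨b, hb, -⟩ := (Finset.mem_filter.1 hβ0).2
      have hmem : ∀ β ∈ T1, β ∈ T ∧ Movable p β b := fun β hβ => by
        obtain ⟨h1, b', hb', hmv⟩ := Finset.mem_filter.1 hβ
        exact ⟨h1, by rwa [show b = b' by omega]⟩
      rw [← Finset.card_image_of_injOn (f := fun β => down p β b) (fun β hβ γ hγ he => ?_)]
      · refine ih _ (by omega) _ fun γ hγ => ?_
        obtain ⟨β, hβ, rfl⟩ := Finset.mem_image.1 hγ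
        obtain ⟨hβT, hmv⟩ := hmem β hβ
        refine ⟨symSet_down hp (hT β hβT).1 hmv hb, by rw [cntS_down p hmv, (hT β hβT).2.1], ?_⟩
        rw [sum_down p hmv, (hT β hβT).2.2, Nat.cast_sub hw]
        push_cast
        ring
      · have h1 := (hmem β (Finset.mem_coe.1 hβ)).2
        have h2 := (hmem γ (Finset.mem_coe.1 hγ)).2
        have he' : down p β b = down p γ b := he
        have h3 : ∀ {δ : Finset ℤ}, Movable p δ b →
            δ = insert b ((down p δ b).erase (b - (p : ℤ))) := fun {δ} h => by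
          rw [down, Finset.erase_insert fun hm => h.2.2 (Finset.mem_of_mem_erase hm),
            Finset.insert_erase h.1]
        rw [h3 h1, h3 h2, he']
  rcases T2.eq_empty_or_nonempty with he | ⟨β0, hβ0⟩
  · rw [hcard, he, Finset.card_empty, add_zero]
    refine hT1c.trans ?_
    unfold symBound
    split_ifs with h2 <;> first
      | exact Nat.zero_le _
      | exact Nat.pow_le_pow_right hp (by omega)
  have hw2 := (hpf β0 hβ0 hw).2.1
  -- the paired moves
  set f : Finset ℤ → Finset ℤ × Option (ZMod p) :=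
    fun β => (downPair p c β (least p β), pairTag p c β) with hf
  have hinj : Set.InjOn f T2 := by
    intro β hβ γ hγ he
    have hβ' := Finset.mem_coe.1 hβ
    have hγ' := Finset.mem_coe.1 hγ
    obtain ⟨he1, he2⟩ := Prod.mk.inj he
    have hb := hmov β hβ' hw
    have hg := hmov γ hγ' hw
    have sb := (hT β (Finset.mem_filter.1 hβ').1)
    have sg := (hT γ (Finset.mem_filter.1 hγ').1)
    have nb := (hpf β hβ' hw).2.2
    have ng := (hpf γ hγ' hw).2.2
    obtain ⟨lb1, lb2⟩ := pair_locate hp sb.1 hb (least_spec hb).2 nb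
    obtain ⟨lg1, lg2⟩ := pair_locate hp sg.1 hg (least_spec hg).2 ng
    have hbg : least p β = least p γ := by
      unfold pairTag at he2
      by_cases h1 : Movable p (downPair p c β (least p β)) (least p β - (p : ℤ)) <;>
        by_cases h2 : Movable p (downPair p c γ (least p γ)) (least p γ - (p : ℤ))
      · have e1 := lb1 _ (he1 ▸ h2)
        have e2 := lg1 _ (he1 ▸ h1)
        omega
      · rw [if_pos h1, if_neg h2] at he2
        simp at he2
      · rw [if_neg h1, if_pos h2] at he2
        simp at he2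
      · rw [if_neg h1, if_neg h2, Option.some.injEq] at he2
        obtain ⟨a1, a2⟩ := lb2 h1
        obtain ⟨c1, c2⟩ := lg2 h2
        rw [← he1] at c1 c2
        exact top_unique hp he2 (sb.nonneg _ hb.1) (sg.nonneg _ hg.1) a1 c1 a2 c2
    rw [recover_pair p c hb (pair_facts hp sb.1 hb (least_spec hb).2 nb).2.2.2.1,
      recover_pair p c hg (pair_facts hp sg.1 hg (least_spec hg).2 ng).2.2.2.1, ← hbg, he1, ← hbg]
  have himg : (T2.image fun β => downPair p c β (least p β)).card ≤ symBound p (w - 2) :=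
    ih _ (by omega) _ fun γ hγ => by
      obtain ⟨β, hβ, rfl⟩ := Finset.mem_image.1 hγ
      exact (hpf β hβ hw).1
  by_cases hw2' : w = 2
  swap
  · have h3 : T2.card ≤ (p + 1) * symBound p (w - 2) := by
      refine (Finset.card_le_card_of_injOn f (t := (T2.image fun β => downPair p c β (least p β)) ×ˢ
        (Finset.univ : Finset (Option (ZMod p)))) (fun β hβ => Finset.mem_coe.2
          (Finset.mem_product.2 ⟨Finset.mem_image_of_mem _ hβ, Finset.mem_univ _⟩)) hinj).trans ?_
      rw [Finset.card_product, Finset.card_univ, Fintype.card_option, ZMod.card, mul_comm]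
      exact Nat.mul_le_mul_left _ himg
    have h4 := symBound_step (p := p) (w := w - 2) hp2 (by omega)
    rw [show w - 2 + 1 = w - 1 by omega, show w - 2 + 2 = w by omega] at h4
    omega
  subst hw2'
  have hκ' : ∀ β ∈ T2, downPair p c β (least p β) = κ := fun β hβ => by
    obtain ⟨⟨hsym, hcn, hs⟩, -, -⟩ := hpf β hβ hw
    refine closed_unique hp (fun x hx => (hsym.1 x hx).1) hκ (fun x hx => ?_) hκc hcn
    obtain ⟨u, hu⟩ := hlow (down p _ x) (nonneg_down p hx fun y hy => (hsym.1 y hy).1)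
      (by rw [cntS_down p hx, hcn])
    have h1 := sum_down p hx
    have : (0 : ℤ) ≤ (p : ℤ) * u := by positivity
    simp only [Nat.sub_self, Nat.cast_zero, mul_zero, add_zero] at hs
    omega
  -- each such set is a least bead below its partner, both free over `κ`
  have hres : ∀ β ∈ T2, least p β < partner p c (least p β) ∧
      least p β ∉ κ ∧ partner p c (least p β) ∉ κ ∧
      (∀ z : ℤ, (z : ZMod p) = ((least p β : ℤ) : ZMod p) → 0 ≤ z → z ≤ least p β - (p : ℤ) → z ∈ κ) ∧
      (∀ z : ℤ, (z : ZMod p) = ((partner p c (least p β) : ℤ) : ZMod p) → 0 ≤ z →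
        z ≤ partner p c (least p β) - (p : ℤ) → z ∈ κ) := by
    intro β hβ
    have hb := hmov β hβ hw
    have sb := (hT β (Finset.mem_filter.1 hβ).1)
    have nb := (hpf β hβ hw).2.2
    obtain ⟨p1, p2, p3, p4, -⟩ := pair_facts hp sb.1 hb (least_spec hb).2 nb
    obtain ⟨-, l2⟩ := pair_locate hp sb.1 hb (least_spec hb).2 nb
    rw [hκ' β hβ] at l2
    obtain ⟨l3, l4⟩ := l2 (hκc _)
    refine ⟨p1, l3, ?_, l4, fun z hz hz0 hzm => ?_⟩
    · rw [← hκ' β hβ]
      simp only [downPair, down, Finset.mem_insert, Finset.mem_erase]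
      rintro (h1 | ⟨h1, -⟩)
      · omega
      · exact h1 rfl
    · have hmem : partner p c (least p β) - (p : ℤ) ∈ κ := by
        rw [← hκ' β hβ]
        exact Finset.mem_insert_self _ _
      exact mem_below hp hmem (fun _ _ => hκc _) (by simp [hz]) hz0 hzm
  have htag : ∀ β ∈ T2, pairTag p c β = some ((least p β : ℤ) : ZMod p) := fun β hβ => by
    rw [pairTag, hκ' β hβ, if_neg (hκc _)]
  have hnm : ∀ β ∈ T2, ((partner p c (least p β) : ℤ) : ZMod p) ≠ ((least p β : ℤ) : ZMod p) := by
    intro β hβ he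
    obtain ⟨h1, h2, h3, h4, h5⟩ := hres β hβ
    have hb := hmov β hβ hw
    have h0 := (hT β (Finset.mem_filter.1 hβ).1).nonneg _ hb.1
    exact h1.ne (top_unique hp he.symm h0 (by omega) h2 h3 h4 h5)
  set g : Finset ℤ → ZMod p := fun β => ((least p β : ℤ) : ZMod p)
  have hg : Set.InjOn g T2 := fun β hβ γ hγ he =>
    hinj hβ hγ (Prod.ext ((hκ' β hβ).trans (hκ' γ hγ).symm) (by
      simp only [f, htag β hβ, htag γ hγ]
      exact congrArg some he))
  rcases hpo with rfl | hodd
  · have h1 : T2.card ≤ 1 := by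
      rw [Finset.card_le_one]
      intro β hβ γ hγ
      by_contra hne
      have hdiff : g β ≠ g γ := fun h => hne (hg hβ hγ h)
      have e1 : ((partner 2 c (least 2 β) : ℤ) : ZMod 2) = g γ := by
        have := hnm β hβ
        revert this hdiff
        simp only [g]
        generalize ((partner 2 c (least 2 β) : ℤ) : ZMod 2) = a
        generalize ((least 2 β : ℤ) : ZMod 2) = b
        generalize ((least 2 γ : ℤ) : ZMod 2) = d
        revert a b d
        decide
      have e2 : ((partner 2 c (least 2 γ) : ℤ) : ZMod 2) = g β := by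
        have := hnm γ hγ
        revert this hdiff
        simp only [g]
        generalize ((partner 2 c (least 2 γ) : ℤ) : ZMod 2) = a
        generalize ((least 2 β : ℤ) : ZMod 2) = b
        generalize ((least 2 γ : ℤ) : ZMod 2) = d
        revert a b d
        decide
      obtain ⟨b1, b2, b3, b4, b5⟩ := hres β hβ
      obtain ⟨c1, c2, c3, c4, c5⟩ := hres γ hγ
      have hb0 := (hT β (Finset.mem_filter.1 hβ).1).nonneg _ (hmov β hβ hw).1
      have hc0 := (hT γ (Finset.mem_filter.1 hγ).1).nonneg _ (hmov γ hγ hw).1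
      have f1 := top_unique hp e1 (by omega) hc0 b3 c2 b5 c4
      have f2 := top_unique hp e2 (by omega) hb0 c3 b2 c5 b4
      omega
    simp only [symBound, if_pos] at hT1c ⊢
    simp only [show ¬(2 % 2 = 1) by omega, if_false,
      show ¬ ((2 : ℕ) = 0) by omega, show 2 / 2 - 1 = 0 by rfl, pow_zero] at hT1c ⊢
    omega
  have hp3 : 3 ≤ p := by
    rcases hp2 with rfl | h
    · exact absurd hodd (by decide)
    · exact h
  -- the self-mirrored runner does not occur
  obtain ⟨q, hq⟩ := hodd
  set r : ZMod p := ((q + N : ℕ) : ZMod p) with hr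
  have h2N : (2 : ZMod p) * r = (c : ZMod p) := by
    have hz : ((2 * q + 1 : ℕ) : ZMod p) = 0 := by rw [← hq]; exact ZMod.natCast_self p
    simp only [r, hc]
    push_cast at hz ⊢
    linear_combination hz
  have hcount : T2.card ≤ p - 1 := by
    rw [← Finset.card_image_of_injOn hg]
    refine (Finset.card_le_card (t := (Finset.univ : Finset (ZMod p)).erase r) fun x hx => ?_).trans
      (by simp [Finset.card_erase_of_mem, ZMod.card])
    obtain ⟨β, hβ, rfl⟩ := Finset.mem_image.1 hx
    refine Finset.mem_erase.2 ⟨fun he => hnm β hβ ?_, Finset.mem_univ _⟩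
    simp only [partner, Int.cast_add, Int.cast_sub, Int.cast_natCast, ZMod.natCast_self, add_zero,
      ← h2N]
    simp only [g] at he
    rw [he]
    ring
  simp only [symBound, if_neg (show p ≠ 2 by omega), show (2 : ℕ) - 1 = 1 by rfl,
    show (1 : ℕ) - 1 = 0 by rfl, pow_one, pow_zero] at hT1c ⊢
  omega

/-- The step of the recursion for bead sets with runner `r` gapless. -/
theorem step_le [NeZero p] (r : ZMod p) {κ : Finset ℤ} (hκ : ∀ x ∈ κ, 0 ≤ x)
    (hκc : ∀ x, ¬ Movable p κ x) (w : ℕ) (T : Finset (Finset ℤ))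
    (hT : ∀ β ∈ T, (∀ x ∈ β, 0 ≤ x) ∧ cntS p β = cntS p κ ∧
      (∀ x, Movable p β x → (x : ZMod p) ≠ r) ∧ ∑ x ∈ β, x = ∑ x ∈ κ, x + (p : ℤ) * (w + 1 : ℕ)) :
    (∀ γ ∈ T.image (fun β => down p β (least p β)), (∀ x ∈ γ, 0 ≤ x) ∧ cntS p γ = cntS p κ ∧
      (∀ x, Movable p γ x → (x : ZMod p) ≠ r) ∧ ∑ x ∈ γ, x = ∑ x ∈ κ, x + (p : ℤ) * w) ∧
    (∀ β ∈ T, Movable p β (least p β)) ∧
    Set.InjOn (fun β => (down p β (least p β), stepTag p r β)) T := by
  classical
  have hp : 0 < p := NeZero.pos p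
  have hp' : (0 : ℤ) < p := by exact_mod_cast hp
  have hmov : ∀ β ∈ T, Movable p β (least p β) := by
    intro β hβ
    obtain ⟨h0, hc, -, hs⟩ := hT β hβ
    by_contra hno
    have := closed_unique hp h0 hκ (fun x hx => hno (least_spec hx).1) hκc hc
    rw [this] at hs
    push_cast at hs
    nlinarith
  refine ⟨fun γ hγ => ?_, hmov, fun β hβ γ hγ he => ?_⟩
  · obtain ⟨β, hβ, rfl⟩ := Finset.mem_image.1 hγ
    obtain ⟨h0, hc, hr, hs⟩ := hT β hβ
    have hb := hmov β hβ
    refine ⟨nonneg_down p hb h0, by rw [cntS_down p hb, hc], fun x hx hxr => ?_, ?_⟩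
    · obtain ⟨h1, h2, h3⟩ := hx
      have hbr := hr _ hb
      rcases Finset.mem_insert.1 h1 with rfl | h1
      · exact hbr (by simpa using hxr)
      · refine hr x ⟨Finset.mem_of_mem_erase h1, h2, fun hm => h3 ?_⟩ hxr
        refine Finset.mem_insert_of_mem (Finset.mem_erase.2 ⟨fun he => hbr ?_, hm⟩)
        rw [← he]
        simpa using hxr
    · rw [sum_down p hb, hs]
      push_cast
      ring
  · have hβ' := Finset.mem_coe.1 hβ
    have hγ' := Finset.mem_coe.1 hγ
    obtain ⟨he1, he2⟩ := Prod.mk.inj he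
    have hrb := (hT β hβ').2.2.1 _ (hmov β hβ')
    have hrc := (hT γ hγ').2.2.1 _ (hmov γ hγ')
    simp only [stepTag] at he2
    refine least_inj hp (hT β hβ').1 (hT γ hγ').1 (hmov β hβ') (hmov γ hγ') he1 ?_ fun hn => ?_
    · by_cases h1 : Movable p (down p β (least p β)) (least p β - (p : ℤ)) <;>
        by_cases h2 : Movable p (down p γ (least p γ)) (least p γ - (p : ℤ))
      · exact iff_of_true h1 h2
      · rw [if_pos h1, if_neg h2] at he2
        exact absurd he2.symm hrc
      · rw [if_neg h1, if_pos h2] at he2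
        exact absurd he2 hrb
      · exact iff_of_false h1 h2
    · rw [if_neg hn] at he2
      split_ifs at he2
      · exact absurd he2 hrb
      · exact he2

/-- For `p = 2` the sharper bound from weight three on. -/
theorem card_le_two (r : ZMod 2) {κ : Finset ℤ} (hκ : ∀ x ∈ κ, 0 ≤ x)
    (hκc : ∀ x, ¬ Movable 2 κ x) :
    ∀ (w : ℕ), 3 ≤ w → ∀ T : Finset (Finset ℤ), (∀ β ∈ T, (∀ x ∈ β, 0 ≤ x) ∧
      cntS 2 β = cntS 2 κ ∧ (∀ x, Movable 2 β x → (x : ZMod 2) ≠ r) ∧
      ∑ x ∈ β, x = ∑ x ∈ κ, x + ((2 : ℕ) : ℤ) * w) → T.card ≤ 3 * 2 ^ (w - 3) := by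
  classical
  intro w hw
  induction w, hw using Nat.le_induction with
  | succ w hw ih =>
    intro T hT
    obtain ⟨hT', -, hinj⟩ := step_le r hκ hκc w T hT
    refine (Finset.card_le_card_of_injOn _ (t := (T.image fun β => down 2 β (least 2 β)) ×ˢ
      (Finset.univ : Finset (ZMod 2))) (fun β hβ => Finset.mem_coe.2 (Finset.mem_product.2
        ⟨Finset.mem_image_of_mem _ hβ, Finset.mem_univ _⟩)) hinj).trans ?_
    rw [Finset.card_product, Finset.card_univ, ZMod.card,
      show w + 1 - 3 = w - 3 + 1 by omega, pow_succ, ← mul_assoc]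
    exact Nat.mul_le_mul_right _ (ih _ hT')
  | base =>
    intro T hT
    obtain ⟨hT', hmov, hinj⟩ := step_le r hκ hκc 2 T hT
    set T' := T.image fun β => down 2 β (least 2 β) with hT'def
    have hT'c : T'.card ≤ 2 := by
      simpa using card_le r hκ hκc 2 T' hT'
    by_cases hsmall : T'.card ≤ 1
    · refine ((Finset.card_le_card_of_injOn _ (t := T' ×ˢ (Finset.univ : Finset (ZMod 2)))
        (fun β hβ => Finset.mem_coe.2 (Finset.mem_product.2
          ⟨Finset.mem_image_of_mem _ hβ, Finset.mem_univ _⟩)) hinj).trans ?_)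
      rw [Finset.card_product, Finset.card_univ, ZMod.card]
      omega
    obtain ⟨hT'', hmov', hinj'⟩ := step_le r hκ hκc 1 T' hT'
    -- some member of weight two was made by a new part
    have hex : ∃ γ ∈ T', ¬ Movable 2 (down 2 γ (least 2 γ)) (least 2 γ - ((2 : ℕ) : ℤ)) := by
      by_contra hno
      push Not at hno
      refine hsmall ?_
      have h1 := card_le r hκ hκc 1 (T'.image fun γ => down 2 γ (least 2 γ)) hT''
      simp only [Nat.one_ne_zero, if_false, Nat.sub_self, pow_zero, mul_one] at h1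
      have h2 : T'.card ≤ (T'.image fun γ => down 2 γ (least 2 γ)).card := by
        refine le_of_eq (Finset.card_image_of_injOn fun a ha b hb he => ?_).symm
        refine hinj' ha hb (Prod.ext he ?_)
        simp only [stepTag, if_pos (hno a (Finset.mem_coe.1 ha)), if_pos (hno b (Finset.mem_coe.1 hb))]
      omega
    obtain ⟨γ, hγ, hγB⟩ := hex
    set δ := down 2 γ (least 2 γ) with hδ
    set b := least 2 γ with hbdef
    obtain ⟨hδ0, hδc, hδr, hδs⟩ := hT'' δ (Finset.mem_image_of_mem _ hγ)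
    obtain ⟨hγ0, -, hγr, -⟩ := hT' γ hγ
    have hb := hmov' γ hγ
    have hmin := (least_spec hb).2
    have hbmem : b - ((2 : ℕ) : ℤ) ∈ δ := Finset.mem_insert_self _ _
    have hbδ : b ∉ δ := by
      intro h
      rcases Finset.mem_insert.1 h with h | h
      · omega
      · exact Finset.ne_of_mem_erase h rfl
    obtain ⟨e, he⟩ : ∃ e, Movable 2 δ e := by
      by_contra hno
      push Not at hno
      rw [closed_unique (by norm_num) hδ0 hκ hno hκc hδc] at hδs
      push_cast at hδs
      omega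
    obtain ⟨he1, he2, he3⟩ := he
    have hres : (e : ZMod 2) = ((b : ℤ) : ZMod 2) := by
      have h1 := hδr e ⟨he1, he2, he3⟩
      have h2 := hγr b hb
      exact (by decide : ∀ r x y : ZMod 2, x ≠ r → y ≠ r → x = y) r _ _ h1 h2
    -- its predecessor has the single step `e`, which must sit just above
    have hcl : ∀ x, ¬ Movable 2 (down 2 δ e) x := fun x hx => by
      obtain ⟨u, hu⟩ := exists_weight (p := 2) (by norm_num) hκ hκc _ _
        (nonneg_down 2 hx (nonneg_down 2 ⟨he1, he2, he3⟩ hδ0))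
        (by rw [cntS_down 2 hx, cntS_down 2 ⟨he1, he2, he3⟩, hδc]) rfl
      have h1 := sum_down 2 hx
      have h2 := sum_down 2 (show Movable 2 δ e from ⟨he1, he2, he3⟩)
      push_cast at *
      omega
    have hbe : b < e := by
      have h1 := le_of_movable_down (p := 2) (by norm_num) hmin (x := e) ⟨he1, he2, he3⟩
      have hne1 : e ≠ b - ((2 : ℕ) : ℤ) := fun h => hγB (h ▸ ⟨he1, he2, he3⟩)
      have hne2 : e ≠ b := fun h => hbδ (h ▸ he1)
      have hpar : (2 : ℤ) ∣ e - b := by
        rw [show (2 : ℤ) = ((2 : ℕ) : ℤ) by rfl, ← ZMod.intCast_zmod_eq_zero_iff_dvd, Int.cast_sub,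
          hres, sub_self]
      push_cast at h1 hne1
      omega
    have heq : e - ((2 : ℕ) : ℤ) = b := by
      have hmem : e - ((2 : ℕ) : ℤ) ∈ down 2 δ e := Finset.mem_insert_self _ _
      have hpar : (2 : ℤ) ∣ e - b := by
        rw [show (2 : ℤ) = ((2 : ℕ) : ℤ) by rfl, ← ZMod.intCast_zmod_eq_zero_iff_dvd, Int.cast_sub,
          hres, sub_self]
      have hin := mem_below (p := 2) (by norm_num) hmem (fun _ _ => hcl _) (y := b)
        (by
          have h2 : ((2 : ℕ) : ZMod 2) = 0 := ZMod.natCast_self 2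
          rw [Int.cast_sub, hres, Int.cast_natCast, h2, sub_zero])
        (hγ0 b hb.1) (by push_cast; omega)
      rcases Finset.mem_insert.1 hin with h | h
      · exact h.symm
      · exact absurd (Finset.mem_of_mem_erase h) hbδ
    have hocc : b + ((2 : ℕ) : ℤ) ∈ γ := by
      have h : b + ((2 : ℕ) : ℤ) ∈ down 2 γ (least 2 γ) := by rwa [show b + _ = e from by omega]
      rcases Finset.mem_insert.1 h with h | h
      · push_cast at h; omega
      · exact Finset.mem_of_mem_erase h
    -- so that member cannot be lengthened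
    have hbad : ∀ β ∈ T, (down 2 β (least 2 β), stepTag 2 r β) ≠ (γ, r) := by
      intro β hβ heq'
      obtain ⟨h1, h2⟩ := Prod.mk.inj heq'
      have hβb := hmov β hβ
      have hA : Movable 2 (down 2 β (least 2 β)) (least 2 β - ((2 : ℕ) : ℤ)) := by
        by_contra hn
        rw [stepTag, if_neg hn] at h2
        exact (hT β hβ).2.2.1 _ hβb h2
      rw [h1] at hA
      have e1 : b ≤ least 2 β - ((2 : ℕ) : ℤ) := hmin _ hA
      have e2 := le_of_movable_down (p := 2) (by norm_num) (least_spec hβb).2 (x := b)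
        (by rw [h1]; exact hb)
      have e3 : least 2 β ∉ γ := by
        rw [← h1]
        intro h
        rcases Finset.mem_insert.1 h with h | h
        · push_cast at h; omega
        · exact Finset.ne_of_mem_erase h rfl
      exact e3 (by rwa [show least 2 β = b + ((2 : ℕ) : ℤ) by omega])
    refine (Finset.card_le_card_of_injOn _ (t := (T' ×ˢ (Finset.univ : Finset (ZMod 2))).erase (γ, r))
      (fun β hβ => Finset.mem_coe.2 (Finset.mem_erase.2 ⟨hbad β hβ, Finset.mem_product.2
        ⟨Finset.mem_image_of_mem _ hβ, Finset.mem_univ _⟩⟩)) hinj).trans ?_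
    rw [Finset.card_erase_of_mem (Finset.mem_product.2 ⟨hγ, Finset.mem_univ _⟩),
      Finset.card_product, Finset.card_univ, ZMod.card]
    simp
    omega

end Cfsg.Agent.SymRank
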