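import Cfsg.Agent.Lib.Blocks.SymRank.Fock

/-!
# The value at the identity: the degree formula
-/

namespace Cfsg.Agent.SymRank

open Equiv Matrix

variable {N : ℕ}

theorem mul_pow_pred (j : ℕ) : ∃ c : ℕ → ℤ, ∀ x : ℤ,
    x * (x - 1) ^ j = (x - j) * x ^ j + ∑ l ∈ Finset.range j, c l * x ^ l := by
  induction j with
  | zero => exact ⟨fun _ => 0, fun x => by simp⟩
  | succ j ih =>
    obtain ⟨c, hc⟩ := ih
    refine ⟨fun l => (if l = 0 then 0 else c (l - 1)) - if l = j then -(j : ℤ) else c l, fun x => ?_⟩
    simp only [sub_mul, Finset.sum_sub_distrib]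
    have h1 : ∑ l ∈ Finset.range (j + 1), (if l = 0 then 0 else c (l - 1)) * x ^ l =
        x * ∑ l ∈ Finset.range j, c l * x ^ l := by
      rw [Finset.sum_range_succ', Finset.mul_sum]
      simp [pow_succ]
      exact Finset.sum_congr rfl fun l _ => by ring
    have h2 : ∑ l ∈ Finset.range (j + 1), (if l = j then -(j : ℤ) else c l) * x ^ l =
        (∑ l ∈ Finset.range j, c l * x ^ l) - (j : ℤ) * x ^ j := by
      rw [Finset.sum_range_succ, if_pos rfl]
      rw [Finset.sum_congr rfl (g := fun l => c l * x ^ l) fun l hl => by
        rw [if_neg (Finset.mem_range.1 hl).ne]]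
      ring
    rw [h1, h2, pow_succ (x - 1), ← mul_assoc, hc x, Nat.cast_succ]
    ring

theorem det_updateRow_eq (A : Matrix (Fin N) (Fin N) ℤ) (i : Fin N) (b : Fin N → ℤ) :
    (A.updateRow i b).det = ∑ j, b j * A.adjugate j i := by
  rw [← det_transpose, ← updateCol_transpose, ← cramer_apply, cramer_eq_adjugate_mulVec,
    ← adjugate_transpose]
  simp only [mulVec, dotProduct, transpose_apply]
  exact Finset.sum_congr rfl fun j _ => mul_comm _ _

/-- Lowering one bead in turn multiplies the Vandermonde product by the degree. -/
theorem sum_mul_vandermonde (v : Fin N → ℤ) :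
    ∑ i, v i * (vandermonde (v - Pi.single i 1)).det =
      (∑ i, v i - off N) * (vandermonde v).det := by
  choose c hc using fun j : Fin N => mul_pow_pred (j : ℕ)
  have hrow : ∀ i, v i * (vandermonde (v - Pi.single i 1)).det =
      ∑ j : Fin N, (v i * (v i - 1) ^ (j : ℕ)) * (vandermonde v).adjugate j i := by
    intro i
    have h : vandermonde (v - Pi.single i 1) =
        (vandermonde v).updateRow i fun j => (v i - 1) ^ (j : ℕ) := by
      ext a b
      rw [vandermonde_apply, updateRow_apply]
      split_ifs with h
      · subst h
        simp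
      · simp [h, vandermonde_apply]
    rw [h, det_updateRow_eq, Finset.mul_sum]
    exact Finset.sum_congr rfl fun j _ => by ring
  have h1 : ∀ l j : Fin N, ∑ i, v i ^ (l : ℕ) * (vandermonde v).adjugate j i =
      if l = j then (vandermonde v).det else 0 := by
    intro l j
    have h := congrFun (congrFun (adjugate_mul (vandermonde v)) j) l
    simp only [mul_apply, Matrix.smul_apply, smul_eq_mul, one_apply, vandermonde_apply] at h
    rw [Finset.sum_congr rfl fun i _ => mul_comm _ _, h]
    split_ifs with h1 h2 h3
    · exact mul_one _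
    · exact absurd h1.symm h2
    · exact absurd h3.symm h1
    · exact mul_zero _
  have h2 : ∀ i, ∑ j : Fin N, v i ^ (j : ℕ) * (vandermonde v).adjugate j i = (vandermonde v).det := by
    intro i
    have h := congrFun (congrFun (mul_adjugate (vandermonde v)) i) i
    simpa [mul_apply, vandermonde_apply] using h
  rw [Finset.sum_congr rfl fun i _ => hrow i]
  simp only [hc, add_mul, sub_mul, Finset.sum_add_distrib, Finset.sum_sub_distrib, Finset.sum_mul]
  have t1 : ∑ i, ∑ j : Fin N, v i * v i ^ (j : ℕ) * (vandermonde v).adjugate j i =
      ∑ i, v i * (vandermonde v).det := by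
    refine Finset.sum_congr rfl fun i _ => ?_
    rw [← h2 i, Finset.mul_sum]
    exact Finset.sum_congr rfl fun j _ => mul_assoc _ _ _
  have t2 : ∑ i, ∑ j : Fin N, ((j : ℕ) : ℤ) * v i ^ (j : ℕ) * (vandermonde v).adjugate j i =
      ∑ j : Fin N, ((j : ℕ) : ℤ) * (vandermonde v).det := by
    rw [Finset.sum_comm]
    refine Finset.sum_congr rfl fun j _ => ?_
    rw [Finset.sum_congr rfl fun i _ => mul_assoc _ _ _, ← Finset.mul_sum, h1, if_pos rfl]
  have t3 : ∑ i, ∑ j : Fin N, ∑ l ∈ Finset.range (j : ℕ),
      c j l * v i ^ l * (vandermonde v).adjugate j i = 0 := by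
    rw [Finset.sum_comm]
    refine Finset.sum_eq_zero fun j _ => ?_
    rw [Finset.sum_comm]
    refine Finset.sum_eq_zero fun l hl => ?_
    have hl' := Finset.mem_range.1 hl
    rw [Finset.sum_congr rfl fun i _ => mul_assoc _ _ _, ← Finset.mul_sum,
      h1 ⟨l, by omega⟩ j, if_neg fun e => hl'.ne (congrArg Fin.val e), mul_zero]
  rw [t1, t2, t3, add_zero]
  rw [off, Finset.sum_mul]

/-- The product of the factorials of the positions. -/
def facts (v : Fin N → ℤ) : ℤ := ∏ i, ((v i).toNat.factorial : ℤ)

theorem facts_low (π : Perm (Fin N)) : facts (low N ∘ π) = facts (low N) :=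
  Equiv.prod_comp π fun i => ((low N i).toNat.factorial : ℤ)

/-- The value at the identity. -/
theorem val_one_mul : ∀ (n : ℕ) {v : Fin N → ℤ}, (∀ i, 0 ≤ v i) →
    ∑ i, v i = (n : ℤ) + off N →
      val (Multiset.replicate n 1) v * facts v * (vandermonde (low N)).det =
        (n.factorial : ℤ) * facts (low N) * (vandermonde v).det := by
  intro n
  induction n with
  | zero =>
    intro v h0 hs
    rw [Multiset.replicate_zero, val_zero]
    by_cases hv : Function.Injective v
    · obtain ⟨π, rfl⟩ := eq_low_of_isSt_zero (v := v) ⟨h0, hv, hs⟩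
      rw [base_low_comp, facts_low, show vandermonde (low N ∘ π) =
        (vandermonde (low N)).submatrix π id from rfl, det_permute]
      simp
      ring
    · rw [show base v = 0 from alt_eq_zero (h := base) (fun v τ => by simpa using base_comp v τ) hv,
        (det_vandermonde_eq_zero_iff.2 (Function.not_injective_iff.1 hv))]
      simp
  | succ n ih =>
    intro v h0 hs
    rw [Multiset.replicate_succ, val_cons, Finset.sum_mul, Finset.sum_mul]
    have key : ∀ i, val (Multiset.replicate n 1) (v - Pi.single i ((1 : ℕ) : ℤ)) * facts v *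
        (vandermonde (low N)).det =
          (n.factorial : ℤ) * facts (low N) * (v i * (vandermonde (v - Pi.single i 1)).det) := by
      intro i
      rw [Nat.cast_one]
      by_cases hi : v i = 0
      · rw [hi, zero_mul, mul_zero]
        by_contra hne
        have h := (val_support _ (left_ne_zero_of_mul (left_ne_zero_of_mul hne))).1 i
        simp [hi] at h
      · have hi' := h0 i
        have hv' : ∀ j, 0 ≤ (v - Pi.single i 1 : Fin N → ℤ) j := by
          intro j
          have := h0 j
          simp only [Pi.sub_apply, Pi.single_apply]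
          split_ifs with hj
          · subst hj; omega
          · omega
        have h := ih hv' (by
          simp only [Pi.sub_apply, Finset.sum_sub_distrib, Finset.sum_pi_single', Finset.mem_univ,
            if_true, hs]
          push_cast
          ring)
        set w : Fin N → ℤ := v - Pi.single i 1 with hwdef
        have hf : facts v = v i * facts w := by
          simp only [hwdef]
          rw [facts, facts, ← Finset.mul_prod_erase _ _ (Finset.mem_univ i),
            ← Finset.mul_prod_erase (a := i) _ _ (Finset.mem_univ i), ← mul_assoc]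
          congr 1
          · simp only [Pi.sub_apply, Pi.single_eq_same]
            rw [show (v i).toNat = (v i - 1).toNat + 1 by omega, Nat.factorial_succ, Nat.cast_mul,
              Nat.cast_succ, Int.toNat_of_nonneg (by omega), sub_add_cancel]
          · exact Finset.prod_congr rfl fun j hj => by simp [Finset.ne_of_mem_erase hj]
        rw [hf]
        linear_combination v i * h
    rw [Finset.sum_congr rfl fun i _ => key i, ← Finset.mul_sum, sum_mul_vandermonde, hs,
      add_sub_cancel_right, Nat.factorial_succ]
    push_cast
    ring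

end Cfsg.Agent.SymRank
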