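import Mathlib

/-!
# Tuples of beads: the alternant functions of the symmetric groups

`val μ v` is the value at cycle type `μ` of the virtual character attached to the tuple `v` of
bead positions; it is alternating in `v`, and shifts of one bead remove one cycle.
-/

namespace Cfsg.Agent.SymRank

open Equiv

variable {N : ℕ}

/-- The sum of the positions of `N` beads with no gaps. -/
def off (N : ℕ) : ℤ := ∑ i : Fin N, (i : ℤ)

/-- The positions of `N` beads with no gaps. -/
def low (N : ℕ) : Fin N → ℤ := fun i => (i : ℤ)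

theorem low_injective : Function.Injective (low N) := fun i j h => by
  simp only [low, Nat.cast_inj] at h
  exact Fin.ext h

theorem sum_comp_perm (v : Fin N → ℤ) (π : Perm (Fin N)) : ∑ i, v (π i) = ∑ i, v i :=
  Equiv.sum_comp π v

/-- The alternant in degree zero. -/
def base (v : Fin N → ℤ) : ℤ :=
  ∑ π : Perm (Fin N), if v = low N ∘ π then (Perm.sign π : ℤ) else 0

/-- Adding a part of size `k` to a cycle type. -/
def push (k : ℕ) (f : (Fin N → ℤ) → ℤ) : (Fin N → ℤ) → ℤ :=
  fun v => ∑ i, f (v - Pi.single i (k : ℤ))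

instance : LeftCommutative (push (N := N)) where
  left_comm k l f := by
    funext v
    simp only [push]
    rw [Finset.sum_comm]
    refine Finset.sum_congr rfl fun i _ => Finset.sum_congr rfl fun j _ => ?_
    rw [sub_right_comm]

/-- The value at cycle type `μ` of the virtual character of the bead positions `v`. -/
def val (μ : Multiset ℕ) : (Fin N → ℤ) → ℤ := μ.foldr push base

theorem val_zero : val (N := N) 0 = base := Multiset.foldr_zero _ _

theorem val_cons (k : ℕ) (μ : Multiset ℕ) (v : Fin N → ℤ) :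
    val (k ::ₘ μ) v = ∑ i, val μ (v - Pi.single i (k : ℤ)) := by
  rw [val, Multiset.foldr_cons]
  rfl

theorem single_comp_perm (i : Fin N) (x : ℤ) (π : Perm (Fin N)) :
    (Pi.single i x : Fin N → ℤ) ∘ π = Pi.single (π.symm i) x := by
  funext j
  simp only [Function.comp_apply, Pi.single_apply, Equiv.eq_symm_apply]

theorem base_comp (v : Fin N → ℤ) (τ : Perm (Fin N)) :
    base (v ∘ τ) = (Perm.sign τ : ℤ) * base v := by
  rw [base, base, Finset.mul_sum]
  refine Fintype.sum_equiv (Equiv.mulRight τ⁻¹) _ _ fun π => ?_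
  change (if v ∘ τ = low N ∘ π then (Perm.sign π : ℤ) else 0) =
    (Perm.sign τ : ℤ) * if v = low N ∘ ⇑(π * τ⁻¹) then (Perm.sign (π * τ⁻¹) : ℤ) else 0
  by_cases h : v ∘ τ = low N ∘ π
  · have h' : v = low N ∘ ⇑(π * τ⁻¹) := by
      funext i
      have := congrFun h ((τ⁻¹ : Perm (Fin N)) i)
      simpa using this
    rw [if_pos h, if_pos h', map_mul, Perm.sign_inv, Units.val_mul, mul_left_comm,
      ← Units.val_mul, Int.units_mul_self, Units.val_one, mul_one]
  · rw [if_neg h, if_neg, mul_zero]
    intro h'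
    exact h (by funext i; rw [h']; simp)

theorem val_comp (μ : Multiset ℕ) : ∀ (v : Fin N → ℤ) (τ : Perm (Fin N)),
    val μ (v ∘ τ) = (Perm.sign τ : ℤ) * val μ v := by
  induction μ using Multiset.induction_on with
  | empty => intro v τ; rw [val_zero]; exact base_comp v τ
  | cons k μ ih =>
    intro v τ
    rw [val_cons, val_cons, Finset.mul_sum]
    refine Fintype.sum_equiv τ _ _ fun i => ?_
    rw [← ih]
    congr 1
    funext j
    simp only [Pi.sub_apply, Function.comp_apply, Pi.single_apply, τ.injective.eq_iff]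

/-- An alternating function vanishes on tuples with two equal entries. -/
theorem alt_eq_zero {R : Type*} [CommRing R] [NoZeroDivisors R] [CharZero R]
    {h : (Fin N → ℤ) → R} (halt : ∀ v (τ : Perm (Fin N)), h (v ∘ τ) = ((Perm.sign τ : ℤ) : R) * h v)
    {v : Fin N → ℤ} (hv : ¬ Function.Injective v) : h v = 0 := by
  obtain ⟨i, j, hij, hne⟩ := Function.not_injective_iff.1 hv
  have h1 := halt v (Equiv.swap i j)
  rw [Perm.sign_swap hne] at h1
  have h2 : v ∘ Equiv.swap i j = v := by
    funext l
    simp only [Function.comp_apply, Equiv.swap_apply_def]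
    split_ifs with a b
    · rw [a, hij]
    · rw [b, hij]
    · rfl
  rw [h2, Units.val_neg, Units.val_one, Int.cast_neg, Int.cast_one, neg_one_mul] at h1
  exact self_eq_neg.1 h1

theorem val_inj {μ : Multiset ℕ} {v : Fin N → ℤ} (h : val μ v ≠ 0) : Function.Injective v := by
  by_contra hv
  exact h (alt_eq_zero (h := val μ) (fun v τ => by simpa using val_comp μ v τ) hv)

theorem base_support {v : Fin N → ℤ} (h : base v ≠ 0) : ∃ π : Perm (Fin N), v = low N ∘ π := by
  by_contra hh
  push Not at hh
  exact h (Finset.sum_eq_zero fun π _ => if_neg (hh π))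

theorem val_support (μ : Multiset ℕ) : ∀ {v : Fin N → ℤ}, val μ v ≠ 0 →
    (∀ i, 0 ≤ v i) ∧ ∑ i, v i = (μ.sum : ℤ) + off N := by
  induction μ using Multiset.induction_on with
  | empty =>
    intro v hv
    rw [val_zero] at hv
    obtain ⟨π, rfl⟩ := base_support hv
    refine ⟨fun i => Int.natCast_nonneg _, ?_⟩
    simp only [Function.comp_apply, sum_comp_perm (low N) π, Multiset.sum_zero, Nat.cast_zero,
      zero_add]
    rfl
  | cons k μ ih =>
    intro v hv
    rw [val_cons] at hv
    obtain ⟨i, -, hi⟩ := Finset.exists_ne_zero_of_sum_ne_zero hv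
    obtain ⟨hnn, hs⟩ := ih hi
    refine ⟨fun j => ?_, ?_⟩
    · have h1 := hnn j
      simp only [Pi.sub_apply, Pi.single_apply] at h1
      split_ifs at h1 with hj <;> omega
    · simp only [Pi.sub_apply, Finset.sum_sub_distrib, Finset.sum_pi_single', Finset.mem_univ,
        if_true] at hs
      rw [Multiset.sum_cons, Nat.cast_add]
      omega

/-- Bead positions of degree `n`. -/
def IsSt (n : ℕ) (v : Fin N → ℤ) : Prop :=
  (∀ i, 0 ≤ v i) ∧ Function.Injective v ∧ ∑ i, v i = (n : ℤ) + off N

instance (n : ℕ) (v : Fin N → ℤ) : Decidable (IsSt n v) := by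
  unfold IsSt
  infer_instance

theorem isSt_of_val {μ : Multiset ℕ} {v : Fin N → ℤ} (h : val μ v ≠ 0) : IsSt μ.sum v :=
  ⟨(val_support μ h).1, val_inj h, (val_support μ h).2⟩

theorem isSt_comp {n : ℕ} {v : Fin N → ℤ} (h : IsSt n v) (τ : Perm (Fin N)) : IsSt n (v ∘ τ) :=
  ⟨fun i => h.1 _, h.2.1.comp τ.injective, by rw [← h.2.2]; exact sum_comp_perm v τ⟩

theorem sort_strictMono {v : Fin N → ℤ} (h : Function.Injective v) :
    StrictMono (v ∘ Tuple.sort v) :=
  (Tuple.monotone_sort v).strictMono_of_injective (h.comp (Tuple.sort v).injective)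

theorem le_of_strictMono {v : Fin N → ℤ} (hm : StrictMono v) (h0 : ∀ i, 0 ≤ v i) (i : Fin N) :
    (i : ℤ) ≤ v i := by
  obtain ⟨i, hi⟩ := i
  induction i with
  | zero => simpa using h0 ⟨0, hi⟩
  | succ k ih =>
    have h1 := ih (by omega)
    have h2 : v ⟨k, by omega⟩ < v ⟨k + 1, hi⟩ := hm (Fin.mk_lt_mk.2 (by omega))
    simp only [Nat.cast_add, Nat.cast_one] at *
    omega

theorem off_le_sum {v : Fin N → ℤ} (h : Function.Injective v) (h0 : ∀ i, 0 ≤ v i) :
    off N ≤ ∑ i, v i := by
  rw [← sum_comp_perm v (Tuple.sort v)]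
  exact Finset.sum_le_sum fun i _ => le_of_strictMono (sort_strictMono h) (fun _ => h0 _) i

theorem eq_low_of_isSt_zero {v : Fin N → ℤ} (h : IsSt 0 v) :
    ∃ π : Perm (Fin N), v = low N ∘ π := by
  refine ⟨(Tuple.sort v)⁻¹, ?_⟩
  have hle := le_of_strictMono (sort_strictMono h.2.1) (fun _ => h.1 _)
  have hs : ∑ i, (v ∘ Tuple.sort v) i = ∑ i, low N i := by
    simp only [Function.comp_apply, sum_comp_perm v (Tuple.sort v), h.2.2]
    simp [off, low]
  have he := (Finset.sum_eq_sum_iff_of_le (fun i _ => hle i)).1 hs.symm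
  funext i
  have := he ((Tuple.sort v)⁻¹ i) (Finset.mem_univ _)
  simpa [low] using this.symm

theorem base_low_comp (π : Perm (Fin N)) : base (low N ∘ π) = (Perm.sign π : ℤ) := by
  rw [base, Finset.sum_eq_single π]
  · rw [if_pos rfl]
  · intro σ _ hσ
    rw [if_neg]
    intro h
    exact hσ (Equiv.ext fun i => low_injective (congrFun h i).symm)
  · simp

/-- Counting the pairs out of order. -/
theorem card_lt_pairs {v : Fin N → ℤ} (h : Function.Injective v) :
    ∑ i, ((Finset.univ.filter fun m => v m < v i).card : ℤ) = off N := by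
  rw [← sum_comp_perm _ (Tuple.sort v)]
  refine Finset.sum_congr rfl fun i _ => ?_
  have hm := sort_strictMono h
  rw [show (Finset.univ.filter fun m => v m < v (Tuple.sort v i)) =
    (Finset.Iio i).map (Tuple.sort v).toEmbedding by
      ext m
      simp only [Finset.mem_filter, Finset.mem_univ, true_and, Finset.mem_map_equiv, Finset.mem_Iio]
      constructor
      · intro hlt
        by_contra hle
        have := hm.monotone (not_lt.1 hle)
        simp only [Function.comp_apply, Equiv.apply_symm_apply] at this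
        omega
      · intro hlt
        simpa using hm hlt]
  rw [Finset.card_map, Fin.card_Iio]

/-! ## Weights of cycle types -/

/-- The order of the centraliser of a permutation of cycle type `μ`. -/
def zz (μ : Multiset ℕ) : ℕ := μ.prod * ∏ k ∈ μ.toFinset, (μ.count k).factorial

theorem zz_cons (k : ℕ) (μ : Multiset ℕ) : zz (k ::ₘ μ) = k * (μ.count k + 1) * zz μ := by
  have h1 : ∏ j ∈ μ.toFinset, (μ.count j).factorial =
      ∏ j ∈ insert k μ.toFinset, (μ.count j).factorial := by
    refine Finset.prod_subset (Finset.subset_insert _ _) fun x _ hx => ?_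
    rw [Multiset.count_eq_zero.2 fun h => hx (Multiset.mem_toFinset.2 h), Nat.factorial_zero]
  have hk : k ∈ insert k μ.toFinset := Finset.mem_insert_self _ _
  rw [zz, zz, Multiset.prod_cons, Multiset.toFinset_cons, h1,
    ← Finset.mul_prod_erase _ _ hk, ← Finset.mul_prod_erase _ _ hk, Multiset.count_cons_self,
    Nat.factorial_succ,
    Finset.prod_congr rfl (g := fun j => (μ.count j).factorial) fun j hj => by
      rw [Multiset.count_cons_of_ne (Finset.ne_of_mem_erase hj)]]
  ring

theorem zz_pos {μ : Multiset ℕ} (h : ∀ k ∈ μ, 0 < k) : 0 < zz μ :=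
  Nat.mul_pos (Nat.pos_of_ne_zero (Multiset.prod_ne_zero fun h0 => (h 0 h0).false))
    (Finset.prod_pos fun _ _ => Nat.factorial_pos _)

/-- The average over the symmetric group of a function of the cycle type. -/
def avg (n : ℕ) (φ : Multiset ℕ → ℚ) : ℚ := ∑ μ : n.Partition, φ μ.parts / (zz μ.parts : ℚ)

theorem avg_congr {n : ℕ} {φ ψ : Multiset ℕ → ℚ}
    (h : ∀ μ : n.Partition, φ μ.parts = ψ μ.parts) : avg n φ = avg n ψ :=
  Finset.sum_congr rfl fun μ _ => by rw [h μ]

/-- Splitting off the cycle through a point. -/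
theorem avg_rec (n : ℕ) (φ : Multiset ℕ → ℚ) :
    (n : ℚ) * avg n φ = ∑ k ∈ Finset.Icc 1 n, avg (n - k) fun ν => φ (k ::ₘ ν) := by
  have hn : ∀ μ : n.Partition, ((n : ℚ)) = ∑ k ∈ Finset.Icc 1 n,
      (k : ℚ) * (μ.parts.count k : ℚ) := by
    intro μ
    have h1 : ∑ k ∈ Finset.Icc 1 n, μ.parts.count k * k = n := by
      conv_rhs => rw [← μ.parts_sum, Finset.sum_multiset_count μ.parts]
      simp only [smul_eq_mul]
      symm
      refine Finset.sum_subset (fun k hk => ?_) fun k _ hk => ?_
      · have hk' := Multiset.mem_toFinset.1 hk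
        exact Finset.mem_Icc.2 ⟨μ.parts_pos hk', μ.le_of_mem_parts hk'⟩
      · rw [Multiset.count_eq_zero.2 fun h => hk (Multiset.mem_toFinset.2 h), zero_mul]
    conv_lhs => rw [← h1]
    push_cast
    exact Finset.sum_congr rfl fun k _ => mul_comm _ _
  rw [avg, Finset.mul_sum]
  conv_lhs => arg 2; ext μ; rw [hn μ, Finset.sum_mul]
  rw [Finset.sum_comm]
  refine Finset.sum_congr rfl fun k hk => ?_
  obtain ⟨hk1, hkn⟩ := Finset.mem_Icc.1 hk
  rw [← Finset.sum_filter_add_sum_filter_not _ (fun μ : n.Partition => k ∈ μ.parts),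
    Finset.sum_eq_zero (s := Finset.univ.filter fun μ : n.Partition => k ∉ μ.parts)
      (fun μ hμ => by
        rw [Multiset.count_eq_zero.2 (Finset.mem_filter.1 hμ).2]; simp), add_zero, avg]
  refine Finset.sum_bij'
    (fun μ hμ => ⟨μ.parts.erase k, fun h => μ.parts_pos (Multiset.mem_of_mem_erase h), by
      have := congrArg Multiset.sum (Multiset.cons_erase (Finset.mem_filter.1 hμ).2)
      rw [Multiset.sum_cons, μ.parts_sum] at this
      omega⟩)
    (fun ν _ => ⟨k ::ₘ ν.parts, fun h => by
      rcases Multiset.mem_cons.1 h with rfl | h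
      · omega
      · exact ν.parts_pos h, by rw [Multiset.sum_cons, ν.parts_sum]; omega⟩)
    (fun μ hμ => Finset.mem_univ _) (fun ν _ => by simp)
    (fun μ hμ => Nat.Partition.ext (Multiset.cons_erase (Finset.mem_filter.1 hμ).2))
    (fun ν _ => Nat.Partition.ext (Multiset.erase_cons_head k ν.parts)) fun μ hμ => ?_
  have hmem := (Finset.mem_filter.1 hμ).2
  have hc : k ::ₘ μ.parts.erase k = μ.parts := Multiset.cons_erase hmem
  have hz : (0 : ℚ) < (zz (μ.parts.erase k) : ℚ) := by
    exact_mod_cast zz_pos fun j hj => μ.parts_pos (Multiset.mem_of_mem_erase hj)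
  have hk0 : (0 : ℚ) < (k : ℚ) := by exact_mod_cast hk1
  simp only [hc]
  conv_lhs =>
    arg 2
    arg 2
    rw [← hc, zz_cons, Multiset.count_erase_self,
      Nat.sub_add_cancel (Multiset.one_le_count_iff_mem.2 hmem)]
  have hcount : (0 : ℚ) < (μ.parts.count k : ℚ) := by
    exact_mod_cast Multiset.count_pos.2 hmem
  push_cast
  field_simp

end Cfsg.Agent.SymRank
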