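import Cfsg.Agent.Lib.Blocks.SymRank.Fock

/-!
# Orthogonality of the alternant functions
-/

namespace Cfsg.Agent.SymRank

open Equiv

variable {N : ℕ}

/-- The alternating delta function. -/
def del (a b : Fin N → ℤ) : ℤ :=
  ∑ π : Perm (Fin N), if b = a ∘ π then (Perm.sign π : ℤ) else 0

theorem del_comp_left (a b : Fin N → ℤ) (τ : Perm (Fin N)) :
    del (a ∘ τ) b = (Perm.sign τ : ℤ) * del a b := by
  rw [del, del, Finset.mul_sum]
  refine Fintype.sum_equiv (Equiv.mulLeft τ) _ _ fun π => ?_
  change (if b = (a ∘ τ) ∘ π then (Perm.sign π : ℤ) else 0) =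
    (Perm.sign τ : ℤ) * if b = a ∘ ⇑(τ * π) then (Perm.sign (τ * π) : ℤ) else 0
  by_cases h : b = (a ∘ τ) ∘ π
  · have h' : b = a ∘ ⇑(τ * π) := by rw [h]; rfl
    rw [if_pos h, if_pos h', map_mul, Units.val_mul, ← mul_assoc, ← Units.val_mul,
      Int.units_mul_self, Units.val_one, one_mul]
  · rw [if_neg h, if_neg, mul_zero]
    intro h'
    exact h (by rw [h']; rfl)

theorem del_eq_zero {a : Fin N → ℤ} (ha : ¬ Function.Injective a) (b : Fin N → ℤ) :
    del a b = 0 :=
  alt_eq_zero (h := fun v => del v b) (fun v τ => by simpa using del_comp_left v b τ) ha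

theorem del_ne_zero {a b : Fin N → ℤ} (h : del a b ≠ 0) :
    ∃ π : Perm (Fin N), b = a ∘ π := by
  by_contra hh
  push Not at hh
  exact h (Finset.sum_eq_zero fun π _ => if_neg (hh π))

theorem del_self {a : Fin N → ℤ} (ha : Function.Injective a) : del a a = 1 := by
  rw [del, Finset.sum_eq_single 1]
  · simp
  · intro π _ hπ
    rw [if_neg]
    intro h
    exact hπ (Equiv.ext fun i => ha (congrFun h i).symm)
  · simp

theorem del_strictMono {a b : Fin N → ℤ} (ha : StrictMono a) (hb : StrictMono b) :
    del a b = if a = b then 1 else 0 := by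
  by_cases h : a = b
  · rw [if_pos h, ← h, del_self ha.injective]
  · rw [if_neg h]
    by_contra hne
    obtain ⟨π, hπ⟩ := del_ne_zero hne
    refine h ?_
    have hmono : StrictMono π := fun i j hij => by
      have := hb hij
      rw [hπ] at this
      exact ha.lt_iff_lt.1 this
    have h1 := hmono.range_inj (f := (π : Fin N → Fin N)) (g := id) strictMono_id
    rw [hπ]
    rw [(hmono.range_inj strictMono_id).1 (by rw [Set.range_id, π.surjective.range_eq])]
    rfl

/-- The inner product of two bead tuples in degree `n`. -/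
def gram (n : ℕ) (a b : Fin N → ℤ) : ℚ :=
  avg n fun μ => (val μ a : ℚ) * (val μ b : ℚ)

theorem gram_ne_zero {n : ℕ} {a b : Fin N → ℤ} (h : gram n a b ≠ 0) : IsSt n a ∧ IsSt n b := by
  rw [gram, avg] at h
  obtain ⟨μ, -, hμ⟩ := Finset.exists_ne_zero_of_sum_ne_zero h
  have h1 := (div_ne_zero_iff.1 hμ).1
  obtain ⟨ha, hb⟩ := mul_ne_zero_iff.1 h1
  rw [← μ.parts_sum]
  exact ⟨isSt_of_val (by exact_mod_cast ha), isSt_of_val (by exact_mod_cast hb)⟩

theorem gram_rec (n : ℕ) (a b : Fin N → ℤ) :
    (n : ℚ) * gram n a b = ∑ k ∈ Finset.Icc 1 n, ∑ i, ∑ j,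
      gram (n - k) (a - Pi.single i (k : ℤ)) (b - Pi.single j (k : ℤ)) := by
  rw [gram, avg_rec]
  refine Finset.sum_congr rfl fun k _ => ?_
  simp only [val_cons, Int.cast_sum, Finset.sum_mul_sum, gram, avg, Finset.sum_div]
  rw [Finset.sum_comm]
  exact Finset.sum_congr rfl fun i _ => Finset.sum_comm

/-- Moving one bead down by `x.2.2.1` and another one up by as much. -/
def cell (a b : Fin N → ℤ) (x : Fin N × Fin N × ℤ × Perm (Fin N)) : ℤ :=
  if b = (a - Pi.single x.1 x.2.2.1 + Pi.single x.2.1 x.2.2.1) ∘ x.2.2.2 then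
    (Perm.sign x.2.2.2 : ℤ) else 0

/-- The pairing of the off-diagonal terms. -/
def flip' (a : Fin N → ℤ) (x : Fin N × Fin N × ℤ × Perm (Fin N)) :
    Fin N × Fin N × ℤ × Perm (Fin N) :=
  if x.2.2.1 < a x.1 - a x.2.1 then
    (x.1, x.2.1, a x.1 - a x.2.1 - x.2.2.1, Equiv.swap x.1 x.2.1 * x.2.2.2)
  else (x.2.1, x.1, x.2.2.1 - (a x.1 - a x.2.1), Equiv.swap x.1 x.2.1 * x.2.2.2)

theorem shift_swap_one (a : Fin N → ℤ) {i m : Fin N} (h : i ≠ m) (k : ℤ) :
    (a - Pi.single i (a i - a m - k) + Pi.single m (a i - a m - k)) ∘ Equiv.swap i m =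
      a - Pi.single i k + Pi.single m k := by
  funext l
  simp only [Function.comp_apply, Pi.add_apply, Pi.sub_apply]
  rcases eq_or_ne l i with rfl | hi
  · simp [Equiv.swap_apply_left, h, h.symm]
    ring
  rcases eq_or_ne l m with rfl | hm
  · simp [Equiv.swap_apply_right, h, h.symm]
    ring
  · simp [Equiv.swap_apply_of_ne_of_ne hi hm, hi, hm]

theorem shift_swap_two (a : Fin N → ℤ) {i m : Fin N} (h : i ≠ m) (k : ℤ) :
    (a - Pi.single m (k - (a i - a m)) + Pi.single i (k - (a i - a m))) ∘ Equiv.swap i m =
      a - Pi.single i k + Pi.single m k := by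
  funext l
  simp only [Function.comp_apply, Pi.add_apply, Pi.sub_apply]
  rcases eq_or_ne l i with rfl | hi
  · simp [Equiv.swap_apply_left, h, h.symm]
    ring
  rcases eq_or_ne l m with rfl | hm
  · simp [Equiv.swap_apply_right, h, h.symm]
    ring
  · simp [Equiv.swap_apply_of_ne_of_ne hi hm, hi, hm]

theorem cell_flip (a b : Fin N → ℤ) {x : Fin N × Fin N × ℤ × Perm (Fin N)} (h : x.1 ≠ x.2.1) :
    cell a b (flip' a x) = - cell a b x := by
  obtain ⟨i, m, k, π⟩ := x
  have hsign : ((Perm.sign (Equiv.swap i m * π) : ℤˣ) : ℤ) = -(Perm.sign π : ℤ) := by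
    rw [map_mul, Perm.sign_swap h, Units.val_mul, Units.val_neg, Units.val_one, neg_one_mul]
  simp only [flip']
  split_ifs
  · simp only [cell]
    rw [Perm.coe_mul, ← Function.comp_assoc, shift_swap_one a h k, hsign]
    split_ifs <;> simp
  · simp only [cell]
    rw [Perm.coe_mul, ← Function.comp_assoc, shift_swap_two a h k, hsign]
    split_ifs <;> simp

/-- The key cancellation: only the beads themselves survive. -/
theorem sum_cell {a : Fin N → ℤ} (ha : Function.Injective a) (h0 : ∀ i, 0 ≤ a i)
    (b : Fin N → ℤ) :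
    ∑ i, ∑ m, ∑ k ∈ Finset.Icc 1 (a i), ∑ π : Perm (Fin N), cell a b (i, m, k, π) =
      (∑ i, a i - off N) * del a b := by
  classical
  have hdiag : ∀ i, ∑ k ∈ Finset.Icc 1 (a i), ∑ π : Perm (Fin N), cell a b (i, i, k, π) =
      a i * del a b := by
    intro i
    rw [Finset.sum_congr rfl fun k _ => show ∑ π : Perm (Fin N), cell a b (i, i, k, π) = del a b by
        simp only [cell, sub_add_cancel, del], Finset.sum_const, Int.card_Icc, nsmul_eq_mul,
      add_sub_cancel_right, Int.toNat_of_nonneg (h0 i)]
  have hsplit : ∀ i m, i ≠ m →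
      ∑ k ∈ Finset.Icc 1 (a i), ∑ π : Perm (Fin N), cell a b (i, m, k, π) =
        (if a m < a i then -del a b else 0) +
          ∑ k ∈ (Finset.Icc 1 (a i)).filter (fun k => k ≠ a i - a m),
            ∑ π : Perm (Fin N), cell a b (i, m, k, π) := by
    intro i m him
    rw [← Finset.sum_filter_add_sum_filter_not (Finset.Icc 1 (a i)) fun k => k = a i - a m,
      Finset.filter_eq']
    congr 1
    by_cases hlt : a m < a i
    · have := h0 m
      rw [if_pos hlt, if_pos (Finset.mem_Icc.2 ⟨by omega, by omega⟩), Finset.sum_singleton]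
      have he : a - Pi.single i (a i - a m) + Pi.single m (a i - a m) = a ∘ Equiv.swap i m := by
        funext l
        simp only [Function.comp_apply, Pi.add_apply, Pi.sub_apply]
        rcases eq_or_ne l i with rfl | hi
        · simp [Equiv.swap_apply_left, him]
        rcases eq_or_ne l m with rfl | hm
        · simp [Equiv.swap_apply_right, him.symm]
        · simp [Equiv.swap_apply_of_ne_of_ne hi hm, hi, hm]
      simp only [cell, he]
      rw [← del, del_comp_left, Perm.sign_swap him, Units.val_neg, Units.val_one, neg_one_mul]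
    · rw [if_neg hlt, if_neg (fun h => hlt (by have := (Finset.mem_Icc.1 h).1; omega)),
        Finset.sum_empty]
  set X : Finset (Fin N × Fin N × ℤ × Perm (Fin N)) :=
    (Finset.univ ×ˢ Finset.univ ×ˢ Finset.Icc 1 (∑ i, a i) ×ˢ Finset.univ).filter fun x =>
      x.1 ≠ x.2.1 ∧ x.2.2.1 ≤ a x.1 ∧ x.2.2.1 ≠ a x.1 - a x.2.1 with hX
  have hle : ∀ i, a i ≤ ∑ j, a j := fun i =>
    Finset.single_le_sum (fun j _ => h0 j) (Finset.mem_univ i)
  have hmem : ∀ x, x ∈ X ↔ x.1 ≠ x.2.1 ∧ 1 ≤ x.2.2.1 ∧ x.2.2.1 ≤ a x.1 ∧
      x.2.2.1 ≠ a x.1 - a x.2.1 := by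
    rintro ⟨i, m, k, π⟩
    simp only [X, Finset.mem_filter, Finset.mem_product, Finset.mem_univ, Finset.mem_Icc,
      true_and, and_true]
    have := hle i
    constructor
    · rintro ⟨⟨h1, -⟩, h2, h3, h4⟩
      exact ⟨h2, h1, h3, h4⟩
    · rintro ⟨h2, h1, h3, h4⟩
      exact ⟨⟨h1, by omega⟩, h2, h3, h4⟩
  have hflip : ∀ x ∈ X, flip' a x ∈ X ∧ flip' a (flip' a x) = x := by
    rintro ⟨i, m, k, π⟩ hx
    obtain ⟨h1, h2, h3, h4⟩ := (hmem _).1 hx
    simp only at h1 h2 h3 h4
    have := h0 m
    by_cases hlt : k < a i - a m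
    · have e : flip' a (i, m, k, π) = (i, m, a i - a m - k, Equiv.swap i m * π) := if_pos hlt
      rw [e]
      refine ⟨(hmem _).2 ⟨h1, by simp only; omega, by simp only; omega, by simp only; omega⟩, ?_⟩
      rw [flip', if_pos (by simp only; omega), sub_sub_cancel]
      simp only [Equiv.swap_mul_self_mul]
    · have e : flip' a (i, m, k, π) = (m, i, k - (a i - a m), Equiv.swap i m * π) := if_neg hlt
      rw [e]
      refine ⟨(hmem _).2 ⟨Ne.symm h1, by simp only; omega, by simp only; omega,
        by simp only; omega⟩, ?_⟩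
      rw [flip', if_neg (by simp only; omega)]
      simp only [Equiv.swap_comm m i, Equiv.swap_mul_self_mul, Prod.mk.injEq, and_true, true_and]
      ring
  have hX0 : ∑ x ∈ X, cell a b x = 0 := by
    refine Finset.sum_involution (fun x _ => flip' a x) (fun x hx => ?_) (fun x hx hne => ?_)
      (fun x hx => (hflip x hx).1) (fun x hx => (hflip x hx).2)
    · rw [cell_flip a b ((hmem x).1 hx).1, add_neg_cancel]
    · intro he
      have := cell_flip a b ((hmem x).1 hx).1
      rw [he] at this
      omega
  have hXsum : ∑ x ∈ X, cell a b x = ∑ i, ∑ m ∈ Finset.univ.erase i,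
      ∑ k ∈ (Finset.Icc 1 (a i)).filter (fun k => k ≠ a i - a m),
        ∑ π : Perm (Fin N), cell a b (i, m, k, π) := by
    rw [hX, Finset.sum_filter, Finset.sum_product]
    refine Finset.sum_congr rfl fun i _ => ?_
    rw [Finset.sum_product, ← Finset.sum_erase Finset.univ (a := i) (by
      exact Finset.sum_eq_zero fun y _ => if_neg fun h => h.1 rfl)]
    refine Finset.sum_congr rfl fun m hm => ?_
    rw [Finset.sum_product, Finset.sum_filter]
    refine (Finset.sum_subset (Finset.Icc_subset_Icc_right (hle i)) fun k hk hk' => ?_).symm.trans ?_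
    · refine Finset.sum_eq_zero fun π _ => if_neg fun h => hk' ?_
      exact Finset.mem_Icc.2 ⟨(Finset.mem_Icc.1 hk).1, h.2.1⟩
    · refine Finset.sum_congr rfl fun k hk => ?_
      have hne : i ≠ m := (Finset.ne_of_mem_erase hm).symm
      by_cases hd : k = a i - a m
      · rw [if_neg (not_not.2 hd)]
        exact Finset.sum_eq_zero fun π _ => if_neg fun h => h.2.2 hd
      · rw [if_pos hd]
        exact Finset.sum_congr rfl fun π _ =>
          if_pos ⟨hne, (Finset.mem_Icc.1 hk).2, hd⟩
  calc ∑ i, ∑ m, ∑ k ∈ Finset.Icc 1 (a i), ∑ π : Perm (Fin N), cell a b (i, m, k, π)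
      = ∑ i, (a i * del a b + ∑ m ∈ Finset.univ.erase i,
          ((if a m < a i then -del a b else 0) +
            ∑ k ∈ (Finset.Icc 1 (a i)).filter (fun k => k ≠ a i - a m),
              ∑ π : Perm (Fin N), cell a b (i, m, k, π))) := by
        refine Finset.sum_congr rfl fun i _ => ?_
        rw [← Finset.add_sum_erase _ _ (Finset.mem_univ i), hdiag]
        exact congrArg _ (Finset.sum_congr rfl fun m hm =>
          hsplit i m (Finset.ne_of_mem_erase hm).symm)
    _ = (∑ i, a i) * del a b + ∑ i, ∑ m ∈ Finset.univ.erase i,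
          (if a m < a i then -del a b else 0) := by
        simp only [Finset.sum_add_distrib, Finset.sum_mul]
        rw [← hXsum, hX0, add_zero]
    _ = (∑ i, a i - off N) * del a b := by
        rw [sub_mul, sub_eq_add_neg, ← card_lt_pairs ha, Finset.sum_mul, Finset.sum_mul,
          ← Finset.sum_neg_distrib]
        congr 1
        refine Finset.sum_congr rfl fun i _ => ?_
        rw [Finset.sum_erase _ (by simp), ← Finset.sum_filter, Finset.sum_const, nsmul_eq_mul]
        ring

/-- The alternant functions are orthonormal. -/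
theorem gram_eq : ∀ (n : ℕ) (a b : Fin N → ℤ), IsSt n a → IsSt n b → gram n a b = (del a b : ℚ) := by
  intro n
  induction n using Nat.strong_induction_on with
  | _ n ih =>
  intro a b ha hb
  rcases Nat.eq_zero_or_pos n with rfl | hn
  · obtain ⟨σ, rfl⟩ := eq_low_of_isSt_zero ha
    obtain ⟨τ, rfl⟩ := eq_low_of_isSt_zero hb
    rw [gram, avg, Fintype.sum_unique, show (default : Nat.Partition 0).parts = 0 from
      Multiset.eq_zero_of_forall_notMem fun k hk => by
        have := (default : Nat.Partition 0).parts_pos hk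
        have := (default : Nat.Partition 0).le_of_mem_parts hk
        omega]
    rw [val_zero, base_low_comp, base_low_comp, del, Finset.sum_eq_single (σ⁻¹ * τ)]
    · rw [if_pos (by funext i; simp [low])]
      simp [zz]
    · intro π _ hπ
      rw [if_neg]
      intro h
      refine hπ (Equiv.ext fun i => ?_)
      have := low_injective (congrFun h i)
      simp [this]
    · simp
  have key : (n : ℚ) * gram n a b =
      (((∑ i, ∑ m, ∑ k ∈ Finset.Icc 1 (a i), ∑ π : Perm (Fin N), cell a b (i, m, k, π)) : ℤ) : ℚ) := by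
    rw [gram_rec]
    have hterm : ∀ k ∈ Finset.Icc 1 n, ∀ i j,
        gram (n - k) (a - Pi.single i (k : ℤ)) (b - Pi.single j (k : ℤ)) =
          if (k : ℤ) ≤ a i then
            ((del (a - Pi.single i (k : ℤ)) (b - Pi.single j (k : ℤ)) : ℤ) : ℚ) else 0 := by
      intro k hk i j
      obtain ⟨hk1, hkn⟩ := Finset.mem_Icc.1 hk
      by_cases hst : IsSt (n - k) (a - Pi.single i (k : ℤ))
      · have hki : (k : ℤ) ≤ a i := by
          have := hst.1 i
          simp at this
          omega
        rw [if_pos hki]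
        by_cases hst' : IsSt (n - k) (b - Pi.single j (k : ℤ))
        · exact ih _ (by omega) _ _ hst hst'
        · have h1 : gram (n - k) (a - Pi.single i (k : ℤ)) (b - Pi.single j (k : ℤ)) = 0 := by
            by_contra h
            exact hst' (gram_ne_zero h).2
          rw [h1, eq_comm, Int.cast_eq_zero]
          by_contra h
          obtain ⟨π, hπ⟩ := del_ne_zero h
          exact hst' (hπ ▸ isSt_comp hst π)
      · have h1 : gram (n - k) (a - Pi.single i (k : ℤ)) (b - Pi.single j (k : ℤ)) = 0 := by
          by_contra h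
          exact hst (gram_ne_zero h).1
        rw [h1]
        split_ifs with hki
        · rw [eq_comm, Int.cast_eq_zero]
          refine del_eq_zero (fun hinj => hst ⟨fun l => ?_, hinj, ?_⟩) _
          · have := ha.1 l
            simp only [Pi.sub_apply, Pi.single_apply]
            split_ifs with hl
            · subst hl; omega
            · omega
          · simp only [Pi.sub_apply, Finset.sum_sub_distrib, Finset.sum_pi_single',
              Finset.mem_univ, if_true, ha.2.2]
            omega
        · rfl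
    calc ∑ k ∈ Finset.Icc 1 n, ∑ i, ∑ j,
          gram (n - k) (a - Pi.single i (k : ℤ)) (b - Pi.single j (k : ℤ))
        = ((∑ i, ∑ k ∈ Finset.Icc 1 n, if (k : ℤ) ≤ a i then
            ∑ j, del (a - Pi.single i (k : ℤ)) (b - Pi.single j (k : ℤ)) else 0 : ℤ) : ℚ) := by
          rw [Finset.sum_comm (s := Finset.univ)]
          push_cast
          refine Finset.sum_congr rfl fun k hk => Finset.sum_congr rfl fun i _ => ?_
          rw [Finset.sum_congr rfl fun j _ => hterm k hk i j]
          split_ifs <;> simp
      _ = _ := by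
          refine congrArg _ (Finset.sum_congr rfl fun i _ => ?_)
          have hzero : ∀ k : ℤ, (n : ℤ) < k → k ≤ a i → ∀ y : Fin N → ℤ,
              del (a - Pi.single i k) y = 0 := by
            intro k hk hki y
            refine del_eq_zero (fun hinj => ?_) _
            have h := off_le_sum hinj fun l => by
              have := ha.1 l
              simp only [Pi.sub_apply, Pi.single_apply]
              split_ifs with hl
              · subst hl; omega
              · omega
            simp only [Pi.sub_apply, Finset.sum_sub_distrib, Finset.sum_pi_single',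
              Finset.mem_univ, if_true, ha.2.2] at h
            omega
          have hswap : ∀ k : ℤ, ∑ m, ∑ π : Perm (Fin N), cell a b (i, m, k, π) =
              ∑ j, del (a - Pi.single i k) (b - Pi.single j k) := by
            intro k
            simp only [del]
            conv_lhs => rw [Finset.sum_comm]
            conv_rhs => rw [Finset.sum_comm]
            refine Finset.sum_congr rfl fun π _ => ?_
            refine Fintype.sum_equiv π.symm _ _ fun m => ?_
            simp only [cell]
            refine if_congr ?_ rfl rfl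
            constructor <;> intro h <;> funext l <;> have hl := congrFun h l <;>
              simp only [Function.comp_apply, Pi.add_apply, Pi.sub_apply, Pi.single_apply,
                Equiv.eq_symm_apply] at hl ⊢ <;> split_ifs at hl ⊢ <;> omega
          rw [Finset.sum_comm (s := Finset.univ) (t := Finset.Icc 1 (a i))]
          simp only [hswap]
          rw [← Finset.sum_filter]
          refine Finset.sum_bij_ne_zero (fun k _ _ => (k : ℤ)) (fun k hk _ => ?_)
            (fun k₁ _ _ k₂ _ _ h => by exact_mod_cast h) (fun k hk hne => ?_) fun k _ _ => rfl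
          · obtain ⟨h1, h2⟩ := Finset.mem_filter.1 hk
            exact Finset.mem_Icc.2 ⟨by have := (Finset.mem_Icc.1 h1).1; omega, h2⟩
          · obtain ⟨h1, h2⟩ := Finset.mem_Icc.1 hk
            have hkn : k ≤ n := by
              by_contra hlt
              exact hne (Finset.sum_eq_zero fun j _ => hzero k (not_le.1 hlt) h2 _)
            have hk' : ((k.toNat : ℕ) : ℤ) = k := Int.toNat_of_nonneg (by omega)
            refine ⟨k.toNat, Finset.mem_filter.2 ⟨Finset.mem_Icc.2 ⟨by omega, by omega⟩,
              hk'.symm ▸ h2⟩, by rw [hk']; exact hne, hk'⟩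
  rw [sum_cell ha.2.1 ha.1, ha.2.2, add_sub_cancel_right] at key
  push_cast at key
  exact mul_left_cancel₀ (by exact_mod_cast hn.ne') key

end Cfsg.Agent.SymRank
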