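import Cfsg.Agent.Lib.Blocks.SymRank.Mirror
import Cfsg.Agent.Lib.Blocks.SymRank.Degree

/-!
# Bead–hole pairs: the `p`-part of the degree
-/

set_option linter.style.haveILetI false

namespace Cfsg.Agent.SymRank

open Equiv

variable {N n p : ℕ}

/-- A bead and a lower hole at a distance divisible by `d`. -/
noncomputable def pairs (d : ℕ) (β : Finset ℤ) : Finset (ℤ × ℤ) :=
  β.biUnion fun x => ((Finset.Ico 0 x).filter fun y => y ∉ β ∧ (d : ℤ) ∣ x - y).image fun y => (x, y)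

theorem mem_pairs {d : ℕ} {β : Finset ℤ} {q : ℤ × ℤ} :
    q ∈ pairs d β ↔ q.1 ∈ β ∧ 0 ≤ q.2 ∧ q.2 < q.1 ∧ q.2 ∉ β ∧ (d : ℤ) ∣ q.1 - q.2 := by
  obtain ⟨x, y⟩ := q
  simp only [pairs, Finset.mem_biUnion, Finset.mem_image, Finset.mem_filter, Finset.mem_Ico,
    Prod.mk.injEq]
  constructor
  · rintro ⟨a, ha, b, ⟨⟨h1, h2⟩, h3, h4⟩, rfl, rfl⟩
    exact ⟨ha, h1, h2, h3, h4⟩
  · rintro ⟨ha, h1, h2, h3, h4⟩
    exact ⟨x, ha, y, ⟨⟨h1, h2⟩, h3, h4⟩, rfl, rfl⟩

theorem pairs_eq_filter (d : ℕ) (β : Finset ℤ) :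
    pairs d β = (pairs 1 β).filter fun q => (d : ℤ) ∣ q.1 - q.2 := by
  ext q
  simp [mem_pairs, and_assoc]

/-- The exponent of `p` in the distance of a pair. -/
noncomputable def dv (p : ℕ) (q : ℤ × ℤ) : ℕ := (q.1 - q.2).natAbs.factorization p

/-- The exponent of `p` in the product of the hook lengths. -/
noncomputable def hw (p : ℕ) (β : Finset ℤ) : ℕ := ∑ q ∈ pairs 1 β, dv p q

theorem hw_eq_sum_pairs (p : ℕ) (β : Finset ℤ) : hw p β = ∑ q ∈ pairs p β, dv p q := by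
  rw [pairs_eq_filter p, Finset.sum_filter_of_ne fun q _ hq => ?_]
  · rfl
  · by_contra hnd
    exact hq (Nat.factorization_eq_zero_of_not_dvd fun h =>
      hnd (by exact_mod_cast Int.natCast_dvd.2 h))

/-- The exponent of `p` in `(p m)!`. -/
noncomputable def fpm (p m : ℕ) : ℕ := ∑ j ∈ Finset.Ioc 0 m, (p * j).factorization p

theorem fpm_eq (hp : p.Prime) (m : ℕ) : fpm p m = m + m.factorial.factorization p := by
  induction m with
  | zero => simp [fpm]
  | succ m ih =>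
    rw [fpm, Finset.sum_Ioc_succ_top (Nat.zero_le m), ← fpm, ih, Nat.factorial_succ,
      Nat.factorization_mul hp.ne_zero (Nat.succ_ne_zero m), Nat.factorization_mul
      (Nat.succ_ne_zero m) m.factorial_ne_zero, Finsupp.add_apply, Finsupp.add_apply,
      hp.factorization_self]
    ring

theorem fpm_eq_factorial (hp : p.Prime) (m : ℕ) : fpm p m = (p * m).factorial.factorization p := by
  haveI : Fact p.Prime := ⟨hp⟩
  rw [fpm_eq hp, Nat.factorization_def _ hp, Nat.factorization_def _ hp,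
    padicValNat_factorial_mul, add_comm]

/-! ## The degree -/

theorem factorial_sum (p m : ℕ) : m.factorial.factorization p =
    ∑ y ∈ Finset.Ico 0 (m : ℤ), ((m : ℤ) - y).natAbs.factorization p := by
  rw [← Finset.prod_range_add_one_eq_factorial,
    Nat.factorization_prod_apply fun i _ => Nat.succ_ne_zero i]
  refine Finset.sum_bij' (fun i _ => (m : ℤ) - i - 1) (fun y _ => ((m : ℤ) - y - 1).toNat)
    (fun i hi => ?_) (fun y hy => ?_) (fun i hi => ?_) (fun y hy => ?_) fun i hi => ?_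
  all_goals simp only [Finset.mem_range, Finset.mem_Ico] at *
  · omega
  · omega
  · omega
  · omega
  · congr 2
    omega

theorem facts_eq {v : Fin N → ℤ} (hv : StrictMono v) (h0 : ∀ i, 0 ≤ v i) (p : ℕ) :
    (facts v).natAbs.factorization p =
      hw p (Finset.univ.image v) + (Matrix.vandermonde v).det.natAbs.factorization p := by
  set β := Finset.univ.image v with hβ
  have h1 : (facts v).natAbs = ∏ i, (v i).toNat.factorial := by
    rw [facts, ← Nat.cast_prod, Int.natAbs_natCast]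
  have h2 : (Matrix.vandermonde v).det.natAbs = ∏ i, ∏ j ∈ Finset.Ioi i, (v j - v i).natAbs := by
    rw [Matrix.det_vandermonde]
    exact (map_prod Int.natAbsHom _ _).trans (Finset.prod_congr rfl fun i _ => map_prod Int.natAbsHom _ _)
  have hne : ∀ i, ∀ j ∈ Finset.Ioi i, (v j - v i).natAbs ≠ 0 := fun i j hj => by
    have := hv (Finset.mem_Ioi.1 hj)
    omega
  rw [h1, h2, Nat.factorization_prod_apply fun i _ => Nat.factorial_ne_zero _,
    Nat.factorization_prod_apply fun i _ => Finset.prod_ne_zero_iff.2 (hne i),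
    Finset.sum_congr rfl fun i _ => Nat.factorization_prod_apply (hne i),
    Finset.sum_comm' (t' := Finset.univ) (s' := fun j => Finset.Iio j) (by simp)]
  have hhw : hw p β = ∑ j, ∑ y ∈ (Finset.Ico 0 (v j)).filter (fun y => ¬ y ∈ β),
      (v j - y).natAbs.factorization p := by
    rw [hw, pairs, Finset.sum_biUnion fun x _ y _ hxy => ?_, Finset.sum_image fun a _ b _ h => hv.injective h]
    · refine Finset.sum_congr rfl fun j _ => ?_
      rw [Finset.sum_image fun a _ b _ h => (Prod.mk.inj h).2]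
      refine Finset.sum_congr (Finset.filter_congr fun y _ => ?_) fun y _ => rfl
      simp
    · simp only [Function.onFun, Finset.disjoint_left, Finset.mem_image]
      rintro q ⟨a, -, rfl⟩ ⟨b, -, hb⟩
      exact hxy (Prod.mk.inj hb).1.symm
  rw [hhw, ← Finset.sum_add_distrib]
  refine Finset.sum_congr rfl fun j _ => ?_
  rw [factorial_sum, Int.toNat_of_nonneg (h0 j),
    ← Finset.sum_filter_not_add_sum_filter (Finset.Ico 0 (v j)) (fun y => y ∈ β)]
  congr 1
  have hset : (Finset.Ico 0 (v j)).filter (fun y => y ∈ β) = (Finset.Iio j).image v := by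
    ext y
    simp only [hβ, Finset.mem_filter, Finset.mem_Ico, Finset.mem_image, Finset.mem_univ, true_and,
      Finset.mem_Iio]
    constructor
    · rintro ⟨⟨-, h⟩, i, rfl⟩
      exact ⟨i, hv.lt_iff_lt.1 h, rfl⟩
    · rintro ⟨i, hi, rfl⟩
      exact ⟨⟨h0 i, hv hi⟩, i, rfl⟩
  rw [hset, Finset.sum_image fun a _ b _ h => hv.injective h]

theorem low_strictMono : StrictMono (low N) := fun i j h => by
  simp only [low, Nat.cast_lt]
  exact h

theorem hw_low (p : ℕ) : hw p (Finset.univ.image (low N)) = 0 := by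
  rw [hw, Finset.sum_eq_zero]
  intro q hq
  obtain ⟨h1, h2, h3, h4, -⟩ := mem_pairs.1 hq
  obtain ⟨i, -, hi⟩ := Finset.mem_image.1 h1
  have hi' : ((i : ℕ) : ℤ) = q.1 := hi
  have hlt : q.2.toNat < N := by
    have := i.isLt
    omega
  refine absurd (Finset.mem_image.2 ⟨⟨q.2.toNat, hlt⟩, Finset.mem_univ _, ?_⟩) h4
  show ((q.2.toNat : ℕ) : ℤ) = q.2
  omega

/-- The exponent of `p` in the degree. -/
theorem degree_add_hw (p : ℕ) {v : Fin N → ℤ} (hst : IsSt n v) (hm : StrictMono v) :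
    (val (Multiset.replicate n 1) v).natAbs.factorization p + hw p (Finset.univ.image v) =
      n.factorial.factorization p := by
  have h := congrArg Int.natAbs (val_one_mul n hst.1 hst.2.2)
  simp only [Int.natAbs_mul, Int.natAbs_natCast] at h
  have hV : (Matrix.vandermonde v).det.natAbs ≠ 0 :=
    Int.natAbs_ne_zero.2 (Matrix.det_vandermonde_ne_zero_iff.2 hm.injective)
  have hL : (Matrix.vandermonde (low N)).det.natAbs ≠ 0 :=
    Int.natAbs_ne_zero.2 (Matrix.det_vandermonde_ne_zero_iff.2 low_injective)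
  have hF : ∀ u : Fin N → ℤ, (facts u).natAbs ≠ 0 := fun u =>
    Int.natAbs_ne_zero.2 (Finset.prod_ne_zero_iff.2 fun i _ => by exact_mod_cast Nat.factorial_ne_zero _)
  have hn := Nat.factorial_ne_zero n
  have hval : (val (Multiset.replicate n 1) v).natAbs ≠ 0 := by
    intro h0
    rw [h0, zero_mul, zero_mul] at h
    exact mul_ne_zero (mul_ne_zero hn (hF _)) hV h.symm
  have h' := congrArg (fun m : ℕ => m.factorization p) h
  rw [Nat.factorization_mul (mul_ne_zero hval (hF _)) hL, Finsupp.add_apply,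
    Nat.factorization_mul hval (hF _), Finsupp.add_apply,
    Nat.factorization_mul (mul_ne_zero hn (hF _)) hV, Finsupp.add_apply,
    Nat.factorization_mul hn (hF _), Finsupp.add_apply, facts_eq hm hst.1,
    facts_eq low_strictMono (fun i => Int.natCast_nonneg _), hw_low, zero_add] at h'
  omega

/-! ## Counting pairs at one distance -/

theorem cntS_down_dvd {m d : ℕ} (hmd : m ∣ d) {β : Finset ℤ} {x : ℤ} (h : Movable d β x) :
    cntS m (down d β x) = cntS m β := by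
  funext r
  simp only [cntS, down]
  have hd : ((d : ℕ) : ZMod m) = 0 := (ZMod.natCast_eq_zero_iff d m).2 hmd
  have hres : ((x - (d : ℤ) : ℤ) : ZMod m) = (x : ZMod m) := by simp [hd]
  rw [Finset.filter_insert, Finset.filter_erase, hres]
  by_cases hr : (x : ZMod m) = r
  · rw [if_pos hr, Finset.card_insert_of_notMem fun hm =>
      h.2.2 (Finset.mem_filter.1 (Finset.mem_of_mem_erase hm)).1,
      Finset.card_erase_add_one (Finset.mem_filter.2 ⟨h.1, hr⟩)]
  · rw [if_neg hr, Finset.erase_eq_of_notMem (s := β.filter fun z : ℤ => (z : ZMod m) = r) (a := x)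
      fun hm => hr (Finset.mem_filter.1 hm).2]

theorem step_gap {d : ℕ} {x y : ℤ} (h : (d : ℤ) ∣ x - y) (hlt : y < x) (hne : x - y ≠ (d : ℤ)) :
    y + (d : ℤ) < x := by
  obtain ⟨c, hc⟩ := h
  have : 2 ≤ c := by
    rcases le_or_gt c 0 with h | h
    · nlinarith
    · rcases (show c = 1 ∨ 2 ≤ c by omega) with rfl | h2
      · exact absurd (by linarith) hne
      · exact h2
  nlinarith

theorem card_pairs_down {d : ℕ} (hd : 0 < d) {β : Finset ℤ} {x : ℤ} (h : Movable d β x) :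
    (pairs d (down d β x)).card + 1 = (pairs d β).card := by
  obtain ⟨hx, hdx, hxd⟩ := h
  have hd' : (0 : ℤ) < d := by exact_mod_cast hd
  have hm : (x, x - (d : ℤ)) ∈ pairs d β :=
    mem_pairs.2 ⟨hx, by omega, by omega, hxd, ⟨1, by ring⟩⟩
  rw [← Finset.card_erase_add_one hm]
  congr 1
  have hmd : ∀ {z : ℤ}, z ∈ down d β x ↔ z = x - d ∨ (z ≠ x ∧ z ∈ β) := by
    intro z
    simp [down]
  symm
  refine Finset.card_bij'
    (fun q _ => (if q.1 = x then x - (d : ℤ) else q.1, if q.2 = x - (d : ℤ) then x else q.2))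
    (fun q _ => (if q.1 = x - (d : ℤ) then x else q.1, if q.2 = x then x - (d : ℤ) else q.2))
    (fun q hq => ?_) (fun q hq => ?_) (fun q hq => ?_) fun q hq => ?_
  all_goals obtain ⟨a, b⟩ := q
  · obtain ⟨hne, hq⟩ := Finset.mem_erase.1 hq
    obtain ⟨h1, h2, h3, h4, h5⟩ := mem_pairs.1 hq
    simp only at h1 h2 h3 h4 h5
    refine mem_pairs.2 ?_
    simp only [hmd]
    by_cases ha : a = x
    · subst ha
      have hb : b ≠ a - (d : ℤ) := fun e => hne (by rw [e])
      rw [if_pos rfl, if_neg hb]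
      have := step_gap h5 h3 (by omega)
      refine ⟨Or.inl rfl, h2, by omega, ?_, ?_⟩
      · rintro (e | ⟨-, e⟩)
        · exact hb e
        · exact h4 e
      · rw [show a - (d : ℤ) - b = (a - b) - d by ring]
        exact dvd_sub h5 (dvd_refl _)
    · rw [if_neg ha]
      by_cases hb : b = x - (d : ℤ)
      · subst hb
        rw [if_pos rfl]
        have := step_gap h5 h3 (by omega)
        refine ⟨Or.inr ⟨ha, h1⟩, by omega, by omega, ?_, ?_⟩
        · rintro (e | ⟨e, -⟩) <;> omega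
        · rw [show a - x = (a - (x - (d : ℤ))) - d by ring]
          exact dvd_sub h5 (dvd_refl _)
      · rw [if_neg hb]
        refine ⟨Or.inr ⟨ha, h1⟩, h2, h3, ?_, h5⟩
        rintro (e | ⟨-, e⟩)
        · exact hb e
        · exact h4 e
  · obtain ⟨h1, h2, h3, h4, h5⟩ := mem_pairs.1 hq
    simp only [hmd] at h1 h2 h3 h4 h5
    rw [not_or, not_and] at h4
    refine Finset.mem_erase.2 ?_
    rw [mem_pairs]
    simp only [ne_eq, Prod.mk.injEq]
    by_cases ha : a = x - (d : ℤ)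
    · subst ha
      rw [if_pos rfl, if_neg (show b ≠ x by omega)]
      refine ⟨fun e => h4.1 e.2, hx, h2, by omega, h4.2 (by omega), ?_⟩
      rw [show x - b = (x - (d : ℤ) - b) + d by ring]
      exact dvd_add h5 (dvd_refl _)
    · obtain ⟨ha', ha''⟩ := h1.resolve_left ha
      rw [if_neg ha]
      by_cases hb : b = x
      · subst hb
        rw [if_pos rfl]
        refine ⟨fun e => ha' e.1, ha'', by omega, by omega, hxd, ?_⟩
        rw [show a - (b - (d : ℤ)) = (a - b) + d by ring]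
        exact dvd_add h5 (dvd_refl _)
      · rw [if_neg hb]
        exact ⟨fun e => ha' e.1, ha'', h2, h3, h4.2 hb, h5⟩
  · obtain ⟨hne, hq⟩ := Finset.mem_erase.1 hq
    obtain ⟨h1, h2, h3, h4, h5⟩ := mem_pairs.1 hq
    simp only at h1 h2 h3 h4 h5
    refine Prod.ext ?_ ?_ <;> simp only
    · by_cases ha : a = x
      · rw [if_pos ha, if_pos rfl, ha]
      · rw [if_neg ha, if_neg fun e : a = x - (d : ℤ) => hxd (by rw [← e]; exact h1)]
    · by_cases hb : b = x - (d : ℤ)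
      · rw [if_pos hb, if_pos rfl, hb]
      · rw [if_neg hb, if_neg fun e : b = x => h4 (by rw [e]; exact hx)]
  · obtain ⟨h1, h2, h3, h4, h5⟩ := mem_pairs.1 hq
    simp only [hmd] at h1 h2 h3 h4 h5
    rw [not_or] at h4
    refine Prod.ext ?_ ?_ <;> simp only
    · by_cases ha : a = x - (d : ℤ)
      · rw [if_pos ha, if_pos rfl, ha]
      · rw [if_neg ha, if_neg (h1.resolve_left ha).1]
    · by_cases hb : b = x
      · rw [if_pos hb, if_pos rfl, hb]
      · rw [if_neg hb, if_neg h4.1]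

theorem pairs_eq_empty {d : ℕ} (hd : 0 < d) {β : Finset ℤ} (hcl : ∀ x, ¬ Movable d β x) :
    pairs d β = ∅ := by
  refine Finset.eq_empty_of_forall_notMem fun q hq => ?_
  obtain ⟨h1, h2, h3, h4, h5⟩ := mem_pairs.1 hq
  refine h4 (mem_below hd h1 (fun z _ => hcl z) ?_ h2 h3.le)
  rw [eq_comm, ← sub_eq_zero, ← Int.cast_sub, ZMod.intCast_zmod_eq_zero_iff_dvd]
  exact h5

/-- Pushing all beads down at distance `d`. -/
theorem exists_dcore {d : ℕ} (hd : 0 < d) : ∀ (k : ℕ) (β : Finset ℤ), (∀ x ∈ β, 0 ≤ x) →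
    (pairs d β).card = k → ∃ γ : Finset ℤ, (∀ x ∈ γ, 0 ≤ x) ∧ (∀ x, ¬ Movable d γ x) ∧
      (∀ m, m ∣ d → cntS m γ = cntS m β) ∧ ∑ x ∈ β, x = ∑ x ∈ γ, x + (d : ℤ) * k := by
  intro k
  induction k with
  | zero =>
    intro β h0 hk
    refine ⟨β, h0, fun x hx => ?_, fun _ _ => rfl, by simp⟩
    have := card_pairs_down hd hx
    omega
  | succ k ih =>
    intro β h0 hk
    obtain ⟨x, hx⟩ : ∃ x, Movable d β x := by
      by_contra hne
      push Not at hne
      rw [pairs_eq_empty hd hne, Finset.card_empty] at hk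
      omega
    have h := card_pairs_down hd hx
    obtain ⟨γ, g1, g2, g3, g4⟩ := ih _ (nonneg_down d hx h0) (by omega)
    refine ⟨γ, g1, g2, fun m hm => (g3 m hm).trans (cntS_down_dvd hm hx), ?_⟩
    rw [sum_down d hx] at g4
    push_cast
    linarith

theorem card_pairs_eq (hp : 0 < p) {κ β : Finset ℤ} {w : ℕ} (h1 : ∀ x ∈ κ, 0 ≤ x)
    (h2 : ∀ x, ¬ Movable p κ x) (h0 : ∀ x ∈ β, 0 ≤ x) (hc : cntS p β = cntS p κ)
    (hs : ∑ x ∈ β, x = ∑ x ∈ κ, x + (p : ℤ) * w) : (pairs p β).card = w := by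
  obtain ⟨γ, g1, g2, g3, g4⟩ := exists_dcore hp _ β h0 rfl
  rw [closed_unique hp g1 h1 g2 h2 ((g3 p dvd_rfl).trans hc), hs] at g4
  have h := mul_left_cancel₀ (show (p : ℤ) ≠ 0 by exact_mod_cast hp.ne') (add_left_cancel g4)
  exact_mod_cast h.symm

theorem mul_card_pairs_le (hp : 0 < p) {κ β : Finset ℤ} {w d : ℕ} (hd : 0 < d) (hpd : p ∣ d)
    (h1 : ∀ x ∈ κ, 0 ≤ x) (h2 : ∀ x, ¬ Movable p κ x) (h0 : ∀ x ∈ β, 0 ≤ x)
    (hc : cntS p β = cntS p κ) (hs : ∑ x ∈ β, x = ∑ x ∈ κ, x + (p : ℤ) * w) :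
    d * (pairs d β).card ≤ p * w := by
  obtain ⟨γ, g1, -, g3, g4⟩ := exists_dcore hd _ β h0 rfl
  obtain ⟨u, hu⟩ := exists_weight hp h1 h2 _ γ g1 ((g3 p hpd).trans hc) rfl
  have h : ((d * (pairs d β).card + p * u : ℕ) : ℤ) = ((p * w : ℕ) : ℤ) := by
    push_cast
    linarith
  have := Int.natCast_inj.1 h
  omega

theorem sum_indicator (hp : p.Prime) {m b : ℕ} (hm : m ≠ 0) (hb : m.factorization p ≤ b) :
    m.factorization p = ∑ k ∈ Finset.Ioc 0 b, if p ^ k ∣ m then 1 else 0 := by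
  rw [← Finset.card_filter, show (Finset.Ioc 0 b).filter (fun k => p ^ k ∣ m) =
    Finset.Ioc 0 (m.factorization p) by
      ext k
      simp only [Finset.mem_filter, Finset.mem_Ioc, hp.pow_dvd_iff_le_factorization hm]
      omega, Nat.card_Ioc, Nat.sub_zero]

theorem hw_eq_sum_card (hp : p.Prime) {β : Finset ℤ} {b : ℕ} (hb : hw p β ≤ b) :
    hw p β = ∑ k ∈ Finset.Ioc 0 b, (pairs (p ^ k) β).card := by
  simp only [pairs_eq_filter (p ^ _), Finset.card_filter]
  rw [Finset.sum_comm, hw]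
  refine Finset.sum_congr rfl fun q hq => ?_
  have hlt := (mem_pairs.1 hq).2.2.1
  rw [dv, sum_indicator hp (b := b) (by omega) ?_]
  · exact Finset.sum_congr rfl fun k _ => if_congr Int.natCast_dvd.symm rfl rfl
  · exact (Finset.single_le_sum (f := dv p) (fun _ _ => Nat.zero_le _) hq).trans hb

theorem fpm_eq_sum_div (hp : p.Prime) {w b : ℕ} (hb : fpm p w ≤ b) :
    fpm p w = ∑ k ∈ Finset.Ioc 0 b, w / p ^ (k - 1) := by
  simp only [← Nat.Ioc_filter_dvd_card_eq_div w, Finset.card_filter]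
  rw [Finset.sum_comm, fpm]
  refine Finset.sum_congr rfl fun j hj => ?_
  rw [sum_indicator hp (b := b) (mul_ne_zero hp.ne_zero (Finset.mem_Ioc.1 hj).1.ne') ?_]
  · refine Finset.sum_congr rfl fun k hk => if_congr ?_ rfl rfl
    obtain ⟨k', rfl⟩ : ∃ k', k = k' + 1 := ⟨k - 1, by have := (Finset.mem_Ioc.1 hk).1; omega⟩
    rw [pow_succ', Nat.add_sub_cancel, Nat.mul_dvd_mul_iff_left hp.pos]
  · exact (Finset.single_le_sum (f := fun j => (p * j).factorization p)
      (fun _ _ => Nat.zero_le _) hj).trans hb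

theorem card_pairs_pow_le (hp : p.Prime) {κ β : Finset ℤ} {w k : ℕ} (hk : 1 ≤ k)
    (h1 : ∀ x ∈ κ, 0 ≤ x) (h2 : ∀ x, ¬ Movable p κ x) (h0 : ∀ x ∈ β, 0 ≤ x)
    (hc : cntS p β = cntS p κ) (hs : ∑ x ∈ β, x = ∑ x ∈ κ, x + (p : ℤ) * w) :
    (pairs (p ^ k) β).card ≤ w / p ^ (k - 1) := by
  obtain ⟨k', rfl⟩ : ∃ k', k = k' + 1 := ⟨k - 1, by omega⟩
  rw [Nat.add_sub_cancel, Nat.le_div_iff_mul_le (pow_pos hp.pos _)]
  refine Nat.le_of_mul_le_mul_left ?_ hp.pos
  refine le_trans (le_of_eq ?_) (mul_card_pairs_le hp.pos (pow_pos hp.pos (k' + 1))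
    (dvd_pow_self p (Nat.succ_ne_zero k')) h1 h2 h0 hc hs)
  ring

theorem hw_le (hp : p.Prime) {κ β : Finset ℤ} {w : ℕ}
    (h1 : ∀ x ∈ κ, 0 ≤ x) (h2 : ∀ x, ¬ Movable p κ x) (h0 : ∀ x ∈ β, 0 ≤ x)
    (hc : cntS p β = cntS p κ) (hs : ∑ x ∈ β, x = ∑ x ∈ κ, x + (p : ℤ) * w) :
    hw p β ≤ fpm p w := by
  obtain ⟨b, hb, hb'⟩ : ∃ b, hw p β ≤ b ∧ fpm p w ≤ b :=
    ⟨hw p β + fpm p w, Nat.le_add_right _ _, Nat.le_add_left _ _⟩
  rw [hw_eq_sum_card hp hb, fpm_eq_sum_div hp hb']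
  refine Finset.sum_le_sum fun k hk => ?_
  exact card_pairs_pow_le hp (Finset.mem_Ioc.1 hk).1 h1 h2 h0 hc hs

/-! ## Symmetric sets -/

theorem even_card_pairs {c : ℤ} {β : Finset ℤ} (hs : IsSymSet c β) (hc : Odd c) {d : ℕ}
    (hd : Even d) : Even (pairs d β).card := by
  have hne : ∀ q ∈ pairs d β, q.1 + q.2 ≠ c := by
    intro q hq he
    obtain ⟨t, ht⟩ := (mem_pairs.1 hq).2.2.2.2
    obtain ⟨e, rfl⟩ := hd
    obtain ⟨s, rfl⟩ := hc
    push_cast at ht
    have h2 : q.1 - q.2 = 2 * ((e : ℤ) * t) := by rw [ht]; ring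
    omega
  have hflip : ∀ q ∈ pairs d β, (c - q.2, c - q.1) ∈ pairs d β := by
    intro q hq
    obtain ⟨h1, h2, h3, h4, h5⟩ := mem_pairs.1 hq
    have hb := hs.1 q.1 h1
    refine mem_pairs.2 ⟨(hs.mirror h2 (by omega)).2 h4, by simp only; omega, by simp only; omega,
      fun hh => (hs.2 q.1 hb.1 hb.2).1 h1 hh, ?_⟩
    simp only
    rwa [show c - q.2 - (c - q.1) = q.1 - q.2 by ring]
  rw [← Finset.card_filter_add_card_filter_not (fun q : ℤ × ℤ => q.1 + q.2 < c)]
  refine ⟨((pairs d β).filter fun q => q.1 + q.2 < c).card, ?_⟩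
  congr 1
  refine Finset.card_bij' (fun q _ => (c - q.2, c - q.1)) (fun q _ => (c - q.2, c - q.1))
    (fun q hq => ?_) (fun q hq => ?_) (fun q _ => by simp) fun q _ => by simp
  all_goals
    obtain ⟨h1, h2⟩ := Finset.mem_filter.1 hq
    refine Finset.mem_filter.2 ⟨hflip q h1, ?_⟩
    have := hne q h1
    simp only
    omega

theorem hw_lt_of_symm {c : ℤ} {κ β : Finset ℤ} {w : ℕ} (hw0 : 1 ≤ w) (hsym : IsSymSet c β)
    (hcodd : Odd c) (h1 : ∀ x ∈ κ, 0 ≤ x) (h2 : ∀ x, ¬ Movable 2 κ x)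
    (hc : cntS 2 β = cntS 2 κ) (hs : ∑ x ∈ β, x = ∑ x ∈ κ, x + ((2 : ℕ) : ℤ) * w) :
    hw 2 β < fpm 2 w := by
  have h0 : ∀ x ∈ β, 0 ≤ x := fun x hx => (hsym.1 x hx).1
  set k0 := Nat.log 2 w + 1 with hk0
  obtain ⟨b, hb, hb', hbk⟩ : ∃ b, hw 2 β ≤ b ∧ fpm 2 w ≤ b ∧ k0 ≤ b :=
    ⟨hw 2 β + fpm 2 w + k0, by omega, by omega, by omega⟩
  rw [hw_eq_sum_card Nat.prime_two hb, fpm_eq_sum_div Nat.prime_two hb']
  refine Finset.sum_lt_sum (fun k hk => ?_) ⟨k0, Finset.mem_Ioc.2 ⟨by omega, by omega⟩, ?_⟩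
  · exact card_pairs_pow_le Nat.prime_two (Finset.mem_Ioc.1 hk).1 h1 h2 h0 hc hs
  have hle := card_pairs_pow_le Nat.prime_two (k := k0) (by omega) h1 h2 h0 hc hs
  have hdiv : w / 2 ^ (k0 - 1) = 1 := by
    rw [hk0, Nat.add_sub_cancel]
    refine Nat.div_eq_of_lt_le (by rw [one_mul]; exact Nat.pow_log_le_self 2 (by omega)) ?_
    calc w < 2 ^ (Nat.log 2 w + 1) := Nat.lt_pow_succ_log_self one_lt_two w
      _ = (1 + 1) * 2 ^ Nat.log 2 w := by rw [pow_succ']
  obtain ⟨t, ht⟩ := even_card_pairs hsym hcodd (d := 2 ^ k0) ((Nat.even_pow).2 ⟨even_two, by omega⟩)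
  omega

end Cfsg.Agent.SymRank
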