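import Cfsg.Agent.Lib.Blocks.SymRank.Complete

/-!
# Cores, and the restriction to cycle types without parts divisible by `p`
-/

namespace Cfsg.Agent.SymRank

open Equiv

variable {N : ℕ}

/-- No part is divisible by `p`. -/
def IsRegType (p : ℕ) (μ : Multiset ℕ) : Prop := ∀ k ∈ μ, ¬ p ∣ k

instance (p : ℕ) (μ : Multiset ℕ) : Decidable (IsRegType p μ) := by
  unfold IsRegType
  infer_instance

/-- The number of beads on each runner. -/
def cnt (p : ℕ) (v : Fin N → ℤ) (r : ZMod p) : ℕ :=
  (Finset.univ.filter fun i => (v i : ZMod p) = r).card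

theorem cnt_comp (p : ℕ) (v : Fin N → ℤ) (τ : Perm (Fin N)) : cnt p (v ∘ τ) = cnt p v := by
  funext r
  refine Finset.card_equiv τ fun i => ?_
  simp

theorem cnt_congr (p : ℕ) {v w : Fin N → ℤ} (h : ∀ i, (v i : ZMod p) = (w i : ZMod p)) :
    cnt p v = cnt p w := by
  funext r
  simp only [cnt, h]

theorem single_cast_zero (p : ℕ) {k : ℤ} (hk : (p : ℤ) ∣ k) (i l : Fin N) :
    ((Pi.single i k : Fin N → ℤ) l : ZMod p) = 0 := by
  rw [Pi.single_apply]
  split_ifs
  · exact (ZMod.intCast_zmod_eq_zero_iff_dvd _ _).2 hk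
  · exact Int.cast_zero

theorem cnt_add_single (p : ℕ) (v : Fin N → ℤ) {k : ℤ} (hk : (p : ℤ) ∣ k) (i : Fin N) :
    cnt p (v + Pi.single i k) = cnt p v :=
  cnt_congr p fun l => by
    simp only [Pi.add_apply, Int.cast_add, single_cast_zero p hk i l, add_zero]

/-- Raising the beads in `S` by `p` each. -/
def up (p : ℕ) (d : Fin N → ℤ) (S : Finset (Fin N)) : Fin N → ℤ :=
  fun l => d l + if l ∈ S then (p : ℤ) else 0

theorem cnt_up (p : ℕ) (d : Fin N → ℤ) (S : Finset (Fin N)) : cnt p (up p d S) = cnt p d :=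
  cnt_congr p fun l => by
    simp only [up, Int.cast_add]
    split_ifs <;> simp

/-- Raising `s` beads by one step each, in all ways, gives zero on regular types. -/
theorem elementary_relation {n p : ℕ} (hn : n ≤ N) (hp : 1 ≤ p) (μ : n.Partition)
    (hμ : IsRegType p μ.parts) (d : Fin N → ℤ) (hd : ∀ i, 0 ≤ d i) {s : ℕ} (hs : 1 ≤ s) :
    ∑ S ∈ Finset.powersetCard s (Finset.univ : Finset (Fin N)), val μ.parts (up p d S) = 0 := by
  classical
  set f : Finset (Fin N) → ℕ → Fin N → ℤ := fun S t i =>
    val μ.parts (up p d S + Pi.single i ((t * p : ℕ) : ℤ)) with hf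
  set A : ℕ → ℕ → ℤ := fun j t => ∑ x ∈ (Finset.powersetCard j (Finset.univ : Finset (Fin N)) ×ˢ
    Finset.univ).filter (fun x => x.2 ∉ x.1), f x.1 t x.2 with hA
  set B : ℕ → ℕ → ℤ := fun j t => ∑ x ∈ (Finset.powersetCard j (Finset.univ : Finset (Fin N)) ×ˢ
    Finset.univ).filter (fun x => ¬ x.2 ∉ x.1), f x.1 t x.2 with hB
  have hAB : ∀ j t, 1 ≤ t → A j t + B j t = 0 := by
    intro j t ht
    simp only [A, B]
    rw [Finset.sum_filter_add_sum_filter_not, Finset.sum_product]
    refine Finset.sum_eq_zero fun S _ => ?_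
    simp only [f]
    refine shift_relation hn (Nat.mul_pos ht hp) μ (fun h => hμ _ h (Dvd.intro_left t rfl)) _
      fun i => ?_
    have := hd i
    simp only [up]
    split_ifs <;> omega
  have hBA : ∀ j t, B (j + 1) t = A j (t + 1) := by
    intro j t
    refine Finset.sum_bij' (fun x _ => (x.1.erase x.2, x.2)) (fun x _ => (insert x.2 x.1, x.2))
      (fun x hx => ?_) (fun x hx => ?_) (fun x hx => ?_) (fun x hx => ?_) fun x hx => ?_
    all_goals simp only [Finset.mem_filter, Finset.mem_product, Finset.mem_powersetCard,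
      Finset.mem_univ, and_true, not_not, Finset.subset_univ, true_and] at hx ⊢
    · exact ⟨by rw [Finset.card_erase_of_mem hx.2, hx.1, Nat.add_sub_cancel],
        Finset.notMem_erase _ _⟩
    · exact ⟨by rw [Finset.card_insert_of_notMem hx.2, hx.1], Finset.mem_insert_self _ _⟩
    · rw [Finset.insert_erase hx.2]
    · rw [Finset.erase_insert hx.2]
    · simp only [f]
      congr 1
      funext l
      simp only [up, Pi.add_apply, Pi.single_apply, Finset.mem_erase]
      by_cases hl : l = x.2
      · subst hl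
        simp [hx.2]
        ring
      · simp [hl]
  have hzero : ∀ j t, 1 ≤ t → A j t = 0 := by
    intro j
    induction j with
    | zero =>
      intro t ht
      have h0 : B 0 t = 0 := Finset.sum_eq_zero fun x hx => by
        simp only [Finset.mem_filter, Finset.mem_product, Finset.powersetCard_zero,
          Finset.mem_singleton, not_not] at hx
        rw [hx.1.1] at hx
        exact absurd hx.2 (Finset.notMem_empty _)
      have := hAB 0 t ht
      omega
    | succ j ih =>
      intro t ht
      have h1 := hBA j t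
      have h2 := ih (t + 1) (Nat.le_add_left _ _)
      have h3 := hAB (j + 1) t ht
      omega
  obtain ⟨j, rfl⟩ := Nat.exists_eq_add_of_le hs
  have hkey : ((1 + j : ℕ) : ℤ) *
      ∑ S ∈ Finset.powersetCard (1 + j) (Finset.univ : Finset (Fin N)), val μ.parts (up p d S) =
      A j 1 := by
    rw [Finset.mul_sum]
    rw [Finset.sum_congr rfl (g := fun S => ∑ i ∈ S, val μ.parts (up p d S)) fun S hS => by
      rw [Finset.sum_const, (Finset.mem_powersetCard.1 hS).2, nsmul_eq_mul], Finset.sum_sigma']
    refine Finset.sum_bij' (fun x _ => (x.1.erase x.2, x.2)) (fun x _ => ⟨insert x.2 x.1, x.2⟩)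
      (fun x hx => ?_) (fun x hx => ?_) (fun x hx => ?_) (fun x hx => ?_) fun x hx => ?_
    all_goals simp only [Finset.mem_filter, Finset.mem_product, Finset.mem_powersetCard,
      Finset.mem_univ, and_true, Finset.mem_sigma, Finset.subset_univ, true_and] at hx ⊢
    · exact ⟨by rw [Finset.card_erase_of_mem hx.2, hx.1]; omega, Finset.notMem_erase _ _⟩
    · exact ⟨by rw [Finset.card_insert_of_notMem hx.2, hx.1]; omega, Finset.mem_insert_self _ _⟩
    · rw [Finset.insert_erase hx.2]
    · rw [Finset.erase_insert hx.2]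
    · simp only [f]
      congr 1
      funext l
      simp only [up, Pi.add_apply, Pi.single_apply, Finset.mem_erase]
      by_cases hl : l = x.2
      · subst hl
        simp [hx.2]
      · simp [hl]
  rw [hzero j 1 le_rfl] at hkey
  exact (mul_eq_zero.1 hkey).resolve_left (by omega)

/-! ## Spanning by tuples with a gapless runner -/

/-- The values at the regular types. -/
def regVal (p n : ℕ) (v : Fin N → ℤ) : n.Partition → ℚ :=
  fun μ => if IsRegType p μ.parts then (val μ.parts v : ℚ) else 0

theorem regVal_comp (p n : ℕ) (v : Fin N → ℤ) (τ : Perm (Fin N)) :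
    regVal p n (v ∘ τ) = ((Perm.sign τ : ℤ) : ℚ) • regVal p n v := by
  funext μ
  simp only [regVal, Pi.smul_apply, smul_eq_mul, val_comp, Int.cast_mul]
  split_ifs <;> simp

theorem regVal_eq_zero (p n : ℕ) {v : Fin N → ℤ} (h : ¬ IsSt n v) : regVal p n v = 0 := by
  funext μ
  simp only [regVal, Pi.zero_apply]
  split_ifs
  · rw [Int.cast_eq_zero]
    by_contra hne
    exact h (μ.parts_sum ▸ isSt_of_val hne)
  · rfl

/-- A bead of the runner `r` that can move down by `p`. -/
def HasGap (p : ℕ) (r : ZMod p) (v : Fin N → ℤ) : Prop :=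
  ∃ i, (v i : ZMod p) = r ∧ (p : ℤ) ≤ v i ∧ ∀ j, v j ≠ v i - (p : ℤ)

theorem hasGap_comp {p : ℕ} {r : ZMod p} {v : Fin N → ℤ} (τ : Perm (Fin N))
    (h : HasGap p r (v ∘ τ)) : HasGap p r v := by
  obtain ⟨i, h1, h2, h3⟩ := h
  exact ⟨τ i, h1, h2, fun j => by simpa using h3 (τ.symm j)⟩

theorem sum_lt_of_card_le {α : Type*} [DecidableEq α] {s t : Finset α} (f : α → ℤ)
    (hpos : ∀ a ∈ t, 0 < f a) (hlt : ∀ a ∈ s, ∀ b ∈ t, f a < f b) (hcard : s.card ≤ t.card)
    (ht : t.Nonempty) : ∑ a ∈ s, f a < ∑ b ∈ t, f b := by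
  obtain ⟨u, hu, huc⟩ := Finset.exists_subset_card_eq hcard
  rcases s.eq_empty_or_nonempty with rfl | hs
  · rw [Finset.sum_empty]
    exact Finset.sum_pos hpos ht
  obtain ⟨m, hm, hmax⟩ := s.exists_max_image f hs
  calc ∑ a ∈ s, f a ≤ s.card • f m := Finset.sum_le_card_nsmul _ _ _ hmax
    _ = u.card • f m := by rw [huc]
    _ < ∑ b ∈ u, f b := by
        rw [← Finset.sum_const]
        exact Finset.sum_lt_sum_of_nonempty (Finset.card_pos.1 (huc ▸ hs.card_pos))
          fun b hb => hlt m hm b (hu hb)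
    _ ≤ ∑ b ∈ t, f b := Finset.sum_le_sum_of_subset_of_nonneg hu fun b hb _ => (hpos b hb).le

/-- The potential of the runner `r`. -/
def pot (p : ℕ) (r : ZMod p) (v : Fin N → ℤ) : ℤ :=
  ∑ i ∈ Finset.univ.filter (fun i => (v i : ZMod p) = r), v i * v i

theorem pot_up (p : ℕ) (r : ZMod p) (d : Fin N → ℤ) (S : Finset (Fin N)) :
    pot p r (up p d S) = pot p r d +
      ∑ i ∈ S.filter (fun i => (d i : ZMod p) = r), (2 * d i + p) * p := by
  classical
  have h : (Finset.univ.filter fun i => (up p d S i : ZMod p) = r) =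
      Finset.univ.filter fun i => (d i : ZMod p) = r := Finset.filter_congr fun i _ => by
    simp only [up, Int.cast_add]
    split_ifs <;> simp
  have h2 : S.filter (fun i => (d i : ZMod p) = r) =
      (Finset.univ.filter fun i => (d i : ZMod p) = r).filter (fun i => i ∈ S) := by
    ext i; simp [and_comm]
  rw [pot, pot, h, h2, Finset.sum_filter (p := fun i => i ∈ S), ← Finset.sum_add_distrib]
  refine Finset.sum_congr rfl fun i _ => ?_
  simp only [up]
  split_ifs <;> ring

theorem regVal_sort {n : ℕ} (p : ℕ) (v : Fin N → ℤ) :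
    regVal p n v = ((Perm.sign (Tuple.sort v) : ℤ) : ℚ) • regVal p n (v ∘ Tuple.sort v) := by
  rw [regVal_comp, smul_smul, ← Int.cast_mul, ← Units.val_mul, Int.units_mul_self, Units.val_one,
    Int.cast_one, one_smul]

/-- The regular values of a core class are spanned by the tuples with runner `r` gapless. -/
theorem regVal_mem_span {n p : ℕ} (hn : n ≤ N) (hp : 1 ≤ p) (r : ZMod p) :
    ∀ (P : ℕ) (v : Fin N → ℤ), IsSt n v → (pot p r v).toNat = P →
      regVal p n v ∈ Submodule.span ℚ {x | ∃ a ∈ incSt N n,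
        cnt p a = cnt p v ∧ ¬ HasGap p r a ∧ x = regVal p n a} := by
  classical
  intro P
  induction P using Nat.strong_induction_on with
  | _ P ih =>
  intro v hv hP
  by_cases hgap : HasGap p r v
  swap
  · rw [regVal_sort p v]
    refine Submodule.smul_mem _ _ (Submodule.subset_span ⟨v ∘ Tuple.sort v, ?_, cnt_comp _ _ _,
      fun h => hgap (hasGap_comp _ h), rfl⟩)
    exact mem_incSt.2 ⟨isSt_comp hv _, sort_strictMono hv.2.1⟩
  obtain ⟨i0, hres, hp0, hfree⟩ := hgap
  set S := Finset.univ.filter fun i => (v i : ZMod p) = r ∧ v i0 ≤ v i with hS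
  set d : Fin N → ℤ := fun l => v l - if l ∈ S then (p : ℤ) else 0 with hdd
  have hmemS : ∀ {i}, i ∈ S ↔ (v i : ZMod p) = r ∧ v i0 ≤ v i := by simp [S]
  have hd0 : ∀ l, 0 ≤ d l := by
    intro l
    have := hv.1 l
    simp only [d]
    split_ifs with hl
    · have := (hmemS.1 hl).2; omega
    · omega
  have hup : up p d S = v := by funext l; simp only [up, d]; split_ifs <;> ring
  have hne : S.Nonempty := ⟨i0, hmemS.2 ⟨hres, le_rfl⟩⟩
  have hrel : regVal p n v = - ∑ T ∈ (Finset.powersetCard S.card
      (Finset.univ : Finset (Fin N))).erase S, regVal p n (up p d T) := by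
    rw [eq_neg_iff_add_eq_zero]
    conv_lhs => arg 1; rw [← hup]
    rw [Finset.add_sum_erase (Finset.powersetCard S.card (Finset.univ : Finset (Fin N)))
      (fun T => regVal p n (up p d T)) (Finset.mem_powersetCard.2 ⟨Finset.subset_univ _, rfl⟩)]
    funext μ
    rw [Finset.sum_apply, Pi.zero_apply]
    by_cases hμ : IsRegType p μ.parts
    · simp only [regVal, if_pos hμ, ← Int.cast_sum,
        elementary_relation hn hp μ hμ d hd0 hne.card_pos, Int.cast_zero]
    · simp [regVal, hμ]
  rw [hrel]
  refine Submodule.neg_mem _ (Submodule.sum_mem _ fun T hT => ?_)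
  obtain ⟨hTS, hT⟩ := Finset.mem_erase.1 hT
  have hTc := (Finset.mem_powersetCard.1 hT).2
  by_cases hst : IsSt n (up p d T)
  swap
  · rw [regVal_eq_zero p n hst]
    exact Submodule.zero_mem _
  have hcd : ∀ l, (d l : ZMod p) = (v l : ZMod p) := by
    intro l
    simp only [d]
    split_ifs <;> simp
  have hcnt : cnt p (up p d T) = cnt p v := by rw [cnt_up, cnt_congr p hcd]
  have hlt : pot p r (up p d T) < pot p r v := by
    conv_rhs => rw [← hup]
    rw [pot_up, pot_up, add_lt_add_iff_left]
    have hSf : S.filter (fun i => (d i : ZMod p) = r) = S :=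
      Finset.filter_true_of_mem fun i hi => by rw [hcd]; exact (hmemS.1 hi).1
    rw [hSf]
    set A := T.filter fun i => (d i : ZMod p) = r
    rw [← Finset.sum_inter_add_sum_sdiff A S, ← Finset.sum_inter_add_sum_sdiff S A,
      Finset.inter_comm S A, add_lt_add_iff_left]
    have hAT : A ⊆ T := Finset.filter_subset _ _
    have hAc : A.card ≤ S.card := hTc ▸ Finset.card_le_card hAT
    refine sum_lt_of_card_le _ (fun i hi => ?_) (fun a ha b hb => ?_) ?_ ?_
    · have := hd0 i
      positivity
    · obtain ⟨haA, haS⟩ := Finset.mem_sdiff.1 ha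
      have hbS := (Finset.mem_sdiff.1 hb).1
      have har : (v a : ZMod p) = r := hcd a ▸ (Finset.mem_filter.1 haA).2
      have h1 : v a < v i0 := by
        by_contra hh
        exact haS (hmemS.2 ⟨har, not_lt.1 hh⟩)
      have hdvd : (p : ℤ) ∣ v i0 - v a := by
        rw [← ZMod.intCast_zmod_eq_zero_iff_dvd, Int.cast_sub, hres, har, sub_self]
      obtain ⟨c, hc⟩ := hdvd
      have hc1 : c ≠ 1 := by
        intro h
        rw [h, mul_one] at hc
        exact hfree a (by omega)
      have hc2 : 2 ≤ c := by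
        rcases le_or_gt c 0 with h | h
        · exfalso; nlinarith
        · omega
      have hda : d a = v a := by simp only [d, if_neg haS, sub_zero]
      have hdb : d b = v b - p := by simp only [d, if_pos hbS]
      have hb2 := (hmemS.1 hbS).2
      have hab : d a < d b := by nlinarith
      have hp' : (0 : ℤ) < p := by exact_mod_cast hp
      nlinarith
    · rw [← Nat.add_le_add_iff_left (n := (A ∩ S).card), Finset.card_inter_add_card_sdiff,
        Finset.inter_comm A S, Finset.card_inter_add_card_sdiff]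
      exact hAc
    · rw [Finset.sdiff_nonempty]
      intro hsub
      exact hTS (Finset.eq_of_subset_of_card_le (hsub.trans hAT) hTc.le).symm
  have hmem := ih _ (hP ▸ (Int.toNat_lt_toNat (by
    have : 0 ≤ pot p r (up p d T) := Finset.sum_nonneg fun i _ => mul_self_nonneg _
    omega)).2 hlt) _ hst rfl
  rw [hcnt] at hmem
  exact hmem

/-! ## Nakayama's grading -/

/-- The inner product on regular types. -/
def proj (p n : ℕ) (a b : Fin N → ℤ) : ℚ :=
  avg n fun μ => if IsRegType p μ then (val μ a : ℚ) * (val μ b : ℚ) else 0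

theorem proj_symm (p n : ℕ) (a b : Fin N → ℤ) : proj p n a b = proj p n b a := by
  simp only [proj, mul_comm]

open scoped Classical in
theorem proj_fixed {n p : ℕ} (hn : n ≤ N) {a b : Fin N → ℤ} (ha : IsSt n a)
    (c : ZMod p → ℕ) :
    ∑ e ∈ incSt N n, proj p n a e * (if cnt p e = c then proj p n e b else 0) =
      if cnt p a = c then proj p n a b else 0 := by
  classical
  set h : (Fin N → ℤ) → ℚ := fun e => if cnt p e = c then proj p n e b else 0 with hh
  have halt : ∀ v (τ : Perm (Fin N)), h (v ∘ τ) = ((Perm.sign τ : ℤ) : ℚ) * h v := by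
    intro v τ
    simp only [h, cnt_comp]
    split_ifs
    · simp only [proj, avg, val_comp, Int.cast_mul, Finset.mul_sum]
      refine Finset.sum_congr rfl fun μ _ => ?_
      split_ifs <;> ring
    · rw [mul_zero]
  change ∑ e ∈ incSt N n, proj p n a e * h e = h a
  rw [expand halt ha, avg]
  simp only [proj, avg, Finset.sum_mul]
  rw [Finset.sum_comm]
  refine Finset.sum_congr rfl fun μ _ => ?_
  rw [Finset.mul_sum, Finset.sum_div]
  by_cases hμ : IsRegType p μ.parts
  · exact Finset.sum_congr rfl fun e _ => by rw [if_pos hμ]; ring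
  simp only [if_neg hμ, zero_div, zero_mul, Finset.sum_const_zero]
  symm
  rw [← Finset.sum_div, ← Finset.mul_sum]
  suffices h0 : ∑ e ∈ incSt N n, h e * (val μ.parts e : ℚ) = 0 by rw [h0, mul_zero, zero_div]
  obtain ⟨k, hk, hpk⟩ : ∃ k ∈ μ.parts, p ∣ k := by
    simpa [IsRegType] using hμ
  have hN : (N.factorial : ℚ) ≠ 0 := by exact_mod_cast N.factorial_ne_zero
  refine (mul_eq_zero.1 ?_).resolve_left hN
  rw [← sum_allSt n _ (fun v τ => by
    simp only [halt, val_comp, Int.cast_mul]
    have h2 : ((Perm.sign τ : ℤ) : ℚ) * ((Perm.sign τ : ℤ) : ℚ) = 1 := by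
      rw [← Int.cast_mul, ← Units.val_mul, Int.units_mul_self, Units.val_one, Int.cast_one]
    linear_combination (h v * (val μ.parts v : ℚ)) * h2)]
  have hkn : k ≤ n := μ.le_of_mem_parts hk
  rw [← Multiset.cons_erase hk, adjoint hkn (by
    have := congrArg Multiset.sum (Multiset.cons_erase hk)
    rw [Multiset.sum_cons, μ.parts_sum] at this
    omega) fun v hv => alt_eq_zero halt hv]
  refine Finset.sum_eq_zero fun e he => mul_eq_zero_of_right _ ?_
  simp only [h, cnt_add_single p e (Int.natCast_dvd_natCast.2 hpk)]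
  split_ifs
  swap
  · exact Finset.sum_const_zero
  simp only [proj, avg]
  rw [Finset.sum_comm]
  refine Finset.sum_eq_zero fun ν _ => ?_
  by_cases hν : IsRegType p ν.parts
  · simp only [if_pos hν, ← Finset.sum_div, ← Finset.sum_mul, ← Int.cast_sum]
    rw [shift_relation hn (μ.parts_pos hk) ν (fun hmem => hν k hmem hpk) e (mem_allSt.1 he).1]
    simp
  · simp [hν]

/-- Tuples with different cores are orthogonal on the regular types. -/
theorem proj_eq_zero {n p : ℕ} (hn : n ≤ N) {a b : Fin N → ℤ} (ha : IsSt n a) (hb : IsSt n b)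
    (hne : cnt p a ≠ cnt p b) : proj p n a b = 0 := by
  classical
  have h1 := proj_fixed (b := b) hn ha (cnt p a)
  have h2 := proj_fixed (b := a) hn hb (cnt p a)
  rw [if_pos rfl] at h1
  rw [if_neg (Ne.symm hne)] at h2
  refine h1.symm.trans (Eq.trans ?_ h2)
  refine Finset.sum_congr rfl fun e _ => ?_
  split_ifs
  · rw [proj_symm p n a e, proj_symm p n e b, mul_comm]
  · rw [mul_zero, mul_zero]

end Cfsg.Agent.SymRank
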